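import Mathlib

/-!
# Codes for abelian groups with four generators
-/

set_option autoImplicit false

namespace CfsgLib.L32Radical

/-- The orders of four generators. -/
structure Dim where
  /-- order of the first generator -/
  m0 : ℕ
  /-- order of the second generator -/
  m1 : ℕ
  /-- order of the third generator -/
  m2 : ℕ
  /-- order of the fourth generator -/
  m3 : ℕ
  h0 : 0 < m0
  h1 : 0 < m1
  h2 : 0 < m2
  h3 : 0 < m3

/-- Four numbers. -/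
abbrev Quad := ℕ × ℕ × ℕ × ℕ

namespace Dim

variable (d : Dim)

/-- The number of codes. -/
def size : ℕ := d.m0 * (d.m1 * (d.m2 * d.m3))

/-- The code of four exponents. -/
def enc (v : Quad) : ℕ :=
  v.1 % d.m0 + d.m0 * (v.2.1 % d.m1 + d.m1 * (v.2.2.1 % d.m2 + d.m2 * (v.2.2.2 % d.m3)))

/-- The exponents of a code. -/
def dig (a : ℕ) : Quad :=
  (a % d.m0, a / d.m0 % d.m1, a / d.m0 / d.m1 % d.m2, a / d.m0 / d.m1 / d.m2 % d.m3)

/-- Addition of codes. -/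
def add (a b : ℕ) : ℕ :=
  d.enc ((d.dig a).1 + (d.dig b).1, (d.dig a).2.1 + (d.dig b).2.1,
    (d.dig a).2.2.1 + (d.dig b).2.2.1, (d.dig a).2.2.2 + (d.dig b).2.2.2)

/-- Negation of codes. -/
def neg (a : ℕ) : ℕ :=
  d.enc (d.m0 - (d.dig a).1, d.m1 - (d.dig a).2.1, d.m2 - (d.dig a).2.2.1, d.m3 - (d.dig a).2.2.2)

/-- The linear map with the given values on the generators. -/
def ap (c : Quad) (a : ℕ) : ℕ :=
  let x := d.dig a
  let p := d.dig c.1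
  let q := d.dig c.2.1
  let r := d.dig c.2.2.1
  let s := d.dig c.2.2.2
  d.enc (x.1 * p.1 + x.2.1 * q.1 + x.2.2.1 * r.1 + x.2.2.2 * s.1,
    x.1 * p.2.1 + x.2.1 * q.2.1 + x.2.2.1 * r.2.1 + x.2.2.2 * s.2.1,
    x.1 * p.2.2.1 + x.2.1 * q.2.2.1 + x.2.2.1 * r.2.2.1 + x.2.2.2 * s.2.2.1,
    x.1 * p.2.2.2 + x.2.1 * q.2.2.2 + x.2.2.1 * r.2.2.2 + x.2.2.2 * s.2.2.2)

/-- The mod 2 code. -/
def code (a : ℕ) : ℕ :=
  (d.dig a).1 % 2 + 2 * ((d.dig a).2.1 % 2) + 4 * ((d.dig a).2.2.1 % 2) + 8 * ((d.dig a).2.2.2 % 2)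

/-- The four generators. -/
def gens : Quad := (d.enc (1, 0, 0, 0), d.enc (0, 1, 0, 0), d.enc (0, 0, 1, 0), d.enc (0, 0, 0, 1))

theorem dig_enc (v : Quad) :
    d.dig (d.enc v) = (v.1 % d.m0, v.2.1 % d.m1, v.2.2.1 % d.m2, v.2.2.2 % d.m3) := by
  obtain ⟨a, b, c, e⟩ := v
  have h0 : ∀ x, (a % d.m0 + d.m0 * x) / d.m0 = x := fun x => by
    rw [Nat.add_mul_div_left _ _ d.h0, Nat.div_eq_of_lt (Nat.mod_lt _ d.h0), zero_add]
  have h1 : ∀ x, (b % d.m1 + d.m1 * x) / d.m1 = x := fun x => by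
    rw [Nat.add_mul_div_left _ _ d.h1, Nat.div_eq_of_lt (Nat.mod_lt _ d.h1), zero_add]
  have h2 : ∀ x, (c % d.m2 + d.m2 * x) / d.m2 = x := fun x => by
    rw [Nat.add_mul_div_left _ _ d.h2, Nat.div_eq_of_lt (Nat.mod_lt _ d.h2), zero_add]
  simp only [dig, enc, h0, h1, h2, Nat.add_mul_mod_self_left, Nat.mod_mod]

theorem enc_lt (v : Quad) : d.enc v < d.size := by
  have key : ∀ {m n x y : ℕ}, 0 < m → y < n → x % m + m * y < m * n := by
    intro m n x y hm hy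
    have h := Nat.mod_lt x hm
    calc x % m + m * y < m + m * y := by omega
      _ = m * (y + 1) := by ring
      _ ≤ m * n := Nat.mul_le_mul_left m hy
  exact key d.h0 (key d.h1 (key d.h2 (Nat.mod_lt _ d.h3)))

theorem add_lt (a b : ℕ) : d.add a b < d.size := d.enc_lt _

theorem neg_lt (a : ℕ) : d.neg a < d.size := d.enc_lt _

theorem ap_lt (c : Quad) (a : ℕ) : d.ap c a < d.size := d.enc_lt _

theorem size_pos : 0 < d.size :=
  Nat.mul_pos d.h0 (Nat.mul_pos d.h1 (Nat.mul_pos d.h2 d.h3))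

theorem enc_dig {a : ℕ} (ha : a < d.size) : d.enc (d.dig a) = a := by
  have h3 : a / d.m0 / d.m1 / d.m2 < d.m3 := by
    rw [Nat.div_div_eq_div_mul, Nat.div_div_eq_div_mul, Nat.div_lt_iff_lt_mul
      (Nat.mul_pos d.h0 (Nat.mul_pos d.h1 d.h2))]
    unfold size at ha
    calc a < d.m0 * (d.m1 * (d.m2 * d.m3)) := ha
      _ = d.m3 * (d.m0 * (d.m1 * d.m2)) := by ring
  simp only [enc, dig, Nat.mod_mod, Nat.mod_eq_of_lt h3]
  rw [Nat.mod_add_div (a / d.m0 / d.m1) d.m2, Nat.mod_add_div (a / d.m0) d.m1, Nat.mod_add_div]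

end Dim

variable {G : Type*} [Group G]

/-- Commuting elements of the given orders. -/
structure Frame (G : Type*) [Group G] (d : Dim) where
  /-- first generator -/
  u0 : G
  /-- second generator -/
  u1 : G
  /-- third generator -/
  u2 : G
  /-- fourth generator -/
  u3 : G
  o0 : u0 ^ d.m0 = 1
  o1 : u1 ^ d.m1 = 1
  o2 : u2 ^ d.m2 = 1
  o3 : u3 ^ d.m3 = 1
  c01 : Commute u0 u1
  c02 : Commute u0 u2
  c03 : Commute u0 u3
  c12 : Commute u1 u2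
  c13 : Commute u1 u3
  c23 : Commute u2 u3

namespace Frame

variable {d : Dim} (F : Frame G d)

/-- The product with the given exponents. -/
def prod (v : Quad) : G := F.u0 ^ v.1 * F.u1 ^ v.2.1 * F.u2 ^ v.2.2.1 * F.u3 ^ v.2.2.2

/-- The element with the given code. -/
def val (a : ℕ) : G := F.prod (d.dig a)

theorem val_enc (v : Quad) : F.val (d.enc v) = F.prod v := by
  rw [val, d.dig_enc, prod, prod, ← pow_eq_pow_mod _ F.o0, ← pow_eq_pow_mod _ F.o1,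
    ← pow_eq_pow_mod _ F.o2, ← pow_eq_pow_mod _ F.o3]

theorem prod_add (v w : Quad) : F.prod (v.1 + w.1, v.2.1 + w.2.1, v.2.2.1 + w.2.2.1,
    v.2.2.2 + w.2.2.2) = F.prod v * F.prod w := by
  obtain ⟨a, b, c, e⟩ := v
  obtain ⟨a', b', c', e'⟩ := w
  simp only [prod, pow_add]
  have h1 : Commute (F.u1 ^ b * F.u2 ^ c * F.u3 ^ e) (F.u0 ^ a') :=
    (((F.c01.symm.pow_pow b a').mul_left (F.c02.symm.pow_pow c a')).mul_left
      (F.c03.symm.pow_pow e a'))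
  have h2 : Commute (F.u2 ^ c * F.u3 ^ e) (F.u1 ^ b') :=
    (F.c12.symm.pow_pow c b').mul_left (F.c13.symm.pow_pow e b')
  have h3 : Commute (F.u3 ^ e) (F.u2 ^ c') := F.c23.symm.pow_pow e c'
  calc F.u0 ^ a * F.u0 ^ a' * (F.u1 ^ b * F.u1 ^ b') * (F.u2 ^ c * F.u2 ^ c') *
        (F.u3 ^ e * F.u3 ^ e')
      = F.u0 ^ a * F.u0 ^ a' * F.u1 ^ b * (F.u1 ^ b' * F.u2 ^ c) *
          (F.u2 ^ c' * F.u3 ^ e) * F.u3 ^ e' := by group
    _ = F.u0 ^ a * F.u0 ^ a' * F.u1 ^ b * (F.u1 ^ b' * F.u2 ^ c) *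
          (F.u3 ^ e * F.u2 ^ c') * F.u3 ^ e' := by rw [← h3.eq]
    _ = F.u0 ^ a * F.u0 ^ a' * F.u1 ^ b * (F.u1 ^ b' * (F.u2 ^ c * F.u3 ^ e)) *
          F.u2 ^ c' * F.u3 ^ e' := by group
    _ = F.u0 ^ a * (F.u0 ^ a' * (F.u1 ^ b * F.u2 ^ c * F.u3 ^ e)) *
          F.u1 ^ b' * F.u2 ^ c' * F.u3 ^ e' := by rw [← h2.eq]; group
    _ = F.u0 ^ a * ((F.u1 ^ b * F.u2 ^ c * F.u3 ^ e) * F.u0 ^ a') *
          F.u1 ^ b' * F.u2 ^ c' * F.u3 ^ e' := by rw [h1.eq]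
    _ = F.u0 ^ a * F.u1 ^ b * F.u2 ^ c * F.u3 ^ e *
          (F.u0 ^ a' * F.u1 ^ b' * F.u2 ^ c' * F.u3 ^ e') := by group

theorem val_add (a b : ℕ) : F.val (d.add a b) = F.val a * F.val b := by
  rw [Dim.add, val_enc, prod_add]; rfl

theorem val_zero : F.val 0 = 1 := by
  simp [val, prod, Dim.dig]

theorem val_comm (a b : ℕ) : F.val a * F.val b = F.val b * F.val a := by
  rw [← val_add, ← val_add]
  simp only [Dim.add, Nat.add_comm]

theorem val_neg (a : ℕ) : F.val (d.neg a) = (F.val a)⁻¹ := by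
  rw [eq_inv_iff_mul_eq_one, ← val_add, Dim.add, val_enc]
  have key : ∀ {m : ℕ} (g : G) (k : ℕ), 0 < m → g ^ m = 1 → g ^ ((m - k % m) % m + k % m) = 1 := by
    intro m g k hm hg
    rw [pow_add, ← pow_eq_pow_mod _ hg, ← pow_add, Nat.sub_add_cancel (Nat.mod_lt k hm).le, hg]
  simp only [prod, Dim.neg, d.dig_enc]
  simp only [Dim.dig]
  rw [key _ _ d.h0 F.o0, key _ _ d.h1 F.o1, key _ _ d.h2 F.o2, key _ _ d.h3 F.o3]
  simp

theorem prod_smul (n : ℕ) (v : Quad) :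
    F.prod (n * v.1, n * v.2.1, n * v.2.2.1, n * v.2.2.2) = F.prod v ^ n := by
  induction n with
  | zero => simp [prod]
  | succ n ih => rw [pow_succ, ← ih, ← prod_add]; simp only [Nat.succ_mul]

theorem map_val (σ : G →* G) {c : Quad} (h0 : σ F.u0 = F.val c.1) (h1 : σ F.u1 = F.val c.2.1)
    (h2 : σ F.u2 = F.val c.2.2.1) (h3 : σ F.u3 = F.val c.2.2.2) (a : ℕ) :
    σ (F.val a) = F.val (d.ap c a) := by
  rw [Dim.ap, val_enc, val, prod, map_mul, map_mul, map_mul, map_pow, map_pow, map_pow, map_pow,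
    h0, h1, h2, h3]
  simp only [val, ← prod_smul, ← prod_add]

theorem conj_val {x : G} {c : Quad} (h0 : x * F.u0 * x⁻¹ = F.val c.1)
    (h1 : x * F.u1 * x⁻¹ = F.val c.2.1) (h2 : x * F.u2 * x⁻¹ = F.val c.2.2.1)
    (h3 : x * F.u3 * x⁻¹ = F.val c.2.2.2) (a : ℕ) :
    x * F.val a * x⁻¹ = F.val (d.ap c a) :=
  F.map_val (MulAut.conj x).toMonoidHom h0 h1 h2 h3 a

end Frame

end CfsgLib.L32Radical
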