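import Cfsg.Prelude
import Cfsg.Agent.S4400
import Cfsg.Agent.L32Radical.Codes

/-!
# An elementary abelian section of order 32 from a coded abelian subgroup
-/

set_option autoImplicit false
set_option linter.style.haveILetI false

namespace CfsgLib.L32Radical

open Cfsg
open scoped commutatorElement

/-- Composition of generator maps along a word (`false` for `x`, `true` for `y`). -/
def apWord (d : Dim) (A B : Quad) : List Bool → ℕ → ℕ
  | [], a => a
  | g :: l, a => d.ap (cond g B A) (apWord d A B l a)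

/-- The element of a word. -/
def wordVal {G : Type*} [Group G] (x y : G) : List Bool → G
  | [] => 1
  | g :: l => cond g y x * wordVal x y l

/-- A certificate: maps and two subgroups of codes. -/
structure Cert where
  /-- action of the first generator -/
  A : Quad
  /-- action of the commutator -/
  U : Quad
  /-- action of its square -/
  Ka : Quad
  /-- action of the conjugating element -/
  Gc : Quad
  /-- action of the conjugate of the square -/
  Kb : Quad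
  /-- the small subgroup -/
  T : List ℕ
  /-- the large subgroup -/
  S : List ℕ

/-- The conditions on a certificate. -/
structure Good (d : Dim) (B : Quad) (w : List Bool) (c : Cert) : Prop where
  hT : 0 ∈ c.T ∧ (∀ a ∈ c.T, a < d.size ∧ a ∈ c.S) ∧ ∀ a ∈ c.T, ∀ b ∈ c.T, d.add a b ∈ c.T
  hS : c.S.Nodup ∧ 0 ∈ c.S ∧ (∀ a ∈ c.S, a < d.size) ∧ ∀ a ∈ c.S, ∀ b ∈ c.S, d.add a b ∈ c.S
  sq : ∀ a ∈ c.S, d.add a a ∈ c.T
  shift : ∀ a ∈ c.S, d.add (d.ap c.Ka a) (d.neg a) ∈ c.T ∧ d.add (d.ap c.Kb a) (d.neg a) ∈ c.T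
  fixT : ∀ a ∈ c.T, d.ap c.Ka a = a ∧ d.ap c.Kb a = a ∧ d.ap c.Gc a ∈ c.T
  hU : ∀ a ∈ List.range d.size, d.ap c.U a = d.ap c.A (d.ap B (d.ap c.A (d.ap B (d.ap B a))))
  hKa : ∀ a ∈ List.range d.size, d.ap c.Ka a = d.ap c.U (d.ap c.U a)
  hG : ∀ a ∈ List.range d.size, d.ap c.Gc a = apWord d c.A B w a
  hKb : ∀ a ∈ List.range d.size, d.ap c.Kb (d.ap c.Gc a) = d.ap c.Gc (d.ap c.Ka a)
  four : ∀ e ∈ List.range d.size, d.ap c.U e = e →
    (∃ t ∈ List.range d.size, d.ap c.A t = t ∧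
      d.add (d.ap c.A e) e =
        d.add (d.add (d.add t (d.neg (d.ap B t))) (d.ap c.U (d.add t (d.neg (d.ap B t)))))
          (d.add (d.ap c.Ka (d.add t (d.neg (d.ap B t))))
            (d.ap c.U (d.ap c.Ka (d.add t (d.neg (d.ap B t))))))) →
    ∃ m ∈ List.range d.size, d.add (d.add (d.ap c.Ka m) m) e ∈ c.T
  gamma : ∀ g ∈ List.range d.size, d.add (d.ap c.Ka g) g = 0 → d.add (d.ap c.Kb g) g = 0 →
    ∃ m ∈ List.range d.size, d.add (d.ap c.Kb m) m ∈ c.T ∧
      d.add (d.add (d.ap c.Ka m) (d.neg m)) g ∈ c.T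
  moves : (∃ a ∈ List.range d.size, d.ap c.Ka a ≠ a) ∧ (∃ a ∈ List.range d.size, d.ap c.Kb a ≠ a) ∧
    ∃ a ∈ List.range d.size, d.ap c.Ka (d.ap c.Kb a) ≠ a
  count : 32 * c.T.length ≤ 4 * c.S.length

variable {G : Type*} [Group G] [Finite G] {d : Dim}

omit [Finite G] in
theorem conj_word (F : Frame G d) {x y : G} {A B : Quad}
    (hx : ∀ a, x * F.val a * x⁻¹ = F.val (d.ap A a))
    (hy : ∀ a, y * F.val a * y⁻¹ = F.val (d.ap B a)) :
    ∀ (w : List Bool) (a : ℕ),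
      wordVal x y w * F.val a * (wordVal x y w)⁻¹ = F.val (apWord d A B w a) := by
  intro w
  induction w with
  | nil => intro a; simp [wordVal, apWord]
  | cons g l ih =>
    intro a
    rw [wordVal, apWord, show cond g y x * wordVal x y l * F.val a * (cond g y x * wordVal x y l)⁻¹ =
      cond g y x * (wordVal x y l * F.val a * (wordVal x y l)⁻¹) * (cond g y x)⁻¹ by group, ih]
    cases g
    · exact hx _
    · exact hy _

theorem apWord_lt {A B : Quad} : ∀ (w : List Bool) (a : ℕ), a < d.size → apWord d A B w a < d.size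
  | [], _, ha => ha
  | _ :: _, _, _ => d.ap_lt _ _

set_option maxHeartbeats 1600000 in
/-- A group with a certified configuration has sectional 2-rank at least five. -/
theorem false_of_good (hr : SectionalPRankLE 2 4 G) (F : Frame G d)
    (hinj : ∀ a < d.size, ∀ b < d.size, F.val a = F.val b → a = b) {x y : G}
    {B : Quad} {w : List Bool} {c : Cert} (hc : Good d B w c)
    (hx : ∀ a, x * F.val a * x⁻¹ = F.val (d.ap c.A a))
    (hy : ∀ a, y * F.val a * y⁻¹ = F.val (d.ap B a))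
    (hB : ∀ a ∈ List.range d.size, d.ap B (d.ap B (d.ap B a)) = a)
    (hA : ∀ a ∈ List.range d.size, d.ap c.A (d.ap c.A a) = a)
    (hxx : ∃ a < d.size, x * x = F.val a)
    (hu4 : ∃ a < d.size, (x * y * x⁻¹ * y⁻¹) ^ 4 = F.val a)
    (hgam : ∀ m n : ℕ, ∃ a < d.size,
      ⁅F.val m * (x * y * x⁻¹ * y⁻¹) ^ 2,
        F.val n * (wordVal x y w * (x * y * x⁻¹ * y⁻¹) ^ 2 * (wordVal x y w)⁻¹)⁆ = F.val a) :
    False := by
  classical
  set u := x * y * x⁻¹ * y⁻¹ with hu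
  set g := wordVal x y w with hgdef
  have r : ∀ {a : ℕ}, a < d.size → a ∈ List.range d.size := fun h => List.mem_range.2 h
  have hU : ∀ a < d.size, u * F.val a * u⁻¹ = F.val (d.ap c.U a) := by
    intro a ha
    have hyi : ∀ b < d.size, y⁻¹ * F.val b * y = F.val (d.ap B (d.ap B b)) := fun b hb => by
      have h := hy (d.ap B (d.ap B b))
      rw [hB b (r hb)] at h
      rw [← h]; group
    have hxi : ∀ b < d.size, x⁻¹ * F.val b * x = F.val (d.ap c.A b) := fun b hb => by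
      have h := hx (d.ap c.A b)
      rw [hA b (r hb)] at h
      rw [← h]; group
    rw [hc.hU a (r ha), hu, show x * y * x⁻¹ * y⁻¹ * F.val a * (x * y * x⁻¹ * y⁻¹)⁻¹ =
      x * (y * (x⁻¹ * (y⁻¹ * F.val a * y) * x) * y⁻¹) * x⁻¹ by group, hyi a ha,
      hxi _ (d.ap_lt _ _), hy, hx]
  have hKa : ∀ a < d.size, u ^ 2 * F.val a * (u ^ 2)⁻¹ = F.val (d.ap c.Ka a) := fun a ha => by
    rw [hc.hKa a (r ha), show u ^ 2 * F.val a * (u ^ 2)⁻¹ = u * (u * F.val a * u⁻¹) * u⁻¹ by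
      rw [pow_two]; group, hU a ha, hU _ (d.ap_lt _ _)]
  have hG : ∀ a < d.size, g * F.val a * g⁻¹ = F.val (d.ap c.Gc a) := fun a ha => by
    rw [hc.hG a (r ha), conj_word F hx hy]
  have hGsurj : ∀ b < d.size, ∃ a < d.size, d.ap c.Gc a = b := by
    have hmaps : Set.MapsTo (d.ap c.Gc) (Finset.range d.size) (Finset.range d.size) := fun a _ =>
      Finset.mem_range.2 (d.ap_lt _ _)
    intro b hb
    obtain ⟨a, ha, h⟩ := Finset.surj_on_of_inj_on_of_card_le (fun a _ => d.ap c.Gc a)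
      (fun a ha => hmaps ha) (fun a a' ha ha' h => hinj a (Finset.mem_range.1 ha) a'
        (Finset.mem_range.1 ha') (by
          have h1 := hG a (Finset.mem_range.1 ha)
          rw [show d.ap c.Gc a = d.ap c.Gc a' from h, ← hG a' (Finset.mem_range.1 ha')] at h1
          exact mul_left_cancel (mul_right_cancel h1))) le_rfl b (Finset.mem_range.2 hb)
    exact ⟨a, Finset.mem_range.1 ha, h.symm⟩
  have hKb : ∀ a < d.size, g * u ^ 2 * g⁻¹ * F.val a * (g * u ^ 2 * g⁻¹)⁻¹ =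
      F.val (d.ap c.Kb a) := by
    intro b hb
    obtain ⟨a, ha, rfl⟩ := hGsurj b hb
    rw [hc.hKb a (r ha), ← hG a ha, show g * u ^ 2 * g⁻¹ * (g * F.val a * g⁻¹) * (g * u ^ 2 * g⁻¹)⁻¹ =
      g * (u ^ 2 * F.val a * (u ^ 2)⁻¹) * g⁻¹ by group, hKa a ha, hG _ (d.ap_lt _ _)]
  -- the fourth power of the commutator
  obtain ⟨e, he, hue⟩ := hu4
  obtain ⟨t, ht, hxt⟩ := hxx
  have hUe : d.ap c.U e = e := hinj _ (d.ap_lt _ _) e he (by
    rw [← hU e he, ← hue]; group)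
  have hAt : d.ap c.A t = t := hinj _ (d.ap_lt _ _) t ht (by
    rw [← hx t, ← hxt]; group)
  set s := d.add t (d.neg (d.ap B t)) with hs
  have hxu : x * u * x⁻¹ = F.val s * u⁻¹ := by
    have hc2 : F.val (d.ap B t) = y * (x * x) * y⁻¹ := by rw [hxt, hy]
    rw [hs, F.val_add, F.val_neg, hc2, ← hxt, hu]
    group
  clear_value s
  have hsum : d.add (d.ap c.A e) e = d.add (d.add s (d.ap c.U s))
      (d.add (d.ap c.Ka s) (d.ap c.U (d.ap c.Ka s))) := by
    refine hinj _ (d.add_lt _ _) _ (d.add_lt _ _) ?_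
    have hs' : s < d.size := hs ▸ d.add_lt _ _
    have hi : ∀ b < d.size, u⁻¹ * F.val b * u = F.val (d.ap c.U (d.ap c.Ka b)) := fun b hb => by
      rw [← hU _ (d.ap_lt _ _), ← hKa b hb,
        show u * (u ^ 2 * F.val b * (u ^ 2)⁻¹) * u⁻¹ = u⁻¹ * (u ^ 4 * F.val b * (u ^ 4)⁻¹) * u by
          group, hue, F.val_comm e b, mul_inv_cancel_right]
    have h3 : u⁻¹ ^ 3 * F.val s * u ^ 3 = F.val (d.ap c.U s) := by
      rw [← hU s hs', show u⁻¹ ^ 3 * F.val s * u ^ 3 =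
        u * ((u ^ 4)⁻¹ * F.val s * u ^ 4) * u⁻¹ by group, hue, ← F.val_neg,
        F.val_comm (d.neg e) s, F.val_neg, inv_mul_cancel_right]
    have h2 : u⁻¹ ^ 2 * F.val s * u ^ 2 = F.val (d.ap c.Ka s) := by
      rw [← hKa s hs', show u⁻¹ ^ 2 * F.val s * u ^ 2 =
        u ^ 2 * ((u ^ 4)⁻¹ * F.val s * u ^ 4) * (u ^ 2)⁻¹ by group, hue, ← F.val_neg,
        F.val_comm (d.neg e) s, F.val_neg, inv_mul_cancel_right]
    have h4 : F.val (d.ap c.A e) = (F.val s * u⁻¹) ^ 4 := by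
      rw [← hxu, ← hx e, ← hue, conj_pow]
    rw [F.val_add, F.val_add (d.add s _), F.val_add s, F.val_add (d.ap c.Ka s), ← hi s hs', ← h2,
      ← h3, h4, ← hue]
    rw [show (F.val s * u⁻¹) ^ 4 = F.val s * (u⁻¹ * F.val s * u) * (u⁻¹ ^ 2 * F.val s * u ^ 2) *
      (u⁻¹ ^ 3 * F.val s * u ^ 3) * (u ^ 4)⁻¹ by simp only [pow_succ, pow_zero, one_mul]; group]
    rw [inv_mul_cancel_right, hi s hs', h2, h3]
    simp only [← F.val_add]
    refine congrArg F.val ?_
    simp only [Dim.add, d.dig_enc]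
    simp only [Dim.enc, Nat.add_mod_mod, Nat.mod_add_mod]
    ring_nf
  obtain ⟨m₁, -, hm₁⟩ := hc.four e (r he) hUe ⟨t, r ht, hAt, hs ▸ hsum⟩
  have hsq : ∀ {K : Quad} {k : G}, (∀ a < d.size, k * F.val a * k⁻¹ = F.val (d.ap K a)) → ∀ m e',
      k * k = F.val e' → F.val m * k * (F.val m * k) = F.val (d.add (d.add (d.ap K m) m) e') := by
    intro K k hk m e' he'
    have hm : ∃ m', m' < d.size ∧ F.val m' = F.val m ∧ d.ap K m' = d.ap K m :=
      ⟨d.enc (d.dig m), d.enc_lt _, F.val_enc _, by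
        simp only [Dim.ap, d.dig_enc]; simp only [Dim.dig, Nat.mod_mod]⟩
    obtain ⟨m', hm', hv, hK⟩ := hm
    rw [F.val_add, F.val_add, ← hK, ← hk m' hm', hv, ← he',
      show k * F.val m * k⁻¹ = k * F.val m * k⁻¹ * 1 from (mul_one _).symm]
    have hcom : k * F.val m * k⁻¹ * F.val m = F.val m * (k * F.val m * k⁻¹) := by
      rw [← hv, hk m' hm', F.val_comm]
    rw [mul_one, hcom]; group
  set a0 := F.val m₁ * u ^ 2 with ha0
  have ha0sq : a0 * a0 = F.val (d.add (d.add (d.ap c.Ka m₁) m₁) e) :=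
    hsq hKa m₁ e (by rw [← hue]; group)
  set b0 := g * a0 * g⁻¹ with hb0
  have hb0sq : b0 * b0 = F.val (d.ap c.Gc (d.add (d.add (d.ap c.Ka m₁) m₁) e)) := by
    rw [← hG _ (d.add_lt _ _), ← ha0sq, hb0]; group
  obtain ⟨n₁, hn₁, hgn⟩ : ∃ n < d.size, g * F.val m₁ * g⁻¹ = F.val n :=
    ⟨d.ap c.Gc m₁, d.ap_lt _ _, by
      have h := hG (d.enc (d.dig m₁)) (d.enc_lt _)
      rw [show F.val (d.enc (d.dig m₁)) = F.val m₁ from F.val_enc _] at h
      rw [h]
      simp only [Dim.ap, d.dig_enc]; simp only [Dim.dig, Nat.mod_mod]⟩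
  have hb0' : b0 = F.val n₁ * (g * u ^ 2 * g⁻¹) := by rw [hb0, ha0, ← hgn]; group
  have cA : ∀ a < d.size, a0 * F.val a * a0⁻¹ = F.val (d.ap c.Ka a) := fun a ha => by
    rw [ha0, show F.val m₁ * u ^ 2 * F.val a * (F.val m₁ * u ^ 2)⁻¹ =
      F.val m₁ * (u ^ 2 * F.val a * (u ^ 2)⁻¹) * (F.val m₁)⁻¹ by group, hKa a ha,
      F.val_comm m₁, mul_inv_cancel_right]
  have cB : ∀ a < d.size, b0 * F.val a * b0⁻¹ = F.val (d.ap c.Kb a) := fun a ha => by
    rw [hb0', show F.val n₁ * (g * u ^ 2 * g⁻¹) * F.val a * (F.val n₁ * (g * u ^ 2 * g⁻¹))⁻¹ =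
      F.val n₁ * (g * u ^ 2 * g⁻¹ * F.val a * (g * u ^ 2 * g⁻¹)⁻¹) * (F.val n₁)⁻¹ by group,
      hKb a ha, F.val_comm n₁, mul_inv_cancel_right]
  obtain ⟨ga, hga, hgav⟩ := hgam m₁ n₁
  rw [← ha0, ← hb0', commutatorElement_def] at hgav
  have hT1 := hm₁
  set t1 := d.add (d.add (d.ap c.Ka m₁) m₁) e with ht1def
  have hT2 : d.ap c.Gc t1 ∈ c.T := (hc.fixT t1 hT1).2.2
  have h1 : d.add (d.ap c.Ka ga) ga = 0 := by
    refine hinj _ (d.add_lt _ _) 0 d.size_pos ?_
    rw [F.val_add, F.val_zero, ← cA ga hga, ← hgav]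
    have e1 : b0 * (a0 * a0) = a0 * a0 * b0 := by
      have h := cB t1 (d.add_lt _ _)
      rw [(hc.fixT t1 hT1).2.1, ← ha0sq] at h
      exact mul_inv_eq_iff_eq_mul.1 h
    calc a0 * (a0 * b0 * a0⁻¹ * b0⁻¹) * a0⁻¹ * (a0 * b0 * a0⁻¹ * b0⁻¹)
        = a0 * a0 * b0 * (a0 * a0)⁻¹ * b0⁻¹ := by group
      _ = 1 := by rw [← e1]; group
  have h2 : d.add (d.ap c.Kb ga) ga = 0 := by
    refine hinj _ (d.add_lt _ _) 0 d.size_pos ?_
    rw [F.val_add, F.val_zero, F.val_comm, ← cB ga hga, ← hgav]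
    have e1 : a0 * (b0 * b0) = b0 * b0 * a0 := by
      have h := cA (d.ap c.Gc t1) (d.ap_lt _ _)
      rw [(hc.fixT _ hT2).1, ← hb0sq] at h
      exact mul_inv_eq_iff_eq_mul.1 h
    calc a0 * b0 * a0⁻¹ * b0⁻¹ * (b0 * (a0 * b0 * a0⁻¹ * b0⁻¹) * b0⁻¹)
        = a0 * (b0 * b0) * a0⁻¹ * (b0 * b0)⁻¹ := by group
      _ = 1 := by rw [e1]; group
  obtain ⟨m₂, hm₂r, hm₂b, hm₂a⟩ := hc.gamma ga (r hga) h1 h2
  have hm₂ : m₂ < d.size := List.mem_range.1 hm₂r
  set b1 := F.val m₂ * b0 with hb1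
  have hb1sq : b1 * b1 = F.val (d.add (d.add (d.ap c.Kb m₂) m₂) (d.ap c.Gc t1)) :=
    hsq cB m₂ _ hb0sq
  have hTb : d.add (d.add (d.ap c.Kb m₂) m₂) (d.ap c.Gc t1) ∈ c.T := hc.hT.2.2 _ hm₂b _ hT2
  have cB1 : ∀ a < d.size, b1 * F.val a * b1⁻¹ = F.val (d.ap c.Kb a) := fun a ha => by
    rw [hb1, show F.val m₂ * b0 * F.val a * (F.val m₂ * b0)⁻¹ =
      F.val m₂ * (b0 * F.val a * b0⁻¹) * (F.val m₂)⁻¹ by group, cB a ha, F.val_comm m₂,
      mul_inv_cancel_right]
  have hcomm : a0 * b1 * a0⁻¹ * b1⁻¹ =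
      F.val (d.add (d.add (d.ap c.Ka m₂) (d.neg m₂)) ga) := by
    rw [F.val_add, F.val_add, ← cA m₂ hm₂, F.val_neg]
    have e1 : F.val ga * (F.val m₂)⁻¹ = (F.val m₂)⁻¹ * F.val ga := by
      rw [← F.val_neg, F.val_comm]
    rw [hb1, show a0 * F.val m₂ * a0⁻¹ * (F.val m₂)⁻¹ * F.val ga =
      a0 * F.val m₂ * a0⁻¹ * ((F.val m₂)⁻¹ * F.val ga) by group, ← e1, ← hgav]
    group
  -- the two subgroups
  have closed : ∀ L : List ℕ, 0 ∈ L → (∀ a ∈ L, a < d.size) →
      (∀ a ∈ L, ∀ b ∈ L, d.add a b ∈ L) → ∃ H : Subgroup G, ∀ z, z ∈ H ↔ ∃ a ∈ L, F.val a = z := by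
    intro L h0 _ hadd
    let S : Submonoid G :=
      { carrier := {z | ∃ a ∈ L, F.val a = z}
        one_mem' := ⟨0, h0, F.val_zero⟩
        mul_mem' := by
          rintro _ _ ⟨a, ha, rfl⟩ ⟨b, hb, rfl⟩
          exact ⟨d.add a b, hadd a ha b hb, F.val_add a b⟩ }
    refine ⟨{ S with inv_mem' := fun {z} hz => ?_ }, fun z => Iff.rfl⟩
    obtain ⟨k, hk⟩ := (isOfFinOrder_of_finite z).mem_powers_iff_mem_zpowers.2
      (inv_mem (Subgroup.mem_zpowers z))
    have : z ^ k ∈ S := pow_mem hz k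
    rwa [show z ^ k = z⁻¹ from hk] at this
  obtain ⟨T, hT⟩ := closed c.T hc.hT.1 (fun a ha => (hc.hT.2.1 a ha).1) hc.hT.2.2
  obtain ⟨S, hS⟩ := closed c.S hc.hS.2.1 hc.hS.2.2.1 hc.hS.2.2.2
  have mT : ∀ {a}, a ∈ c.T → F.val a ∈ T := fun h => (hT _).2 ⟨_, h, rfl⟩
  set R : Subgroup G := Subgroup.closure ((S : Set G) ∪ {a0, b1}) with hR
  have hSR : ∀ {a}, a ∈ c.S → F.val a ∈ R := fun h =>
    Subgroup.subset_closure (Or.inl ((hS _).2 ⟨_, h, rfl⟩))
  have ha0R : a0 ∈ R := Subgroup.subset_closure (Or.inr (Or.inl rfl))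
  have hb1R : b1 ∈ R := Subgroup.subset_closure (Or.inr (Or.inr rfl))
  have hTR : T ≤ R := fun z hz => by
    obtain ⟨a, ha, rfl⟩ := (hT z).1 hz
    exact hSR (hc.hT.2.1 a ha).2
  have hRT : R ≤ Subgroup.centralizer (T : Set G) := by
    rw [hR, Subgroup.closure_le]
    rintro z (hz | rfl | rfl) <;> rw [SetLike.mem_coe, Subgroup.mem_centralizer_iff] <;>
      intro v hv <;> obtain ⟨a, ha, rfl⟩ := (hT v).1 hv
    · obtain ⟨b, -, rfl⟩ := (hS z).1 hz
      exact F.val_comm a b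
    · have h := cA a (hc.hT.2.1 a ha).1
      rw [(hc.fixT a ha).1] at h
      exact (mul_inv_eq_iff_eq_mul.1 h).symm
    · have h := cB1 a (hc.hT.2.1 a ha).1
      rw [(hc.fixT a ha).2.1] at h
      exact (mul_inv_eq_iff_eq_mul.1 h).symm
  set T' := T.subgroupOf R with hT'
  haveI : T'.Normal := ⟨fun v hv z => by
    have h := Subgroup.mem_centralizer_iff.1 (hRT z.2) v hv
    show (z : G) * v * (z : G)⁻¹ ∈ T
    rw [← h, mul_inv_cancel_right]
    exact hv⟩
  let π : ↥R →* ↥R ⧸ T' := QuotientGroup.mk' T'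
  have hπ : ∀ z : ↥R, (z : G) ∈ T → π z = 1 := fun z h => (QuotientGroup.eq_one_iff z).2 h
  have hπc : ∀ z v : ↥R, (z : G) * v * (z : G)⁻¹ * (v : G)⁻¹ ∈ T → π z * π v = π v * π z := by
    intro z v h
    rw [← commutatorElement_eq_one_iff_mul_comm, ← map_commutatorElement]
    exact hπ _ (by simpa [commutatorElement_def] using h)
  set gens : Set (↥R ⧸ T') := π '' {z | (z : G) ∈ (S : Set G) ∪ {a0, b1}} with hgens
  have hgen : Subgroup.closure gens = ⊤ := by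
    rw [hgens, ← MonoidHom.map_closure,
      show Subgroup.closure {z : ↥R | (z : G) ∈ (S : Set G) ∪ {a0, b1}} = ⊤ from
        Subgroup.closure_closure_coe_preimage,
      Subgroup.map_top_of_surjective _ (QuotientGroup.mk'_surjective T')]
  have cm : ∀ (z : ↥R) {K : Quad} (a : ℕ) (ha : a ∈ c.S),
      ((z : G) * F.val a * (z : G)⁻¹ = F.val (d.ap K a)) →
      d.add (d.ap K a) (d.neg a) ∈ c.T → π z * π ⟨F.val a, hSR ha⟩ = π ⟨F.val a, hSR ha⟩ * π z := by
    intro z K a ha h hK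
    refine hπc _ _ ?_
    show (z : G) * F.val a * (z : G)⁻¹ * (F.val a)⁻¹ ∈ T
    rw [h, ← F.val_neg, ← F.val_add]
    exact mT hK
  have hgc : ∀ p ∈ gens, ∀ q ∈ gens, p * q = q * p := by
    rintro _ ⟨⟨p, hp⟩, hp', rfl⟩ _ ⟨⟨q, hq⟩, hq', rfl⟩
    rcases hp' with hp' | hp' | hp' <;> rcases hq' with hq' | hq' | hq'
    · obtain ⟨a, ha, rfl⟩ := (hS p).1 hp'
      obtain ⟨b, hb, rfl⟩ := (hS q).1 hq'
      rw [← map_mul, ← map_mul]
      exact congrArg π (Subtype.ext (F.val_comm a b))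
    · obtain ⟨a, ha, rfl⟩ := (hS p).1 hp'
      obtain rfl : q = a0 := hq'
      exact (cm ⟨_, hq⟩ a ha (cA a (hc.hS.2.2.1 a ha)) (hc.shift a ha).1).symm
    · obtain ⟨a, ha, rfl⟩ := (hS p).1 hp'
      obtain rfl : q = b1 := hq'
      exact (cm ⟨_, hq⟩ a ha (cB1 a (hc.hS.2.2.1 a ha)) (hc.shift a ha).2).symm
    · obtain ⟨a, ha, rfl⟩ := (hS q).1 hq'
      obtain rfl : p = a0 := hp'
      exact cm ⟨_, hp⟩ a ha (cA a (hc.hS.2.2.1 a ha)) (hc.shift a ha).1
    · obtain rfl : p = a0 := hp'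
      obtain rfl : q = a0 := hq'
      rfl
    · obtain rfl : p = a0 := hp'
      obtain rfl : q = b1 := hq'
      exact hπc _ _ (by
        show a0 * b1 * a0⁻¹ * b1⁻¹ ∈ T
        rw [hcomm]; exact mT hm₂a)
    · obtain ⟨a, ha, rfl⟩ := (hS q).1 hq'
      obtain rfl : p = b1 := hp'
      exact cm ⟨_, hp⟩ a ha (cB1 a (hc.hS.2.2.1 a ha)) (hc.shift a ha).2
    · obtain rfl : p = b1 := hp'
      obtain rfl : q = a0 := hq'
      exact (hπc ⟨a0, hq⟩ ⟨b1, hp⟩ (by
        show a0 * b1 * a0⁻¹ * b1⁻¹ ∈ T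
        rw [hcomm]; exact mT hm₂a)).symm
    · obtain rfl : p = b1 := hp'
      obtain rfl : q = b1 := hq'
      rfl
  haveI : IsMulCommutative (Subgroup.closure gens) := Subgroup.isMulCommutative_closure hgc
  have hQc : ∀ p q : ↥R ⧸ T', p * q = q * p := by
    intro p q
    have h := (IsMulCommutative.is_comm (M := ↥(Subgroup.closure gens))).comm
      ⟨p, hgen ▸ Subgroup.mem_top p⟩ ⟨q, hgen ▸ Subgroup.mem_top q⟩
    exact congrArg Subtype.val h
  have hQe : ∀ p : ↥R ⧸ T', p * p = 1 := by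
    intro p
    refine Subgroup.closure_induction (p := fun z _ => z * z = 1) ?_ (one_mul 1) ?_ ?_
      (hgen ▸ Subgroup.mem_top p)
    · rintro _ ⟨⟨q, hq⟩, hq', rfl⟩
      rw [← map_mul]
      refine hπ _ ?_
      show q * q ∈ T
      rcases hq' with hq' | hq' | hq'
      · obtain ⟨a, ha, rfl⟩ := (hS q).1 hq'
        rw [← F.val_add]; exact mT (hc.sq a ha)
      · obtain rfl : q = a0 := hq'
        rw [ha0sq]; exact mT hT1
      · obtain rfl : q = b1 := hq'
        rw [hb1sq]; exact mT hTb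
    · intro p q _ _ hp hq
      rw [(show Commute q p from hQc q p).mul_mul_mul_comm, hp, hq, one_mul]
    · intro p _ hp
      rw [← mul_inv_rev, hp, inv_one]
  have h16 : Nat.card (↥R ⧸ T') ≤ 16 := by
    have h := Cfsg.Agent.S4400.card_le_of_hom hr R π ⊤
      (by rw [MonoidHom.range_eq_top.2 (QuotientGroup.mk'_surjective T')])
      (fun a _ b _ => hQc a b) fun a _ => (pow_two a).trans (hQe a)
    rwa [Subgroup.card_top] at h
  -- counting
  have hTcard : Nat.card T' ≤ c.T.length := by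
    rw [hT', Nat.card_congr (Subgroup.subgroupOfEquivOfLe hTR).toEquiv]
    let f : Fin c.T.length → T := fun i => ⟨F.val c.T[i], mT (List.getElem_mem i.2)⟩
    have hf : Function.Surjective f := by
      rintro ⟨z, hz⟩
      obtain ⟨a, ha, rfl⟩ := (hT z).1 hz
      obtain ⟨i, hi, rfl⟩ := List.getElem_of_mem ha
      exact ⟨⟨i, hi⟩, rfl⟩
    exact (Nat.card_le_card_of_surjective f hf).trans (Nat.card_fin _).le
  have hout : ∀ (z : G) (K : Quad), (∀ a < d.size, z * F.val a * z⁻¹ = F.val (d.ap K a)) →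
      (∃ a ∈ List.range d.size, d.ap K a ≠ a) → ∀ m, z ≠ F.val m := by
    intro z K hz ⟨a, ha, hne⟩ m hzm
    refine hne (hinj _ (d.ap_lt _ _) a (List.mem_range.1 ha) ?_)
    rw [← hz a (List.mem_range.1 ha), hzm, F.val_comm, mul_inv_cancel_right]
  have hA' : ∀ m, a0 ≠ F.val m := hout a0 c.Ka cA hc.moves.1
  have hB' : ∀ m, b1 ≠ F.val m := hout b1 c.Kb cB1 hc.moves.2.1
  have hAB' : ∀ m, a0 * b1 ≠ F.val m := by
    intro m hm
    obtain ⟨a, ha, hne⟩ := hc.moves.2.2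
    refine hne (hinj _ (d.ap_lt _ _) a (List.mem_range.1 ha) ?_)
    rw [← cA _ (d.ap_lt _ _), ← cB1 a (List.mem_range.1 ha),
      show a0 * (b1 * F.val a * b1⁻¹) * a0⁻¹ = a0 * b1 * F.val a * (a0 * b1)⁻¹ by group, hm,
      F.val_comm, mul_inv_cancel_right]
  have hBA' : ∀ m, a0 * b1⁻¹ ≠ F.val m := by
    intro m hm
    refine hAB' (d.add m (d.add (d.add (d.ap c.Kb m₂) m₂) (d.ap c.Gc t1))) ?_
    rw [F.val_add, ← hb1sq, ← hm]; group
  have hRcard : 4 * c.S.length ≤ Nat.card R := by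
    let f : Fin c.S.length × Bool × Bool → R := fun p =>
      ⟨F.val c.S[p.1] * cond p.2.1 a0 1 * cond p.2.2 b1 1,
        mul_mem (mul_mem (hSR (List.getElem_mem p.1.2)) (by
          cases p.2.1
          · exact one_mem _
          · exact ha0R)) (by
          cases p.2.2
          · exact one_mem _
          · exact hb1R)⟩
    have hf : Function.Injective f := by
      rintro ⟨i, p, q⟩ ⟨i', p', q'⟩ h
      have h' : F.val c.S[i] * cond p a0 1 * cond q b1 1 =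
          F.val c.S[i'] * cond p' a0 1 * cond q' b1 1 := congrArg Subtype.val h
      have key : cond p a0 1 * cond q b1 1 * (cond p' a0 1 * cond q' b1 1)⁻¹ =
          F.val (d.add (d.neg c.S[i]) c.S[i']) := by
        rw [F.val_add, F.val_neg]
        calc cond p a0 1 * cond q b1 1 * (cond p' a0 1 * cond q' b1 1)⁻¹
            = (F.val c.S[i])⁻¹ * (F.val c.S[i] * cond p a0 1 * cond q b1 1) *
                (cond p' a0 1 * cond q' b1 1)⁻¹ := by group
          _ = _ := by rw [h']; group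
      generalize d.add (d.neg c.S[i]) c.S[i'] = m at key
      have hinv : ∀ z m, z⁻¹ = F.val m → z = F.val (d.neg m) := fun z m h => by
        rw [F.val_neg, ← h, inv_inv]
      have hne : ∀ z, z = F.val m → z ≠ a0 ∧ z ≠ a0⁻¹ ∧ z ≠ b1 ∧ z ≠ b1⁻¹ ∧ z ≠ a0 * b1 ∧
          z ≠ b1⁻¹ * a0⁻¹ ∧ z ≠ a0 * b1⁻¹ ∧ z ≠ b1 * a0⁻¹ ∧ z ≠ a0 * b1 * a0⁻¹ ∧
          z ≠ a0 * (b1⁻¹ * a0⁻¹) := by
        intro z hz
        have hbc : ∀ n, a0 * b1 * a0⁻¹ ≠ F.val n := fun n hn => hB' (d.add (d.neg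
            (d.add (d.add (d.ap c.Ka m₂) (d.neg m₂)) ga)) n) (by
          rw [F.val_add, F.val_neg, ← hcomm, ← hn]; group)
        refine ⟨fun e => hA' _ (e ▸ hz), fun e => hA' _ (hinv _ _ (e ▸ hz)), fun e => hB' _ (e ▸ hz),
          fun e => hB' _ (hinv _ _ (e ▸ hz)), fun e => hAB' _ (e ▸ hz),
          fun e => hAB' _ (hinv _ m ?_), fun e => hBA' _ (e ▸ hz), fun e => hBA' _ (hinv _ m ?_),
          fun e => hbc _ (e ▸ hz), fun e => hbc _ (hinv _ m ?_)⟩
        all_goals (rw [← hz, e]; group)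
      obtain ⟨nA, nA', nB, nB', nAB, nAB', nBA, nBA', nC, nC'⟩ := hne _ key
      have hpq : p = p' ∧ q = q' := by
        cases p <;> cases p' <;> cases q <;> cases q' <;>
          simp only [cond_true, cond_false, one_mul, mul_one, inv_one, mul_inv_rev, mul_inv_cancel,
            mul_inv_cancel_left, mul_inv_cancel_right, ne_eq] at nA nA' nB nB' nAB nAB' nBA nBA' nC nC' ⊢ <;>
          first
          | exact ⟨trivial, trivial⟩
          | exact ⟨rfl, rfl⟩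
          | exact absurd trivial nA
          | exact absurd trivial nA'
          | exact absurd trivial nB
          | exact absurd trivial nB'
          | exact absurd trivial nAB
          | exact absurd trivial nAB'
          | exact absurd trivial nBA
          | exact absurd trivial nBA'
          | exact absurd trivial nC
          | exact absurd trivial nC'
      obtain ⟨rfl, rfl⟩ := hpq
      have hi : F.val c.S[i] = F.val c.S[i'] := mul_right_cancel (mul_right_cancel h')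
      have hi' := hinj _ (hc.hS.2.2.1 _ (List.getElem_mem i.2)) _
        (hc.hS.2.2.1 _ (List.getElem_mem i'.2)) hi
      rw [Prod.mk.injEq]
      exact ⟨Fin.ext ((hc.hS.1.getElem_inj_iff).1 hi'), rfl⟩
    have h := Nat.card_le_card_of_injective f hf
    simpa [Nat.card_prod, mul_comm] using h
  have hlag := Subgroup.card_eq_card_quotient_mul_card_subgroup T'
  have hprod := Nat.mul_le_mul h16 hTcard
  have hcount := hc.count
  have hpos : 0 < c.T.length := List.length_pos_of_mem hc.hT.1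
  omega

end CfsgLib.L32Radical
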