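import Cfsg.Agent.L32Radical.Quad
import Cfsg.Agent.L32Radical.Witness
import Cfsg.Agent.FGS74.SectionalTwo

/-!
# A 2-group modulo a subgroup with an action of `L₃(2)` in codes
-/

set_option autoImplicit false
set_option linter.style.haveILetI false

namespace CfsgLib.L32Radical

open Cfsg CfsgLib.GLFourTwo CfsgLib.GLFourTwo.A5Mod
open scoped commutatorElement

/-- Forget the first bit. -/
def even16 (a : Fin 16) : Fin 16 := ⟨a.val - a.val % 2, by omega⟩

theorem even16_facts : (∀ a b, even16 (xr a b) = xr (even16 a) (even16 b)) ∧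
    (∀ a, (even16 a).val % 2 = 0 ∧ (a.val % 2 = 0 → even16 a = a) ∧ (even16 a = xr a 1 ∨ even16 a = a)) ∧
    ∀ (k : Fin 6) (g : Bool) (a : Fin 16), k = 0 ∨ k = 2 → even16 (act k g a) = act k g (even16 a) := by
  decide +kernel

theorem act_facts : (∀ (k : Fin 6) (g : Bool) (a b : Fin 16),
      act k g (xr a b) = xr (act k g a) (act k g b)) ∧
    (∀ (k : Fin 6) (a : Fin 16), act k false (act k false a) = a ∧
      act k true (act k true (act k true a)) = a) ∧
    (∀ (k : Fin 6) (g : Bool) (a : Fin 16), k = 0 ∨ k = 2 ∨ k = 4 ∨ k = 5 → a.val % 2 = 0 →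
      (act k g a).val % 2 = 0) ∧ ∀ (k : Fin 6) (a : Fin 16), act k true 0 = 0 ∧ act k false 0 = 0 ∧
        (k ≠ 4 ∧ k ≠ 5 → act k false 1 = 1 ∧ act k true 1 = 1) ∧ act k true 1 = 1 ∧ act k true 2 = 2 ∧
        act k true 4 = 8 ∧ act k true 8 = 12 ∧ xr a 0 = a := by
  decide +kernel

/-- A normal 2-subgroup modulo a normal subgroup, coded by an action of two elements. -/
structure Base (X : Type*) [Group X] where
  /-- the 2-group -/
  P : Subgroup X
  /-- the subgroup -/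
  N : Subgroup X
  /-- the codes -/
  E : ↥P → Fin 16
  /-- the module -/
  k : Fin 6
  /-- the involution -/
  x : X
  /-- the element of order 3 -/
  y : X
  normalP : P.Normal
  normalN : N.Normal
  le : N ≤ P
  sq : ∀ v ∈ P, v * v ∈ N
  map_mul : ∀ a b, E (a * b) = xr (E a) (E b)
  eq_zero : ∀ v : ↥P, E v = 0 ↔ (v : X) ∈ N
  equiv : ∀ v : ↥P,
    E ⟨x * v * x⁻¹, normalP.conj_mem _ v.2 x⟩ = act k false (E v) ∧
      E ⟨y * v * y⁻¹, normalP.conj_mem _ v.2 y⟩ = act k true (E v)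
  range : Function.Surjective E ∨
    (k = 0 ∨ k = 2) ∧ ∀ b : Fin 16, b.val % 2 = 0 ↔ ∃ a, E a = b
  hker : ∀ z : X, (∀ v : ↥P, E ⟨z * v * z⁻¹, normalP.conj_mem _ v.2 z⟩ = E v) → z ∈ P
  gen : N ≤ Subgroup.closure (Set.range fun v : ↥P => (v : X) * v)

namespace Base

variable {X : Type*} [Group X] (B : Base X)

/-- Conjugation. -/
def cj (z : X) (v : ↥B.P) : ↥B.P := ⟨z * v * z⁻¹, B.normalP.conj_mem _ v.2 z⟩

/-- `z` induces `f` on codes. -/
def Acts (z : X) (f : Fin 16 → Fin 16) : Prop := ∀ v, B.E (B.cj z v) = f (B.E v)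

theorem E_one : B.E 1 = 0 := (B.eq_zero 1).2 B.N.one_mem

theorem E_inv (v : ↥B.P) : B.E v⁻¹ = B.E v := by
  have h := B.map_mul v⁻¹ v
  rw [inv_mul_cancel, B.E_one] at h
  exact xr_facts.2.1 _ _ h.symm

theorem acts_x : B.Acts B.x (act B.k false) := fun v => (B.equiv v).1

theorem acts_y : B.Acts B.y (act B.k true) := fun v => (B.equiv v).2

theorem acts_mul {z w : X} {f g : Fin 16 → Fin 16} (h : B.Acts z f) (h' : B.Acts w g) :
    B.Acts (z * w) (f ∘ g) := fun v => by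
  rw [show B.cj (z * w) v = B.cj z (B.cj w v) from Subtype.ext (by
    show z * w * v * (z * w)⁻¹ = z * (w * v * w⁻¹) * z⁻¹
    group), h, h', Function.comp_apply]

theorem acts_inv {z : X} {f g : Fin 16 → Fin 16} (h : B.Acts z f) (hfg : ∀ a, g (f a) = a) :
    B.Acts z⁻¹ g := fun v => by
  have e := h (B.cj z⁻¹ v)
  rw [show B.cj z (B.cj z⁻¹ v) = v from Subtype.ext (by
    show z * (z⁻¹ * v * z⁻¹⁻¹) * z⁻¹ = v
    group)] at e
  rw [e, hfg]

theorem acts_one : B.Acts 1 id := fun v => by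
  rw [show B.cj 1 v = v from Subtype.ext (by show 1 * (v : X) * 1⁻¹ = v; group)]; rfl

theorem acts_mem {z : X} (hz : z ∈ B.P) : B.Acts z id := fun v => by
  rw [show B.cj z v = ⟨z, hz⟩ * v * (⟨z, hz⟩ : ↥B.P)⁻¹ from Subtype.ext rfl, B.map_mul, B.map_mul,
    B.E_inv, id_eq, xr_facts.2.2.1 (B.E ⟨z, hz⟩), xr_facts.2.2.2, (xr_facts.1 _).1,
    (xr_facts.1 _).2.2]

theorem mem_of_acts {z : X} (h : B.Acts z id) : z ∈ B.P := B.hker z h

theorem mem_of_acts' {z : X} {f : Fin 16 → Fin 16} (h : B.Acts z f) (hf : ∀ a, f a = a) : z ∈ B.P :=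
  B.mem_of_acts fun v => (h v).trans (hf _)

/-- The map of the commutator of the generators. -/
def uMap (k : Fin 6) : Fin 16 → Fin 16 :=
  act k false ∘ act k true ∘ act k false ∘ act k true ∘ act k true

theorem acts_x_inv : B.Acts B.x⁻¹ (act B.k false) :=
  B.acts_inv B.acts_x fun a => (act_facts.2.1 B.k a).1

theorem acts_y_inv : B.Acts B.y⁻¹ (act B.k true ∘ act B.k true) :=
  B.acts_inv B.acts_y fun a => (act_facts.2.1 B.k a).2

theorem acts_u : B.Acts (B.x * B.y * B.x⁻¹ * B.y⁻¹) (uMap B.k) := by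
  intro v
  have h := B.acts_mul (B.acts_mul (B.acts_mul B.acts_x B.acts_y) B.acts_x_inv) B.acts_y_inv v
  rw [h]
  simp only [uMap, Function.comp_apply]

theorem acts_pow {z : X} {f : Fin 16 → Fin 16} (h : B.Acts z f) : ∀ n, B.Acts (z ^ n) f^[n]
  | 0 => by rw [pow_zero]; exact B.acts_one
  | n + 1 => by
    rw [pow_succ', Function.iterate_succ']
    exact B.acts_mul h (acts_pow h n)

theorem acts_word : ∀ w : List Bool,
    B.Acts (wordVal B.x B.y w) fun a => w.foldr (fun g z => act B.k g z) a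
  | [] => B.acts_one
  | false :: w => B.acts_mul B.acts_x (acts_word w)
  | true :: w => B.acts_mul B.acts_y (acts_word w)

theorem xx_mem : B.x * B.x ∈ B.P :=
  B.mem_of_acts' (f := act B.k false ∘ act B.k false) (B.acts_mul B.acts_x B.acts_x) fun a => (act_facts.2.1 B.k a).1

theorem yyy_mem : B.y * B.y * B.y ∈ B.P :=
  B.mem_of_acts' (f := (act B.k true ∘ act B.k true) ∘ act B.k true)
    (B.acts_mul (B.acts_mul B.acts_y B.acts_y) B.acts_y) fun a =>
    (act_facts.2.1 B.k a).2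

theorem relations : ∀ (k : Fin 6) (a : Fin 16),
    (uMap k)^[4] a = a ∧ (act k false ∘ act k true)^[7] a = a := by
  decide +kernel

theorem u_pow_mem : (B.x * B.y * B.x⁻¹ * B.y⁻¹) ^ 4 ∈ B.P :=
  B.mem_of_acts' (B.acts_pow B.acts_u 4) fun a => (relations B.k a).1

theorem seven_mem : (B.x * B.y) ^ 7 ∈ B.P :=
  B.mem_of_acts' (f := (act B.k false ∘ act B.k true)^[7])
    (B.acts_pow (B.acts_mul (f := act B.k false) (g := act B.k true) B.acts_x B.acts_y) 7)
    fun a => (relations B.k a).2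

/-- The inverse of a word. -/
def winv (w : List Bool) : List Bool := w.reverse.flatMap fun g => cond g [true, true] [false]

theorem winv_spec {k : Fin 6} : ∀ (w : List Bool) (a : Fin 16),
    (winv w).foldr (fun g z => act k g z) (w.foldr (fun g z => act k g z) a) = a := by
  intro w
  induction w with
  | nil => intro a; rfl
  | cons g l ih =>
    intro a
    rw [show winv (g :: l) = winv l ++ cond g [true, true] [false] by
      simp [winv, List.flatMap_append], List.foldr_append]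
    cases g
    · simp only [cond_false, List.foldr_cons, List.foldr_nil, (act_facts.2.1 k _).1, ih]
    · simp only [cond_true, List.foldr_cons, List.foldr_nil, (act_facts.2.1 k _).2, ih]

/-- The two involutions of the witness commute on codes. -/
def Commutes (k : Fin 6) (w : List Bool) : Prop := ∀ a : Fin 16,
  (uMap k)^[2] (w.foldr (fun g z => act k g z) ((uMap k)^[2]
      ((winv w).foldr (fun g z => act k g z) a))) =
    w.foldr (fun g z => act k g z) ((uMap k)^[2] ((winv w).foldr (fun g z => act k g z)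
      ((uMap k)^[2] a)))

theorem commutator_mem {w : List Bool} (hw : Commutes B.k w) {m n : X} (hm : m ∈ B.P)
    (hn : n ∈ B.P) :
    ⁅m * (B.x * B.y * B.x⁻¹ * B.y⁻¹) ^ 2, n * (wordVal B.x B.y w *
      (B.x * B.y * B.x⁻¹ * B.y⁻¹) ^ 2 * (wordVal B.x B.y w)⁻¹)⁆ ∈ B.P := by
  set g := wordVal B.x B.y w with hg
  set u := B.x * B.y * B.x⁻¹ * B.y⁻¹ with hu
  have ha : B.Acts (m * u ^ 2) (uMap B.k)^[2] := fun v =>
    B.acts_mul (f := id) (g := (uMap B.k)^[2]) (B.acts_mem hm) (B.acts_pow B.acts_u 2) v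
  have hb : B.Acts (n * (g * u ^ 2 * g⁻¹))
      (fun a => w.foldr (fun g z => act B.k g z) ((uMap B.k)^[2]
        ((winv w).foldr (fun g z => act B.k g z) a))) := by
    have h1 := B.acts_mul (B.acts_mem hn) (B.acts_mul (B.acts_mul (B.acts_word w)
      (B.acts_pow B.acts_u 2)) (B.acts_inv (g := fun a => (winv w).foldr (fun g z => act B.k g z) a) (B.acts_word w)
        (winv_spec w)))
    exact h1
  refine B.mem_of_acts fun v => ?_
  have hab := B.acts_mul ha hb
  have hba := B.acts_mul hb ha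
  have h2 : B.Acts (n * (g * u ^ 2 * g⁻¹) * (m * u ^ 2))
      (fun a => (uMap B.k)^[2] (w.foldr (fun g z => act B.k g z) ((uMap B.k)^[2]
        ((winv w).foldr (fun g z => act B.k g z) a)))) := fun v => (hba v).trans (hw _).symm
  rw [commutatorElement_def, show m * u ^ 2 * (n * (g * u ^ 2 * g⁻¹)) * (m * u ^ 2)⁻¹ *
    (n * (g * u ^ 2 * g⁻¹))⁻¹ = m * u ^ 2 * (n * (g * u ^ 2 * g⁻¹)) *
      (n * (g * u ^ 2 * g⁻¹) * (m * u ^ 2))⁻¹ by group]
  set p := m * u ^ 2 * (n * (g * u ^ 2 * g⁻¹))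
  set q := n * (g * u ^ 2 * g⁻¹) * (m * u ^ 2)
  rw [show B.cj (p * q⁻¹) v = B.cj p (B.cj q⁻¹ v) from Subtype.ext (by
    show p * q⁻¹ * v * (p * q⁻¹)⁻¹ = p * (q⁻¹ * v * q⁻¹⁻¹) * p⁻¹
    group), hab, id_eq]
  have e := h2 (B.cj q⁻¹ v)
  rw [show B.cj q (B.cj q⁻¹ v) = v from Subtype.ext (by
    show q * (q⁻¹ * v * q⁻¹⁻¹) * q⁻¹ = v
    group)] at e
  exact e.symm

/-- Squares and commutators of a layer. -/
structure Central : Prop where
  central : ∀ n ∈ B.N, ∀ v ∈ B.P, n * v = v * n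
  exp : ∀ n ∈ B.N, n * n = 1

variable {B}

theorem congr_sq (L : B.Central) {v w : ↥B.P} (h : B.E v = B.E w) : (v : X) * v = (w : X) * w := by
  have h0 : ((w⁻¹ * v : ↥B.P) : X) ∈ B.N := (B.eq_zero _).1 (by
    rw [B.map_mul, B.E_inv, h, (xr_facts.1 _).1])
  obtain ⟨n, hn, rfl⟩ : ∃ n : ↥B.P, (n : X) ∈ B.N ∧ v = w * n :=
    ⟨_, h0, (mul_inv_cancel_left w v).symm⟩
  rw [Subgroup.coe_mul, show (w : X) * n * ((w : X) * n) = (w : X) * ((n : X) * w) * n by group,
    L.central _ hn _ w.2, show (w : X) * ((w : X) * n) * n = (w : X) * w * ((n : X) * n) by group,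
    L.exp _ hn, mul_one]

theorem comm_mem (B : Base X) {u v : X} (hu : u ∈ B.P) (hv : v ∈ B.P) :
    u * v * u⁻¹ * v⁻¹ ∈ B.N := by
  rw [show u * v * u⁻¹ * v⁻¹ = u * u * ((u⁻¹ * v) * (u⁻¹ * v)) * (v⁻¹ * v⁻¹) by group]
  exact mul_mem (mul_mem (B.sq _ hu) (B.sq _ (mul_mem (inv_mem hu) hv))) (B.sq _ (inv_mem hv))

theorem sq_mul (L : B.Central) (u v : ↥B.P) : ((u * v : ↥B.P) : X) * (u * v : ↥B.P) =
    (u : X) * u * ((v : X) * v) * ((v : X) * u * (v : X)⁻¹ * (u : X)⁻¹) := by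
  set c := (v : X) * u * (v : X)⁻¹ * (u : X)⁻¹ with hc
  have hcN : c ∈ B.N := B.comm_mem v.2 u.2
  have hvu : (v : X) * u = c * ((u : X) * v) := by rw [hc]; group
  rw [Subgroup.coe_mul, show (u : X) * v * ((u : X) * v) = (u : X) * ((v : X) * u) * v by group, hvu,
    ← mul_assoc, ← L.central c hcN (u : X) u.2,
    show c * (u : X) * ((u : X) * v) * v = c * ((u : X) * u * ((v : X) * v)) by group,
    L.central c hcN _ (mul_mem (mul_mem u.2 u.2) (mul_mem v.2 v.2))]

theorem comm_mul (L : B.Central) (u v w : ↥B.P) :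
    (u : X) * (v * w : ↥B.P) * (u : X)⁻¹ * ((v * w : ↥B.P) : X)⁻¹ =
      ((u : X) * v * (u : X)⁻¹ * (v : X)⁻¹) * ((u : X) * w * (u : X)⁻¹ * (w : X)⁻¹) := by
  have h := B.comm_mem u.2 w.2
  rw [Subgroup.coe_mul, show (u : X) * ((v : X) * w) * (u : X)⁻¹ * ((v : X) * w)⁻¹ =
    ((u : X) * v * (u : X)⁻¹) * ((u : X) * w * (u : X)⁻¹ * (w : X)⁻¹) * (v : X)⁻¹ by group,
    mul_assoc, L.central _ h _ (inv_mem v.2), ← mul_assoc]

open Classical in
/-- The squaring map in coordinates. -/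
theorem exists_quad (L : B.Central) {F : ↥B.N → Fin 16} (hF : ∀ a b, F (a * b) = xr (F a) (F b))
    {al : Bool → Fin 16 → Fin 16}
    (hx : ∀ n : ↥B.N, F ⟨B.x * n * B.x⁻¹, B.normalN.conj_mem _ n.2 _⟩ = al false (F n))
    (hy : ∀ n : ↥B.N, F ⟨B.y * n * B.y⁻¹, B.normalN.conj_mem _ n.2 _⟩ = al true (F n)) :
    ∃ q : Fin 16 → Fin 16, q 0 = 0 ∧ (∀ g a, q (act B.k g a) = al g (q a)) ∧ BasisQuad q ∧
      (∀ v : ↥B.P, q (B.E v) = F ⟨(v : X) * v, B.sq _ v.2⟩) ∧
      (¬ Function.Surjective B.E → ∀ a, q a = q (even16 a)) ∧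
      ∀ u v : ↥B.P, polar q (B.E u) (B.E v) =
        F ⟨(v : X) * u * (v : X)⁻¹ * (u : X)⁻¹, B.comm_mem v.2 u.2⟩ := by
  classical
  set pr : Fin 16 → Fin 16 := if Function.Surjective B.E then id else even16 with hpr
  have hev : ¬ Function.Surjective B.E → (B.k = 0 ∨ B.k = 2) ∧
      ∀ b : Fin 16, b.val % 2 = 0 ↔ ∃ a, B.E a = b := fun h => B.range.resolve_left h
  have hhit : ∀ a, ∃ v, B.E v = pr a := by
    intro a
    rw [hpr]
    split_ifs with h
    · exact h a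
    · exact ((hev h).2 _).1 (even16_facts.2.1 a).1
  have hfix : ∀ v, pr (B.E v) = B.E v := by
    intro v
    rw [hpr]
    split_ifs with h
    · rfl
    · exact (even16_facts.2.1 _).2.1 (((hev h).2 _).2 ⟨v, rfl⟩)
  have hprm : ∀ a b, pr (xr a b) = xr (pr a) (pr b) := by
    intro a b; rw [hpr]; split_ifs
    · rfl
    · exact even16_facts.1 a b
  have hpre : ∀ g a, pr (act B.k g a) = act B.k g (pr a) := by
    intro g a; rw [hpr]; split_ifs with h
    · rfl
    · exact even16_facts.2.2 _ g a (hev h).1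
  choose lift hlift using hhit
  let sqF : ↥B.P → Fin 16 := fun v => F ⟨(v : X) * v, B.sq _ v.2⟩
  let q : Fin 16 → Fin 16 := fun a => sqF (lift a)
  have hq : ∀ a (v : ↥B.P), B.E v = pr a → q a = sqF v := fun a v h =>
    congrArg F (Subtype.ext (congr_sq L ((hlift a).trans h.symm)))
  have hqE : ∀ v, q (B.E v) = sqF v := fun v => hq _ v (hfix v).symm
  have hF1 : F 1 = 0 := by
    have h := hF 1 1
    rw [one_mul, (xr_facts.1 _).1] at h
    exact h
  have hpol : ∀ (a b : Fin 16) (u v : ↥B.P), B.E u = pr a → B.E v = pr b → polar q a b =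
      F ⟨(v : X) * u * (v : X)⁻¹ * (u : X)⁻¹, B.comm_mem v.2 u.2⟩ := by
    intro a b u v hu hv
    rw [polar, hq _ (u * v) (by rw [B.map_mul, hu, hv, hprm]), hq a u hu, hq b v hv]
    simp only [sqF]
    rw [show (⟨((u * v : ↥B.P) : X) * (u * v : ↥B.P), B.sq _ (u * v).2⟩ : ↥B.N) =
      ⟨(u : X) * u, B.sq _ u.2⟩ * ⟨(v : X) * v, B.sq _ v.2⟩ *
        ⟨(v : X) * u * (v : X)⁻¹ * (u : X)⁻¹, B.comm_mem v.2 u.2⟩ from Subtype.ext (sq_mul L u v),
      hF, hF, xr_facts.2.2.1 (xr (F _) (F _)), xr_facts.2.2.2, (xr_facts.1 _).1,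
      (xr_facts.1 _).2.2]
  refine ⟨q, ?_, ?_, ?_, hqE, fun h a => ?_, fun u v => hpol _ _ u v (hfix u).symm (hfix v).symm⟩
  · have h := hqE 1
    rw [B.E_one] at h
    rw [h]
    simp only [sqF]
    rw [show (⟨((1 : ↥B.P) : X) * (1 : ↥B.P), B.sq _ (1 : ↥B.P).2⟩ : ↥B.N) = 1 from
      Subtype.ext (one_mul _), hF1]
  · intro g a
    obtain ⟨z, hz, hzF⟩ : ∃ z, B.Acts z (act B.k g) ∧
        ∀ n : ↥B.N, F ⟨z * n * z⁻¹, B.normalN.conj_mem _ n.2 _⟩ = al g (F n) := by
      cases g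
      exacts [⟨B.x, B.acts_x, hx⟩, ⟨B.y, B.acts_y, hy⟩]
    rw [hq (act B.k g a) (B.cj z (lift a)) (by rw [hz, hlift, hpre]), ← hzF]
    exact congrArg F (Subtype.ext (show z * (lift a : X) * z⁻¹ * (z * (lift a : X) * z⁻¹) = _ by group))
  · intro i j l
    set e := (![1, 2, 4, 8] : Fin 4 → Fin 16)
    rw [hpol (e i) (xr (e j) (e l)) _ (lift (e j) * lift (e l)) (hlift _)
        (by rw [B.map_mul, hlift, hlift, hprm]),
      hpol (e i) (e j) _ _ (hlift _) (hlift _), hpol (e i) (e l) _ _ (hlift _) (hlift _), ← hF]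
    congr 1
    apply Subtype.ext
    set u := lift (e i)
    set v := lift (e j)
    set w := lift (e l)
    have h := comm_mul L u v w
    have hinv : ∀ a b : ↥B.P, (b : X) * a * (b : X)⁻¹ * (a : X)⁻¹ =
        (a : X) * b * (a : X)⁻¹ * (b : X)⁻¹ := by
      intro a b
      have h1 := inv_eq_of_mul_eq_one_right (L.exp _ (B.comm_mem a.2 b.2))
      rw [← h1]
      group
    exact (hinv u (v * w)).trans (h.trans (congrArg₂ (· * ·) (hinv u v).symm (hinv u w).symm))
  · have e1 : pr (even16 a) = pr a := by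
      rw [hpr, if_neg h]
      exact (even16_facts.2.1 _).2.1 (even16_facts.2.1 a).1
    exact hq a _ ((hlift (even16 a)).trans e1)

end Base

end CfsgLib.L32Radical
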