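import Cfsg.Agent.L32Radical.Witness

/-!
# Decidable forms of the conditions
-/

set_option autoImplicit false

namespace CfsgLib.L32Radical

/-- `Good` as a conjunction. -/
def GoodP (d : Dim) (B : Quad) (w : List Bool) (c : Cert) : Prop :=
  (0 ∈ c.T ∧ (∀ a ∈ c.T, a < d.size ∧ a ∈ c.S) ∧ ∀ a ∈ c.T, ∀ b ∈ c.T, d.add a b ∈ c.T) ∧
  (c.S.Nodup ∧ 0 ∈ c.S ∧ (∀ a ∈ c.S, a < d.size) ∧ ∀ a ∈ c.S, ∀ b ∈ c.S, d.add a b ∈ c.S) ∧
  (∀ a ∈ c.S, d.add a a ∈ c.T) ∧
  (∀ a ∈ c.S, d.add (d.ap c.Ka a) (d.neg a) ∈ c.T ∧ d.add (d.ap c.Kb a) (d.neg a) ∈ c.T) ∧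
  (∀ a ∈ c.T, d.ap c.Ka a = a ∧ d.ap c.Kb a = a ∧ d.ap c.Gc a ∈ c.T) ∧
  (∀ a ∈ List.range d.size, d.ap c.U a = d.ap c.A (d.ap B (d.ap c.A (d.ap B (d.ap B a))))) ∧
  (∀ a ∈ List.range d.size, d.ap c.Ka a = d.ap c.U (d.ap c.U a)) ∧
  (∀ a ∈ List.range d.size, d.ap c.Gc a = apWord d c.A B w a) ∧
  (∀ a ∈ List.range d.size, d.ap c.Kb (d.ap c.Gc a) = d.ap c.Gc (d.ap c.Ka a)) ∧
  (∀ e ∈ List.range d.size, d.ap c.U e = e →
    (∃ t ∈ List.range d.size, d.ap c.A t = t ∧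
      d.add (d.ap c.A e) e =
        d.add (d.add (d.add t (d.neg (d.ap B t))) (d.ap c.U (d.add t (d.neg (d.ap B t)))))
          (d.add (d.ap c.Ka (d.add t (d.neg (d.ap B t))))
            (d.ap c.U (d.ap c.Ka (d.add t (d.neg (d.ap B t))))))) →
    ∃ m ∈ List.range d.size, d.add (d.add (d.ap c.Ka m) m) e ∈ c.T) ∧
  (∀ g ∈ List.range d.size, d.add (d.ap c.Ka g) g = 0 → d.add (d.ap c.Kb g) g = 0 →
    ∃ m ∈ List.range d.size, d.add (d.ap c.Kb m) m ∈ c.T ∧
      d.add (d.add (d.ap c.Ka m) (d.neg m)) g ∈ c.T) ∧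
  ((∃ a ∈ List.range d.size, d.ap c.Ka a ≠ a) ∧ (∃ a ∈ List.range d.size, d.ap c.Kb a ≠ a) ∧
    ∃ a ∈ List.range d.size, d.ap c.Ka (d.ap c.Kb a) ≠ a) ∧
  32 * c.T.length ≤ 4 * c.S.length

set_option synthInstance.maxSize 8000 in
set_option synthInstance.maxHeartbeats 400000 in
instance (d : Dim) (B : Quad) (w : List Bool) (c : Cert) : Decidable (GoodP d B w c) := by
  unfold GoodP; infer_instance

theorem good_of_goodP {d : Dim} {B : Quad} {w : List Bool} {c : Cert} (h : GoodP d B w c) :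
    Good d B w c := by
  obtain ⟨a1, a2, a3, a4, a5, a6, a7, a8, a9, a10, a11, a12, a13⟩ := h
  exact ⟨a1, a2, a3, a4, a5, a6, a7, a8, a9, a10, a11, a12, a13⟩

/-- A linear map is the identity on the generators after composition. -/
def fixesGens (d : Dim) (f : ℕ → ℕ) : Prop :=
  f d.gens.1 = d.gens.1 ∧ f d.gens.2.1 = d.gens.2.1 ∧ f d.gens.2.2.1 = d.gens.2.2.1 ∧
    f d.gens.2.2.2 = d.gens.2.2.2

instance (d : Dim) (f : ℕ → ℕ) : Decidable (fixesGens d f) := by unfold fixesGens; infer_instance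

/-- The commutator map of two maps. -/
def commMap (d : Dim) (A B : Quad) (a : ℕ) : ℕ := d.ap A (d.ap B (d.ap A (d.ap B (d.ap B a))))

/-- Admissible values for an involution acting with `B`. -/
def Adm (d : Dim) (seven : Bool) (A B : Quad) : Prop :=
  fixesGens d (fun a => d.ap A (d.ap A a)) ∧
    fixesGens d (fun a => commMap d A B (commMap d A B (commMap d A B (commMap d A B a)))) ∧
    (seven = true → fixesGens d (fun a => (fun b => d.ap A (d.ap B b))^[7] a))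

instance (d : Dim) (seven : Bool) (A B : Quad) : Decidable (Adm d seven A B) := by
  unfold Adm; infer_instance

/-- The code of a candidate image of a generator of order dividing `m`. -/
def Cand (d : Dim) (t m a : ℕ) : Prop :=
  d.code a = t ∧ d.enc (m * (d.dig a).1, m * (d.dig a).2.1, m * (d.dig a).2.2.1,
    m * (d.dig a).2.2.2) = 0

instance (d : Dim) (t m a : ℕ) : Decidable (Cand d t m a) := by unfold Cand; infer_instance

end CfsgLib.L32Radical
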