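import Cfsg.Agent.L32Radical.Check

/-!
# Certificates: M32
-/

set_option autoImplicit false

namespace CfsgLib.L32Radical

/-- The orders. -/
def dimM2 : Dim := ⟨1, 4, 4, 4, by decide, by decide, by decide, by decide⟩

/-- The standard map of order three. -/
def BM32 : Quad := (0, 1, 16, 60)

/-- The word of the conjugating element. -/
def wM32 : List Bool := [true, true, false, true, true, false, true, false, true]

/-- Certificates. -/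
def certsM32_0 : List Cert := [
  ⟨(0, 4, 1, 29), (0, 29, 35, 4), (0, 50, 63, 35), (0, 7, 4, 22), (0, 3, 55, 48), [0, 34], [0, 2, 8, 10, 17, 19, 25, 27, 32, 34, 40, 42, 49, 51, 57, 59]⟩,
  ⟨(0, 4, 1, 53), (0, 53, 33, 4), (0, 18, 61, 33), (0, 5, 12, 62), (0, 3, 53, 48), [0, 34], [0, 2, 8, 10, 17, 19, 25, 27, 32, 34, 40, 42, 49, 51, 57, 59]⟩,
  ⟨(0, 6, 9, 21), (0, 29, 43, 44), (0, 18, 61, 33), (0, 45, 4, 52), (0, 3, 53, 48), [0, 34], [0, 2, 8, 10, 17, 19, 25, 27, 32, 34, 40, 42, 49, 51, 57, 59]⟩,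
  ⟨(0, 6, 9, 61), (0, 53, 41, 44), (0, 50, 63, 35), (0, 47, 12, 28), (0, 3, 55, 48), [0, 34], [0, 2, 8, 10, 17, 19, 25, 27, 32, 34, 40, 42, 49, 51, 57, 59]⟩,
  ⟨(0, 12, 3, 31), (0, 53, 33, 4), (0, 18, 61, 33), (0, 15, 4, 22), (0, 3, 53, 48), [0, 34], [0, 2, 8, 10, 17, 19, 25, 27, 32, 34, 40, 42, 49, 51, 57, 59]⟩,
  ⟨(0, 12, 3, 55), (0, 29, 35, 4), (0, 50, 63, 35), (0, 13, 12, 62), (0, 3, 55, 48), [0, 34], [0, 2, 8, 10, 17, 19, 25, 27, 32, 34, 40, 42, 49, 51, 57, 59]⟩,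
  ⟨(0, 14, 11, 23), (0, 53, 41, 44), (0, 50, 63, 35), (0, 37, 4, 52), (0, 3, 55, 48), [0, 34], [0, 2, 8, 10, 17, 19, 25, 27, 32, 34, 40, 42, 49, 51, 57, 59]⟩,
  ⟨(0, 14, 11, 63), (0, 29, 43, 44), (0, 18, 61, 33), (0, 39, 12, 28), (0, 3, 53, 48), [0, 34], [0, 2, 8, 10, 17, 19, 25, 27, 32, 34, 40, 42, 49, 51, 57, 59]⟩,
  ⟨(0, 36, 43, 21), (0, 61, 41, 46), (0, 58, 55, 9), (0, 37, 4, 22), (0, 3, 29, 18), [0, 34], [0, 2, 8, 10, 17, 19, 25, 27, 32, 34, 40, 42, 49, 51, 57, 59]⟩,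
  ⟨(0, 36, 43, 61), (0, 21, 43, 46), (0, 26, 53, 11), (0, 39, 12, 62), (0, 3, 31, 18), [0, 34], [0, 2, 8, 10, 17, 19, 25, 27, 32, 34, 40, 42, 49, 51, 57, 59]⟩,
  ⟨(0, 38, 35, 29), (0, 61, 33, 6), (0, 26, 53, 11), (0, 15, 4, 52), (0, 3, 31, 18), [0, 34], [0, 2, 8, 10, 17, 19, 25, 27, 32, 34, 40, 42, 49, 51, 57, 59]⟩,
  ⟨(0, 38, 35, 53), (0, 21, 35, 6), (0, 58, 55, 9), (0, 13, 12, 28), (0, 3, 29, 18), [0, 34], [0, 2, 8, 10, 17, 19, 25, 27, 32, 34, 40, 42, 49, 51, 57, 59]⟩,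
  ⟨(0, 44, 41, 23), (0, 21, 43, 46), (0, 26, 53, 11), (0, 45, 4, 22), (0, 3, 31, 18), [0, 34], [0, 2, 8, 10, 17, 19, 25, 27, 32, 34, 40, 42, 49, 51, 57, 59]⟩,
  ⟨(0, 44, 41, 63), (0, 61, 41, 46), (0, 58, 55, 9), (0, 47, 12, 62), (0, 3, 29, 18), [0, 34], [0, 2, 8, 10, 17, 19, 25, 27, 32, 34, 40, 42, 49, 51, 57, 59]⟩,
  ⟨(0, 46, 33, 31), (0, 21, 35, 6), (0, 58, 55, 9), (0, 7, 4, 52), (0, 3, 29, 18), [0, 34], [0, 2, 8, 10, 17, 19, 25, 27, 32, 34, 40, 42, 49, 51, 57, 59]⟩,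
  ⟨(0, 46, 33, 55), (0, 61, 33, 6), (0, 26, 53, 11), (0, 5, 12, 28), (0, 3, 31, 18), [0, 34], [0, 2, 8, 10, 17, 19, 25, 27, 32, 34, 40, 42, 49, 51, 57, 59]⟩]

theorem goodM32_0 : ∀ c ∈ certsM32_0, GoodP dimM2 BM32 wM32 c := by
  decide +kernel

/-- All certificates. -/
def certsM32 : List Cert := certsM32_0

theorem goodM32 : ∀ c ∈ certsM32, Good dimM2 BM32 wM32 c := by
  intro c hc
  exact good_of_goodP (goodM32_0 c hc)

/-- Candidates. -/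
def candM32_0 : List ℕ := [0]

/-- Candidates. -/
def candM32_1 : List ℕ := [4, 6, 12, 14, 36, 38, 44, 46]

/-- Candidates. -/
def candM32_2 : List ℕ := [1, 3, 9, 11, 33, 35, 41, 43]

/-- Candidates. -/
def candM32_3 : List ℕ := [21, 23, 29, 31, 53, 55, 61, 63]

theorem candM32_0_spec : ∀ a ∈ List.range dimM2.size, Cand dimM2 0 1 a → a ∈ candM32_0 := by
  decide +kernel

theorem candM32_1_spec : ∀ a ∈ List.range dimM2.size, Cand dimM2 4 4 a → a ∈ candM32_1 := by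
  decide +kernel

theorem candM32_2_spec : ∀ a ∈ List.range dimM2.size, Cand dimM2 2 4 a → a ∈ candM32_2 := by
  decide +kernel

theorem candM32_3_spec : ∀ a ∈ List.range dimM2.size, Cand dimM2 14 4 a → a ∈ candM32_3 := by
  decide +kernel

set_option maxRecDepth 100000 in
theorem coverM32 : ∀ a ∈ candM32_0, ∀ b ∈ candM32_1, ∀ c ∈ candM32_2, ∀ e ∈ candM32_3,
    Adm dimM2 false (a, b, c, e) BM32 → (a, b, c, e) ∈ certsM32.map Cert.A := by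
  decide +kernel

theorem threeM32 : ∀ a ∈ List.range dimM2.size,
    dimM2.ap BM32 (dimM2.ap BM32 (dimM2.ap BM32 a)) = a := by
  decide +kernel

end CfsgLib.L32Radical
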