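import Cfsg.Agent.L32Radical.Check

/-!
# Certificates: P70
-/

set_option autoImplicit false

namespace CfsgLib.L32Radical

/-- The orders. -/
def dimP0 : Dim := ⟨2, 4, 4, 4, by decide, by decide, by decide, by decide⟩

/-- The standard map of order three. -/
def BP70 : Quad := (1, 2, 32, 120)

/-- The word of the conjugating element. -/
def wP70 : List Bool := [true, true, false, true, false, true, true, false, true]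

/-- Certificates. -/
def certsP70_0 : List Cert := [
  ⟨(1, 8, 2, 52), (1, 52, 126, 8), (1, 28, 22, 126), (1, 38, 44, 32), (1, 6, 24, 62), [0, 1, 20, 21], [0, 1, 4, 5, 10, 11, 14, 15, 16, 17, 20, 21, 26, 27, 30, 31, 64, 65, 68, 69, 74, 75, 78, 79, 80, 81, 84, 85, 90, 91, 94, 95]⟩,
  ⟨(1, 8, 2, 116), (1, 116, 122, 8), (1, 12, 18, 122), (1, 34, 124, 96), (1, 6, 24, 58), [0, 1, 20, 21], [0, 1, 4, 5, 10, 11, 14, 15, 16, 17, 20, 21, 26, 27, 30, 31, 64, 65, 68, 69, 74, 75, 78, 79, 80, 81, 84, 85, 90, 91, 94, 95]⟩,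
  ⟨(1, 12, 18, 52), (1, 36, 42, 76), (1, 12, 18, 122), (1, 114, 56, 32), (1, 6, 24, 58), [0, 1, 20, 21], [0, 1, 4, 5, 10, 11, 14, 15, 16, 17, 20, 21, 26, 27, 30, 31, 64, 65, 68, 69, 74, 75, 78, 79, 80, 81, 84, 85, 90, 91, 94, 95]⟩,
  ⟨(1, 12, 18, 116), (1, 100, 46, 76), (1, 28, 22, 126), (1, 118, 104, 96), (1, 6, 24, 62), [0, 1, 20, 21], [0, 1, 4, 5, 10, 11, 14, 15, 16, 17, 20, 21, 26, 27, 30, 31, 64, 65, 68, 69, 74, 75, 78, 79, 80, 81, 84, 85, 90, 91, 94, 95]⟩,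
  ⟨(1, 24, 6, 52), (1, 116, 122, 8), (1, 12, 18, 122), (1, 102, 44, 32), (1, 6, 24, 58), [0, 1, 20, 21], [0, 1, 4, 5, 10, 11, 14, 15, 16, 17, 20, 21, 26, 27, 30, 31, 64, 65, 68, 69, 74, 75, 78, 79, 80, 81, 84, 85, 90, 91, 94, 95]⟩,
  ⟨(1, 24, 6, 116), (1, 52, 126, 8), (1, 28, 22, 126), (1, 98, 124, 96), (1, 6, 24, 62), [0, 1, 20, 21], [0, 1, 4, 5, 10, 11, 14, 15, 16, 17, 20, 21, 26, 27, 30, 31, 64, 65, 68, 69, 74, 75, 78, 79, 80, 81, 84, 85, 90, 91, 94, 95]⟩,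
  ⟨(1, 28, 22, 52), (1, 100, 46, 76), (1, 28, 22, 126), (1, 50, 56, 32), (1, 6, 24, 62), [0, 1, 20, 21], [0, 1, 4, 5, 10, 11, 14, 15, 16, 17, 20, 21, 26, 27, 30, 31, 64, 65, 68, 69, 74, 75, 78, 79, 80, 81, 84, 85, 90, 91, 94, 95]⟩,
  ⟨(1, 28, 22, 116), (1, 36, 42, 76), (1, 12, 18, 122), (1, 54, 104, 96), (1, 6, 24, 58), [0, 1, 20, 21], [0, 1, 4, 5, 10, 11, 14, 15, 16, 17, 20, 21, 26, 27, 30, 31, 64, 65, 68, 69, 74, 75, 78, 79, 80, 81, 84, 85, 90, 91, 94, 95]⟩,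
  ⟨(1, 72, 66, 32), (1, 100, 126, 12), (1, 92, 66, 62), (1, 118, 124, 96), (1, 6, 12, 106), [0, 1, 20, 21], [0, 1, 4, 5, 10, 11, 14, 15, 16, 17, 20, 21, 26, 27, 30, 31, 64, 65, 68, 69, 74, 75, 78, 79, 80, 81, 84, 85, 90, 91, 94, 95]⟩,
  ⟨(1, 72, 66, 96), (1, 36, 122, 12), (1, 76, 70, 58), (1, 114, 44, 32), (1, 6, 12, 110), [0, 1, 20, 21], [0, 1, 4, 5, 10, 11, 14, 15, 16, 17, 20, 21, 26, 27, 30, 31, 64, 65, 68, 69, 74, 75, 78, 79, 80, 81, 84, 85, 90, 91, 94, 95]⟩,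
  ⟨(1, 76, 82, 32), (1, 116, 42, 72), (1, 76, 70, 58), (1, 34, 104, 96), (1, 6, 12, 110), [0, 1, 20, 21], [0, 1, 4, 5, 10, 11, 14, 15, 16, 17, 20, 21, 26, 27, 30, 31, 64, 65, 68, 69, 74, 75, 78, 79, 80, 81, 84, 85, 90, 91, 94, 95]⟩,
  ⟨(1, 76, 82, 96), (1, 52, 46, 72), (1, 92, 66, 62), (1, 38, 56, 32), (1, 6, 12, 106), [0, 1, 20, 21], [0, 1, 4, 5, 10, 11, 14, 15, 16, 17, 20, 21, 26, 27, 30, 31, 64, 65, 68, 69, 74, 75, 78, 79, 80, 81, 84, 85, 90, 91, 94, 95]⟩,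
  ⟨(1, 88, 70, 32), (1, 36, 122, 12), (1, 76, 70, 58), (1, 54, 124, 96), (1, 6, 12, 110), [0, 1, 20, 21], [0, 1, 4, 5, 10, 11, 14, 15, 16, 17, 20, 21, 26, 27, 30, 31, 64, 65, 68, 69, 74, 75, 78, 79, 80, 81, 84, 85, 90, 91, 94, 95]⟩,
  ⟨(1, 88, 70, 96), (1, 100, 126, 12), (1, 92, 66, 62), (1, 50, 44, 32), (1, 6, 12, 106), [0, 1, 20, 21], [0, 1, 4, 5, 10, 11, 14, 15, 16, 17, 20, 21, 26, 27, 30, 31, 64, 65, 68, 69, 74, 75, 78, 79, 80, 81, 84, 85, 90, 91, 94, 95]⟩,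
  ⟨(1, 92, 86, 32), (1, 52, 46, 72), (1, 92, 66, 62), (1, 98, 104, 96), (1, 6, 12, 106), [0, 1, 20, 21], [0, 1, 4, 5, 10, 11, 14, 15, 16, 17, 20, 21, 26, 27, 30, 31, 64, 65, 68, 69, 74, 75, 78, 79, 80, 81, 84, 85, 90, 91, 94, 95]⟩,
  ⟨(1, 92, 86, 96), (1, 116, 42, 72), (1, 76, 70, 58), (1, 102, 56, 32), (1, 6, 12, 110), [0, 1, 20, 21], [0, 1, 4, 5, 10, 11, 14, 15, 16, 17, 20, 21, 26, 27, 30, 31, 64, 65, 68, 69, 74, 75, 78, 79, 80, 81, 84, 85, 90, 91, 94, 95]⟩]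

theorem goodP70_0 : ∀ c ∈ certsP70_0, GoodP dimP0 BP70 wP70 c := by
  decide +kernel

/-- Certificates. -/
def certsP70_1 : List Cert := [
  ⟨(21, 8, 2, 52), (69, 52, 126, 8), (21, 28, 22, 126), (65, 38, 44, 32), (1, 6, 24, 62), [0, 5, 17, 20], [0, 1, 4, 5, 10, 11, 14, 15, 16, 17, 20, 21, 26, 27, 30, 31, 64, 65, 68, 69, 74, 75, 78, 79, 80, 81, 84, 85, 90, 91, 94, 95]⟩,
  ⟨(21, 8, 2, 116), (69, 116, 122, 8), (21, 12, 18, 122), (65, 34, 124, 96), (1, 6, 24, 58), [0, 5, 17, 20], [0, 1, 4, 5, 10, 11, 14, 15, 16, 17, 20, 21, 26, 27, 30, 31, 64, 65, 68, 69, 74, 75, 78, 79, 80, 81, 84, 85, 90, 91, 94, 95]⟩,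
  ⟨(21, 12, 18, 52), (69, 36, 42, 76), (21, 12, 18, 122), (65, 114, 56, 32), (1, 6, 24, 58), [0, 5, 17, 20], [0, 1, 4, 5, 10, 11, 14, 15, 16, 17, 20, 21, 26, 27, 30, 31, 64, 65, 68, 69, 74, 75, 78, 79, 80, 81, 84, 85, 90, 91, 94, 95]⟩,
  ⟨(21, 12, 18, 116), (69, 100, 46, 76), (21, 28, 22, 126), (65, 118, 104, 96), (1, 6, 24, 62), [0, 5, 17, 20], [0, 1, 4, 5, 10, 11, 14, 15, 16, 17, 20, 21, 26, 27, 30, 31, 64, 65, 68, 69, 74, 75, 78, 79, 80, 81, 84, 85, 90, 91, 94, 95]⟩,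
  ⟨(21, 24, 6, 52), (69, 116, 122, 8), (21, 12, 18, 122), (65, 102, 44, 32), (1, 6, 24, 58), [0, 5, 17, 20], [0, 1, 4, 5, 10, 11, 14, 15, 16, 17, 20, 21, 26, 27, 30, 31, 64, 65, 68, 69, 74, 75, 78, 79, 80, 81, 84, 85, 90, 91, 94, 95]⟩,
  ⟨(21, 24, 6, 116), (69, 52, 126, 8), (21, 28, 22, 126), (65, 98, 124, 96), (1, 6, 24, 62), [0, 5, 17, 20], [0, 1, 4, 5, 10, 11, 14, 15, 16, 17, 20, 21, 26, 27, 30, 31, 64, 65, 68, 69, 74, 75, 78, 79, 80, 81, 84, 85, 90, 91, 94, 95]⟩,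
  ⟨(21, 28, 22, 52), (69, 100, 46, 76), (21, 28, 22, 126), (65, 50, 56, 32), (1, 6, 24, 62), [0, 5, 17, 20], [0, 1, 4, 5, 10, 11, 14, 15, 16, 17, 20, 21, 26, 27, 30, 31, 64, 65, 68, 69, 74, 75, 78, 79, 80, 81, 84, 85, 90, 91, 94, 95]⟩,
  ⟨(21, 28, 22, 116), (69, 36, 42, 76), (21, 12, 18, 122), (65, 54, 104, 96), (1, 6, 24, 58), [0, 5, 17, 20], [0, 1, 4, 5, 10, 11, 14, 15, 16, 17, 20, 21, 26, 27, 30, 31, 64, 65, 68, 69, 74, 75, 78, 79, 80, 81, 84, 85, 90, 91, 94, 95]⟩,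
  ⟨(21, 72, 66, 32), (69, 100, 126, 12), (21, 92, 66, 62), (65, 118, 124, 96), (1, 6, 12, 106), [0, 5, 17, 20], [0, 1, 4, 5, 10, 11, 14, 15, 16, 17, 20, 21, 26, 27, 30, 31, 64, 65, 68, 69, 74, 75, 78, 79, 80, 81, 84, 85, 90, 91, 94, 95]⟩,
  ⟨(21, 72, 66, 96), (69, 36, 122, 12), (21, 76, 70, 58), (65, 114, 44, 32), (1, 6, 12, 110), [0, 5, 17, 20], [0, 1, 4, 5, 10, 11, 14, 15, 16, 17, 20, 21, 26, 27, 30, 31, 64, 65, 68, 69, 74, 75, 78, 79, 80, 81, 84, 85, 90, 91, 94, 95]⟩,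
  ⟨(21, 76, 82, 32), (69, 116, 42, 72), (21, 76, 70, 58), (65, 34, 104, 96), (1, 6, 12, 110), [0, 5, 17, 20], [0, 1, 4, 5, 10, 11, 14, 15, 16, 17, 20, 21, 26, 27, 30, 31, 64, 65, 68, 69, 74, 75, 78, 79, 80, 81, 84, 85, 90, 91, 94, 95]⟩,
  ⟨(21, 76, 82, 96), (69, 52, 46, 72), (21, 92, 66, 62), (65, 38, 56, 32), (1, 6, 12, 106), [0, 5, 17, 20], [0, 1, 4, 5, 10, 11, 14, 15, 16, 17, 20, 21, 26, 27, 30, 31, 64, 65, 68, 69, 74, 75, 78, 79, 80, 81, 84, 85, 90, 91, 94, 95]⟩,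
  ⟨(21, 88, 70, 32), (69, 36, 122, 12), (21, 76, 70, 58), (65, 54, 124, 96), (1, 6, 12, 110), [0, 5, 17, 20], [0, 1, 4, 5, 10, 11, 14, 15, 16, 17, 20, 21, 26, 27, 30, 31, 64, 65, 68, 69, 74, 75, 78, 79, 80, 81, 84, 85, 90, 91, 94, 95]⟩,
  ⟨(21, 88, 70, 96), (69, 100, 126, 12), (21, 92, 66, 62), (65, 50, 44, 32), (1, 6, 12, 106), [0, 5, 17, 20], [0, 1, 4, 5, 10, 11, 14, 15, 16, 17, 20, 21, 26, 27, 30, 31, 64, 65, 68, 69, 74, 75, 78, 79, 80, 81, 84, 85, 90, 91, 94, 95]⟩,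
  ⟨(21, 92, 86, 32), (69, 52, 46, 72), (21, 92, 66, 62), (65, 98, 104, 96), (1, 6, 12, 106), [0, 5, 17, 20], [0, 1, 4, 5, 10, 11, 14, 15, 16, 17, 20, 21, 26, 27, 30, 31, 64, 65, 68, 69, 74, 75, 78, 79, 80, 81, 84, 85, 90, 91, 94, 95]⟩,
  ⟨(21, 92, 86, 96), (69, 116, 42, 72), (21, 76, 70, 58), (65, 102, 56, 32), (1, 6, 12, 110), [0, 5, 17, 20], [0, 1, 4, 5, 10, 11, 14, 15, 16, 17, 20, 21, 26, 27, 30, 31, 64, 65, 68, 69, 74, 75, 78, 79, 80, 81, 84, 85, 90, 91, 94, 95]⟩]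

theorem goodP70_1 : ∀ c ∈ certsP70_1, GoodP dimP0 BP70 wP70 c := by
  decide +kernel

/-- Certificates. -/
def certsP70_2 : List Cert := [
  ⟨(65, 8, 2, 52), (5, 52, 126, 8), (69, 28, 22, 126), (85, 38, 44, 32), (17, 6, 24, 62), [0, 20], [0, 4, 10, 14, 16, 20, 26, 30, 64, 68, 74, 78, 80, 84, 90, 94]⟩,
  ⟨(65, 8, 2, 116), (5, 116, 122, 8), (69, 12, 18, 122), (85, 34, 124, 96), (17, 6, 24, 58), [0, 20], [0, 4, 10, 14, 16, 20, 26, 30, 64, 68, 74, 78, 80, 84, 90, 94]⟩,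
  ⟨(65, 12, 18, 52), (5, 36, 42, 76), (69, 12, 18, 122), (85, 114, 56, 32), (17, 6, 24, 58), [0, 20], [0, 4, 10, 14, 16, 20, 26, 30, 64, 68, 74, 78, 80, 84, 90, 94]⟩,
  ⟨(65, 12, 18, 116), (5, 100, 46, 76), (69, 28, 22, 126), (85, 118, 104, 96), (17, 6, 24, 62), [0, 20], [0, 4, 10, 14, 16, 20, 26, 30, 64, 68, 74, 78, 80, 84, 90, 94]⟩,
  ⟨(65, 24, 6, 52), (5, 116, 122, 8), (69, 12, 18, 122), (85, 102, 44, 32), (17, 6, 24, 58), [0, 20], [0, 4, 10, 14, 16, 20, 26, 30, 64, 68, 74, 78, 80, 84, 90, 94]⟩,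
  ⟨(65, 24, 6, 116), (5, 52, 126, 8), (69, 28, 22, 126), (85, 98, 124, 96), (17, 6, 24, 62), [0, 20], [0, 4, 10, 14, 16, 20, 26, 30, 64, 68, 74, 78, 80, 84, 90, 94]⟩,
  ⟨(65, 28, 22, 52), (5, 100, 46, 76), (69, 28, 22, 126), (85, 50, 56, 32), (17, 6, 24, 62), [0, 20], [0, 4, 10, 14, 16, 20, 26, 30, 64, 68, 74, 78, 80, 84, 90, 94]⟩,
  ⟨(65, 28, 22, 116), (5, 36, 42, 76), (69, 12, 18, 122), (85, 54, 104, 96), (17, 6, 24, 58), [0, 20], [0, 4, 10, 14, 16, 20, 26, 30, 64, 68, 74, 78, 80, 84, 90, 94]⟩,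
  ⟨(65, 72, 66, 32), (5, 100, 126, 12), (69, 92, 66, 62), (85, 118, 124, 96), (17, 6, 12, 106), [0, 20], [0, 4, 10, 14, 16, 20, 26, 30, 64, 68, 74, 78, 80, 84, 90, 94]⟩,
  ⟨(65, 72, 66, 96), (5, 36, 122, 12), (69, 76, 70, 58), (85, 114, 44, 32), (17, 6, 12, 110), [0, 20], [0, 4, 10, 14, 16, 20, 26, 30, 64, 68, 74, 78, 80, 84, 90, 94]⟩,
  ⟨(65, 76, 82, 32), (5, 116, 42, 72), (69, 76, 70, 58), (85, 34, 104, 96), (17, 6, 12, 110), [0, 20], [0, 4, 10, 14, 16, 20, 26, 30, 64, 68, 74, 78, 80, 84, 90, 94]⟩,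
  ⟨(65, 76, 82, 96), (5, 52, 46, 72), (69, 92, 66, 62), (85, 38, 56, 32), (17, 6, 12, 106), [0, 20], [0, 4, 10, 14, 16, 20, 26, 30, 64, 68, 74, 78, 80, 84, 90, 94]⟩,
  ⟨(65, 88, 70, 32), (5, 36, 122, 12), (69, 76, 70, 58), (85, 54, 124, 96), (17, 6, 12, 110), [0, 20], [0, 4, 10, 14, 16, 20, 26, 30, 64, 68, 74, 78, 80, 84, 90, 94]⟩,
  ⟨(65, 88, 70, 96), (5, 100, 126, 12), (69, 92, 66, 62), (85, 50, 44, 32), (17, 6, 12, 106), [0, 20], [0, 4, 10, 14, 16, 20, 26, 30, 64, 68, 74, 78, 80, 84, 90, 94]⟩,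
  ⟨(65, 92, 86, 32), (5, 52, 46, 72), (69, 92, 66, 62), (85, 98, 104, 96), (17, 6, 12, 106), [0, 20], [0, 4, 10, 14, 16, 20, 26, 30, 64, 68, 74, 78, 80, 84, 90, 94]⟩,
  ⟨(65, 92, 86, 96), (5, 116, 42, 72), (69, 76, 70, 58), (85, 102, 56, 32), (17, 6, 12, 110), [0, 20], [0, 4, 10, 14, 16, 20, 26, 30, 64, 68, 74, 78, 80, 84, 90, 94]⟩]

theorem goodP70_2 : ∀ c ∈ certsP70_2, GoodP dimP0 BP70 wP70 c := by
  decide +kernel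

/-- Certificates. -/
def certsP70_3 : List Cert := [
  ⟨(85, 8, 2, 52), (65, 52, 126, 8), (81, 28, 22, 126), (21, 38, 44, 32), (17, 6, 24, 62), [0, 20], [0, 4, 10, 14, 16, 20, 26, 30, 64, 68, 74, 78, 80, 84, 90, 94]⟩,
  ⟨(85, 8, 2, 116), (65, 116, 122, 8), (81, 12, 18, 122), (21, 34, 124, 96), (17, 6, 24, 58), [0, 20], [0, 4, 10, 14, 16, 20, 26, 30, 64, 68, 74, 78, 80, 84, 90, 94]⟩,
  ⟨(85, 12, 18, 52), (65, 36, 42, 76), (81, 12, 18, 122), (21, 114, 56, 32), (17, 6, 24, 58), [0, 20], [0, 4, 10, 14, 16, 20, 26, 30, 64, 68, 74, 78, 80, 84, 90, 94]⟩,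
  ⟨(85, 12, 18, 116), (65, 100, 46, 76), (81, 28, 22, 126), (21, 118, 104, 96), (17, 6, 24, 62), [0, 20], [0, 4, 10, 14, 16, 20, 26, 30, 64, 68, 74, 78, 80, 84, 90, 94]⟩,
  ⟨(85, 24, 6, 52), (65, 116, 122, 8), (81, 12, 18, 122), (21, 102, 44, 32), (17, 6, 24, 58), [0, 20], [0, 4, 10, 14, 16, 20, 26, 30, 64, 68, 74, 78, 80, 84, 90, 94]⟩,
  ⟨(85, 24, 6, 116), (65, 52, 126, 8), (81, 28, 22, 126), (21, 98, 124, 96), (17, 6, 24, 62), [0, 20], [0, 4, 10, 14, 16, 20, 26, 30, 64, 68, 74, 78, 80, 84, 90, 94]⟩,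
  ⟨(85, 28, 22, 52), (65, 100, 46, 76), (81, 28, 22, 126), (21, 50, 56, 32), (17, 6, 24, 62), [0, 20], [0, 4, 10, 14, 16, 20, 26, 30, 64, 68, 74, 78, 80, 84, 90, 94]⟩,
  ⟨(85, 28, 22, 116), (65, 36, 42, 76), (81, 12, 18, 122), (21, 54, 104, 96), (17, 6, 24, 58), [0, 20], [0, 4, 10, 14, 16, 20, 26, 30, 64, 68, 74, 78, 80, 84, 90, 94]⟩,
  ⟨(85, 72, 66, 32), (65, 100, 126, 12), (81, 92, 66, 62), (21, 118, 124, 96), (17, 6, 12, 106), [0, 20], [0, 4, 10, 14, 16, 20, 26, 30, 64, 68, 74, 78, 80, 84, 90, 94]⟩,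
  ⟨(85, 72, 66, 96), (65, 36, 122, 12), (81, 76, 70, 58), (21, 114, 44, 32), (17, 6, 12, 110), [0, 20], [0, 4, 10, 14, 16, 20, 26, 30, 64, 68, 74, 78, 80, 84, 90, 94]⟩,
  ⟨(85, 76, 82, 32), (65, 116, 42, 72), (81, 76, 70, 58), (21, 34, 104, 96), (17, 6, 12, 110), [0, 20], [0, 4, 10, 14, 16, 20, 26, 30, 64, 68, 74, 78, 80, 84, 90, 94]⟩,
  ⟨(85, 76, 82, 96), (65, 52, 46, 72), (81, 92, 66, 62), (21, 38, 56, 32), (17, 6, 12, 106), [0, 20], [0, 4, 10, 14, 16, 20, 26, 30, 64, 68, 74, 78, 80, 84, 90, 94]⟩,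
  ⟨(85, 88, 70, 32), (65, 36, 122, 12), (81, 76, 70, 58), (21, 54, 124, 96), (17, 6, 12, 110), [0, 20], [0, 4, 10, 14, 16, 20, 26, 30, 64, 68, 74, 78, 80, 84, 90, 94]⟩,
  ⟨(85, 88, 70, 96), (65, 100, 126, 12), (81, 92, 66, 62), (21, 50, 44, 32), (17, 6, 12, 106), [0, 20], [0, 4, 10, 14, 16, 20, 26, 30, 64, 68, 74, 78, 80, 84, 90, 94]⟩,
  ⟨(85, 92, 86, 32), (65, 52, 46, 72), (81, 92, 66, 62), (21, 98, 104, 96), (17, 6, 12, 106), [0, 20], [0, 4, 10, 14, 16, 20, 26, 30, 64, 68, 74, 78, 80, 84, 90, 94]⟩,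
  ⟨(85, 92, 86, 96), (65, 116, 42, 72), (81, 76, 70, 58), (21, 102, 56, 32), (17, 6, 12, 110), [0, 20], [0, 4, 10, 14, 16, 20, 26, 30, 64, 68, 74, 78, 80, 84, 90, 94]⟩]

theorem goodP70_3 : ∀ c ∈ certsP70_3, GoodP dimP0 BP70 wP70 c := by
  decide +kernel

/-- All certificates. -/
def certsP70 : List Cert := certsP70_0 ++ certsP70_1 ++ certsP70_2 ++ certsP70_3

theorem goodP70 : ∀ c ∈ certsP70, Good dimP0 BP70 wP70 c := by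
  intro c hc
  simp only [certsP70, List.mem_append, or_assoc] at hc
  rcases hc with hc | hc | hc | hc
  · exact good_of_goodP (goodP70_0 c hc)
  · exact good_of_goodP (goodP70_1 c hc)
  · exact good_of_goodP (goodP70_2 c hc)
  · exact good_of_goodP (goodP70_3 c hc)

/-- Candidates. -/
def candP70_0 : List ℕ := [1, 5, 17, 21, 65, 69, 81, 85]

/-- Candidates. -/
def candP70_1 : List ℕ := [8, 12, 24, 28, 72, 76, 88, 92]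

/-- Candidates. -/
def candP70_2 : List ℕ := [2, 6, 18, 22, 66, 70, 82, 86]

/-- Candidates. -/
def candP70_3 : List ℕ := [32, 36, 48, 52, 96, 100, 112, 116]

theorem candP70_0_spec : ∀ a ∈ List.range dimP0.size, Cand dimP0 1 2 a → a ∈ candP70_0 := by
  decide +kernel

theorem candP70_1_spec : ∀ a ∈ List.range dimP0.size, Cand dimP0 4 4 a → a ∈ candP70_1 := by
  decide +kernel

theorem candP70_2_spec : ∀ a ∈ List.range dimP0.size, Cand dimP0 2 4 a → a ∈ candP70_2 := by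
  decide +kernel

theorem candP70_3_spec : ∀ a ∈ List.range dimP0.size, Cand dimP0 8 4 a → a ∈ candP70_3 := by
  decide +kernel

set_option maxRecDepth 100000 in
theorem coverP70 : ∀ a ∈ candP70_0, ∀ b ∈ candP70_1, ∀ c ∈ candP70_2, ∀ e ∈ candP70_3,
    Adm dimP0 false (a, b, c, e) BP70 → (a, b, c, e) ∈ certsP70.map Cert.A := by
  decide +kernel

theorem threeP70 : ∀ a ∈ List.range dimP0.size,
    dimP0.ap BP70 (dimP0.ap BP70 (dimP0.ap BP70 a)) = a := by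
  decide +kernel

end CfsgLib.L32Radical
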