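import Cfsg.Agent.L32Radical.Check

/-!
# Certificates: P71
-/

set_option autoImplicit false

namespace CfsgLib.L32Radical

/-- The orders. -/
def dimP1 : Dim := ⟨2, 4, 4, 4, by decide, by decide, by decide, by decide⟩

/-- The standard map of order three. -/
def BP71 : Quad := (1, 2, 32, 120)

/-- The word of the conjugating element. -/
def wP71 : List Bool := [true, true, false, true, false, true, true, false, true]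

/-- Certificates. -/
def certsP71_0 : List Cert := [
  ⟨(1, 8, 2, 53), (1, 53, 126, 8), (1, 29, 23, 126), (1, 38, 45, 32), (1, 7, 25, 63), [0, 1, 20, 21], [0, 1, 4, 5, 10, 11, 14, 15, 16, 17, 20, 21, 26, 27, 30, 31, 64, 65, 68, 69, 74, 75, 78, 79, 80, 81, 84, 85, 90, 91, 94, 95]⟩,
  ⟨(1, 8, 2, 117), (1, 117, 122, 8), (1, 13, 19, 122), (1, 34, 125, 96), (1, 7, 25, 59), [0, 1, 20, 21], [0, 1, 4, 5, 10, 11, 14, 15, 16, 17, 20, 21, 26, 27, 30, 31, 64, 65, 68, 69, 74, 75, 78, 79, 80, 81, 84, 85, 90, 91, 94, 95]⟩,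
  ⟨(1, 12, 18, 53), (1, 37, 42, 76), (1, 13, 19, 122), (1, 114, 57, 32), (1, 7, 25, 59), [0, 1, 20, 21], [0, 1, 4, 5, 10, 11, 14, 15, 16, 17, 20, 21, 26, 27, 30, 31, 64, 65, 68, 69, 74, 75, 78, 79, 80, 81, 84, 85, 90, 91, 94, 95]⟩,
  ⟨(1, 12, 18, 117), (1, 101, 46, 76), (1, 29, 23, 126), (1, 118, 105, 96), (1, 7, 25, 63), [0, 1, 20, 21], [0, 1, 4, 5, 10, 11, 14, 15, 16, 17, 20, 21, 26, 27, 30, 31, 64, 65, 68, 69, 74, 75, 78, 79, 80, 81, 84, 85, 90, 91, 94, 95]⟩,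
  ⟨(1, 24, 6, 53), (1, 117, 122, 8), (1, 13, 19, 122), (1, 102, 45, 32), (1, 7, 25, 59), [0, 1, 20, 21], [0, 1, 4, 5, 10, 11, 14, 15, 16, 17, 20, 21, 26, 27, 30, 31, 64, 65, 68, 69, 74, 75, 78, 79, 80, 81, 84, 85, 90, 91, 94, 95]⟩,
  ⟨(1, 24, 6, 117), (1, 53, 126, 8), (1, 29, 23, 126), (1, 98, 125, 96), (1, 7, 25, 63), [0, 1, 20, 21], [0, 1, 4, 5, 10, 11, 14, 15, 16, 17, 20, 21, 26, 27, 30, 31, 64, 65, 68, 69, 74, 75, 78, 79, 80, 81, 84, 85, 90, 91, 94, 95]⟩,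
  ⟨(1, 28, 22, 53), (1, 101, 46, 76), (1, 29, 23, 126), (1, 50, 57, 32), (1, 7, 25, 63), [0, 1, 20, 21], [0, 1, 4, 5, 10, 11, 14, 15, 16, 17, 20, 21, 26, 27, 30, 31, 64, 65, 68, 69, 74, 75, 78, 79, 80, 81, 84, 85, 90, 91, 94, 95]⟩,
  ⟨(1, 28, 22, 117), (1, 37, 42, 76), (1, 13, 19, 122), (1, 54, 105, 96), (1, 7, 25, 59), [0, 1, 20, 21], [0, 1, 4, 5, 10, 11, 14, 15, 16, 17, 20, 21, 26, 27, 30, 31, 64, 65, 68, 69, 74, 75, 78, 79, 80, 81, 84, 85, 90, 91, 94, 95]⟩,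
  ⟨(1, 72, 66, 33), (1, 101, 126, 12), (1, 93, 67, 62), (1, 118, 125, 96), (1, 7, 13, 107), [0, 1, 20, 21], [0, 1, 4, 5, 10, 11, 14, 15, 16, 17, 20, 21, 26, 27, 30, 31, 64, 65, 68, 69, 74, 75, 78, 79, 80, 81, 84, 85, 90, 91, 94, 95]⟩,
  ⟨(1, 72, 66, 97), (1, 37, 122, 12), (1, 77, 71, 58), (1, 114, 45, 32), (1, 7, 13, 111), [0, 1, 20, 21], [0, 1, 4, 5, 10, 11, 14, 15, 16, 17, 20, 21, 26, 27, 30, 31, 64, 65, 68, 69, 74, 75, 78, 79, 80, 81, 84, 85, 90, 91, 94, 95]⟩,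
  ⟨(1, 76, 82, 33), (1, 117, 42, 72), (1, 77, 71, 58), (1, 34, 105, 96), (1, 7, 13, 111), [0, 1, 20, 21], [0, 1, 4, 5, 10, 11, 14, 15, 16, 17, 20, 21, 26, 27, 30, 31, 64, 65, 68, 69, 74, 75, 78, 79, 80, 81, 84, 85, 90, 91, 94, 95]⟩,
  ⟨(1, 76, 82, 97), (1, 53, 46, 72), (1, 93, 67, 62), (1, 38, 57, 32), (1, 7, 13, 107), [0, 1, 20, 21], [0, 1, 4, 5, 10, 11, 14, 15, 16, 17, 20, 21, 26, 27, 30, 31, 64, 65, 68, 69, 74, 75, 78, 79, 80, 81, 84, 85, 90, 91, 94, 95]⟩,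
  ⟨(1, 88, 70, 33), (1, 37, 122, 12), (1, 77, 71, 58), (1, 54, 125, 96), (1, 7, 13, 111), [0, 1, 20, 21], [0, 1, 4, 5, 10, 11, 14, 15, 16, 17, 20, 21, 26, 27, 30, 31, 64, 65, 68, 69, 74, 75, 78, 79, 80, 81, 84, 85, 90, 91, 94, 95]⟩,
  ⟨(1, 88, 70, 97), (1, 101, 126, 12), (1, 93, 67, 62), (1, 50, 45, 32), (1, 7, 13, 107), [0, 1, 20, 21], [0, 1, 4, 5, 10, 11, 14, 15, 16, 17, 20, 21, 26, 27, 30, 31, 64, 65, 68, 69, 74, 75, 78, 79, 80, 81, 84, 85, 90, 91, 94, 95]⟩,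
  ⟨(1, 92, 86, 33), (1, 53, 46, 72), (1, 93, 67, 62), (1, 98, 105, 96), (1, 7, 13, 107), [0, 1, 20, 21], [0, 1, 4, 5, 10, 11, 14, 15, 16, 17, 20, 21, 26, 27, 30, 31, 64, 65, 68, 69, 74, 75, 78, 79, 80, 81, 84, 85, 90, 91, 94, 95]⟩,
  ⟨(1, 92, 86, 97), (1, 117, 42, 72), (1, 77, 71, 58), (1, 102, 57, 32), (1, 7, 13, 111), [0, 1, 20, 21], [0, 1, 4, 5, 10, 11, 14, 15, 16, 17, 20, 21, 26, 27, 30, 31, 64, 65, 68, 69, 74, 75, 78, 79, 80, 81, 84, 85, 90, 91, 94, 95]⟩]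

theorem goodP71_0 : ∀ c ∈ certsP71_0, GoodP dimP1 BP71 wP71 c := by
  decide +kernel

/-- Certificates. -/
def certsP71_1 : List Cert := [
  ⟨(21, 8, 2, 49), (69, 49, 126, 8), (21, 25, 19, 126), (65, 38, 41, 32), (1, 3, 29, 59), [0, 5, 17, 20], [0, 1, 4, 5, 10, 11, 14, 15, 16, 17, 20, 21, 26, 27, 30, 31, 64, 65, 68, 69, 74, 75, 78, 79, 80, 81, 84, 85, 90, 91, 94, 95]⟩,
  ⟨(21, 8, 2, 113), (69, 113, 122, 8), (21, 9, 23, 122), (65, 34, 121, 96), (1, 3, 29, 63), [0, 5, 17, 20], [0, 1, 4, 5, 10, 11, 14, 15, 16, 17, 20, 21, 26, 27, 30, 31, 64, 65, 68, 69, 74, 75, 78, 79, 80, 81, 84, 85, 90, 91, 94, 95]⟩,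
  ⟨(21, 12, 18, 49), (69, 33, 42, 76), (21, 9, 23, 122), (65, 114, 61, 32), (1, 3, 29, 63), [0, 5, 17, 20], [0, 1, 4, 5, 10, 11, 14, 15, 16, 17, 20, 21, 26, 27, 30, 31, 64, 65, 68, 69, 74, 75, 78, 79, 80, 81, 84, 85, 90, 91, 94, 95]⟩,
  ⟨(21, 12, 18, 113), (69, 97, 46, 76), (21, 25, 19, 126), (65, 118, 109, 96), (1, 3, 29, 59), [0, 5, 17, 20], [0, 1, 4, 5, 10, 11, 14, 15, 16, 17, 20, 21, 26, 27, 30, 31, 64, 65, 68, 69, 74, 75, 78, 79, 80, 81, 84, 85, 90, 91, 94, 95]⟩,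
  ⟨(21, 24, 6, 49), (69, 113, 122, 8), (21, 9, 23, 122), (65, 102, 41, 32), (1, 3, 29, 63), [0, 5, 17, 20], [0, 1, 4, 5, 10, 11, 14, 15, 16, 17, 20, 21, 26, 27, 30, 31, 64, 65, 68, 69, 74, 75, 78, 79, 80, 81, 84, 85, 90, 91, 94, 95]⟩,
  ⟨(21, 24, 6, 113), (69, 49, 126, 8), (21, 25, 19, 126), (65, 98, 121, 96), (1, 3, 29, 59), [0, 5, 17, 20], [0, 1, 4, 5, 10, 11, 14, 15, 16, 17, 20, 21, 26, 27, 30, 31, 64, 65, 68, 69, 74, 75, 78, 79, 80, 81, 84, 85, 90, 91, 94, 95]⟩,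
  ⟨(21, 28, 22, 49), (69, 97, 46, 76), (21, 25, 19, 126), (65, 50, 61, 32), (1, 3, 29, 59), [0, 5, 17, 20], [0, 1, 4, 5, 10, 11, 14, 15, 16, 17, 20, 21, 26, 27, 30, 31, 64, 65, 68, 69, 74, 75, 78, 79, 80, 81, 84, 85, 90, 91, 94, 95]⟩,
  ⟨(21, 28, 22, 113), (69, 33, 42, 76), (21, 9, 23, 122), (65, 54, 109, 96), (1, 3, 29, 63), [0, 5, 17, 20], [0, 1, 4, 5, 10, 11, 14, 15, 16, 17, 20, 21, 26, 27, 30, 31, 64, 65, 68, 69, 74, 75, 78, 79, 80, 81, 84, 85, 90, 91, 94, 95]⟩,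
  ⟨(21, 72, 66, 37), (69, 97, 126, 12), (21, 89, 71, 62), (65, 118, 121, 96), (1, 3, 9, 111), [0, 5, 17, 20], [0, 1, 4, 5, 10, 11, 14, 15, 16, 17, 20, 21, 26, 27, 30, 31, 64, 65, 68, 69, 74, 75, 78, 79, 80, 81, 84, 85, 90, 91, 94, 95]⟩,
  ⟨(21, 72, 66, 101), (69, 33, 122, 12), (21, 73, 67, 58), (65, 114, 41, 32), (1, 3, 9, 107), [0, 5, 17, 20], [0, 1, 4, 5, 10, 11, 14, 15, 16, 17, 20, 21, 26, 27, 30, 31, 64, 65, 68, 69, 74, 75, 78, 79, 80, 81, 84, 85, 90, 91, 94, 95]⟩,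
  ⟨(21, 76, 82, 37), (69, 113, 42, 72), (21, 73, 67, 58), (65, 34, 109, 96), (1, 3, 9, 107), [0, 5, 17, 20], [0, 1, 4, 5, 10, 11, 14, 15, 16, 17, 20, 21, 26, 27, 30, 31, 64, 65, 68, 69, 74, 75, 78, 79, 80, 81, 84, 85, 90, 91, 94, 95]⟩,
  ⟨(21, 76, 82, 101), (69, 49, 46, 72), (21, 89, 71, 62), (65, 38, 61, 32), (1, 3, 9, 111), [0, 5, 17, 20], [0, 1, 4, 5, 10, 11, 14, 15, 16, 17, 20, 21, 26, 27, 30, 31, 64, 65, 68, 69, 74, 75, 78, 79, 80, 81, 84, 85, 90, 91, 94, 95]⟩,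
  ⟨(21, 88, 70, 37), (69, 33, 122, 12), (21, 73, 67, 58), (65, 54, 121, 96), (1, 3, 9, 107), [0, 5, 17, 20], [0, 1, 4, 5, 10, 11, 14, 15, 16, 17, 20, 21, 26, 27, 30, 31, 64, 65, 68, 69, 74, 75, 78, 79, 80, 81, 84, 85, 90, 91, 94, 95]⟩,
  ⟨(21, 88, 70, 101), (69, 97, 126, 12), (21, 89, 71, 62), (65, 50, 41, 32), (1, 3, 9, 111), [0, 5, 17, 20], [0, 1, 4, 5, 10, 11, 14, 15, 16, 17, 20, 21, 26, 27, 30, 31, 64, 65, 68, 69, 74, 75, 78, 79, 80, 81, 84, 85, 90, 91, 94, 95]⟩,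
  ⟨(21, 92, 86, 37), (69, 49, 46, 72), (21, 89, 71, 62), (65, 98, 109, 96), (1, 3, 9, 111), [0, 5, 17, 20], [0, 1, 4, 5, 10, 11, 14, 15, 16, 17, 20, 21, 26, 27, 30, 31, 64, 65, 68, 69, 74, 75, 78, 79, 80, 81, 84, 85, 90, 91, 94, 95]⟩,
  ⟨(21, 92, 86, 101), (69, 113, 42, 72), (21, 73, 67, 58), (65, 102, 61, 32), (1, 3, 9, 107), [0, 5, 17, 20], [0, 1, 4, 5, 10, 11, 14, 15, 16, 17, 20, 21, 26, 27, 30, 31, 64, 65, 68, 69, 74, 75, 78, 79, 80, 81, 84, 85, 90, 91, 94, 95]⟩]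

theorem goodP71_1 : ∀ c ∈ certsP71_1, GoodP dimP1 BP71 wP71 c := by
  decide +kernel

/-- All certificates. -/
def certsP71 : List Cert := certsP71_0 ++ certsP71_1

theorem goodP71 : ∀ c ∈ certsP71, Good dimP1 BP71 wP71 c := by
  intro c hc
  simp only [certsP71, List.mem_append, or_assoc] at hc
  rcases hc with hc | hc
  · exact good_of_goodP (goodP71_0 c hc)
  · exact good_of_goodP (goodP71_1 c hc)

/-- Candidates. -/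
def candP71_0 : List ℕ := [1, 5, 17, 21, 65, 69, 81, 85]

/-- Candidates. -/
def candP71_1 : List ℕ := [8, 12, 24, 28, 72, 76, 88, 92]

/-- Candidates. -/
def candP71_2 : List ℕ := [2, 6, 18, 22, 66, 70, 82, 86]

/-- Candidates. -/
def candP71_3 : List ℕ := [33, 37, 49, 53, 97, 101, 113, 117]

theorem candP71_0_spec : ∀ a ∈ List.range dimP1.size, Cand dimP1 1 2 a → a ∈ candP71_0 := by
  decide +kernel

theorem candP71_1_spec : ∀ a ∈ List.range dimP1.size, Cand dimP1 4 4 a → a ∈ candP71_1 := by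
  decide +kernel

theorem candP71_2_spec : ∀ a ∈ List.range dimP1.size, Cand dimP1 2 4 a → a ∈ candP71_2 := by
  decide +kernel

theorem candP71_3_spec : ∀ a ∈ List.range dimP1.size, Cand dimP1 9 4 a → a ∈ candP71_3 := by
  decide +kernel

set_option maxRecDepth 100000 in
theorem coverP71 : ∀ a ∈ candP71_0, ∀ b ∈ candP71_1, ∀ c ∈ candP71_2, ∀ e ∈ candP71_3,
    Adm dimP1 false (a, b, c, e) BP71 → (a, b, c, e) ∈ certsP71.map Cert.A := by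
  decide +kernel

theorem threeP71 : ∀ a ∈ List.range dimP1.size,
    dimP1.ap BP71 (dimP1.ap BP71 (dimP1.ap BP71 a)) = a := by
  decide +kernel

end CfsgLib.L32Radical
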