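import Cfsg.Agent.L32Radical.Check

/-!
# Certificates: P73
-/

set_option autoImplicit false

namespace CfsgLib.L32Radical

/-- The orders. -/
def dimP3 : Dim := ⟨2, 4, 4, 4, by decide, by decide, by decide, by decide⟩

/-- The standard map of order three. -/
def BP73 : Quad := (1, 2, 32, 120)

/-- The word of the conjugating element. -/
def wP73 : List Bool := [true, true, false, true, true, false, true, false, true]

/-- Certificates. -/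
def certsP73_0 : List Cert := [
  ⟨(1, 8, 2, 59), (1, 59, 71, 8), (1, 101, 126, 71), (1, 14, 8, 45), (1, 7, 111, 97), [0, 1, 68, 69], [0, 1, 4, 5, 16, 17, 20, 21, 34, 35, 38, 39, 50, 51, 54, 55, 64, 65, 68, 69, 80, 81, 84, 85, 98, 99, 102, 103, 114, 115, 118, 119]⟩,
  ⟨(1, 8, 2, 107), (1, 107, 67, 8), (1, 37, 122, 67), (1, 10, 24, 125), (1, 7, 107, 97), [0, 1, 68, 69], [0, 1, 4, 5, 16, 17, 20, 21, 34, 35, 38, 39, 50, 51, 54, 55, 64, 65, 68, 69, 80, 81, 84, 85, 98, 99, 102, 103, 114, 115, 118, 119]⟩,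
  ⟨(1, 12, 18, 43), (1, 59, 87, 88), (1, 37, 122, 67), (1, 90, 8, 105), (1, 7, 107, 97), [0, 1, 68, 69], [0, 1, 4, 5, 16, 17, 20, 21, 34, 35, 38, 39, 50, 51, 54, 55, 64, 65, 68, 69, 80, 81, 84, 85, 98, 99, 102, 103, 114, 115, 118, 119]⟩,
  ⟨(1, 12, 18, 123), (1, 107, 83, 88), (1, 101, 126, 71), (1, 94, 24, 57), (1, 7, 111, 97), [0, 1, 68, 69], [0, 1, 4, 5, 16, 17, 20, 21, 34, 35, 38, 39, 50, 51, 54, 55, 64, 65, 68, 69, 80, 81, 84, 85, 98, 99, 102, 103, 114, 115, 118, 119]⟩,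
  ⟨(1, 24, 6, 63), (1, 107, 67, 8), (1, 37, 122, 67), (1, 30, 8, 45), (1, 7, 107, 97), [0, 1, 68, 69], [0, 1, 4, 5, 16, 17, 20, 21, 34, 35, 38, 39, 50, 51, 54, 55, 64, 65, 68, 69, 80, 81, 84, 85, 98, 99, 102, 103, 114, 115, 118, 119]⟩,
  ⟨(1, 24, 6, 111), (1, 59, 71, 8), (1, 101, 126, 71), (1, 26, 24, 125), (1, 7, 111, 97), [0, 1, 68, 69], [0, 1, 4, 5, 16, 17, 20, 21, 34, 35, 38, 39, 50, 51, 54, 55, 64, 65, 68, 69, 80, 81, 84, 85, 98, 99, 102, 103, 114, 115, 118, 119]⟩,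
  ⟨(1, 28, 22, 47), (1, 107, 83, 88), (1, 101, 126, 71), (1, 74, 8, 105), (1, 7, 111, 97), [0, 1, 68, 69], [0, 1, 4, 5, 16, 17, 20, 21, 34, 35, 38, 39, 50, 51, 54, 55, 64, 65, 68, 69, 80, 81, 84, 85, 98, 99, 102, 103, 114, 115, 118, 119]⟩,
  ⟨(1, 28, 22, 127), (1, 59, 87, 88), (1, 37, 122, 67), (1, 78, 24, 57), (1, 7, 107, 97), [0, 1, 68, 69], [0, 1, 4, 5, 16, 17, 20, 21, 34, 35, 38, 39, 50, 51, 54, 55, 64, 65, 68, 69, 80, 81, 84, 85, 98, 99, 102, 103, 114, 115, 118, 119]⟩,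
  ⟨(1, 72, 86, 43), (1, 123, 83, 92), (1, 117, 110, 19), (1, 74, 8, 45), (1, 7, 59, 37), [0, 1, 68, 69], [0, 1, 4, 5, 16, 17, 20, 21, 34, 35, 38, 39, 50, 51, 54, 55, 64, 65, 68, 69, 80, 81, 84, 85, 98, 99, 102, 103, 114, 115, 118, 119]⟩,
  ⟨(1, 72, 86, 123), (1, 43, 87, 92), (1, 53, 106, 23), (1, 78, 24, 125), (1, 7, 63, 37), [0, 1, 68, 69], [0, 1, 4, 5, 16, 17, 20, 21, 34, 35, 38, 39, 50, 51, 54, 55, 64, 65, 68, 69, 80, 81, 84, 85, 98, 99, 102, 103, 114, 115, 118, 119]⟩,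
  ⟨(1, 76, 70, 59), (1, 123, 67, 12), (1, 53, 106, 23), (1, 30, 8, 105), (1, 7, 63, 37), [0, 1, 68, 69], [0, 1, 4, 5, 16, 17, 20, 21, 34, 35, 38, 39, 50, 51, 54, 55, 64, 65, 68, 69, 80, 81, 84, 85, 98, 99, 102, 103, 114, 115, 118, 119]⟩,
  ⟨(1, 76, 70, 107), (1, 43, 71, 12), (1, 117, 110, 19), (1, 26, 24, 57), (1, 7, 59, 37), [0, 1, 68, 69], [0, 1, 4, 5, 16, 17, 20, 21, 34, 35, 38, 39, 50, 51, 54, 55, 64, 65, 68, 69, 80, 81, 84, 85, 98, 99, 102, 103, 114, 115, 118, 119]⟩,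
  ⟨(1, 88, 82, 47), (1, 43, 87, 92), (1, 53, 106, 23), (1, 90, 8, 45), (1, 7, 63, 37), [0, 1, 68, 69], [0, 1, 4, 5, 16, 17, 20, 21, 34, 35, 38, 39, 50, 51, 54, 55, 64, 65, 68, 69, 80, 81, 84, 85, 98, 99, 102, 103, 114, 115, 118, 119]⟩,
  ⟨(1, 88, 82, 127), (1, 123, 83, 92), (1, 117, 110, 19), (1, 94, 24, 125), (1, 7, 59, 37), [0, 1, 68, 69], [0, 1, 4, 5, 16, 17, 20, 21, 34, 35, 38, 39, 50, 51, 54, 55, 64, 65, 68, 69, 80, 81, 84, 85, 98, 99, 102, 103, 114, 115, 118, 119]⟩,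
  ⟨(1, 92, 66, 63), (1, 43, 71, 12), (1, 117, 110, 19), (1, 14, 8, 105), (1, 7, 59, 37), [0, 1, 68, 69], [0, 1, 4, 5, 16, 17, 20, 21, 34, 35, 38, 39, 50, 51, 54, 55, 64, 65, 68, 69, 80, 81, 84, 85, 98, 99, 102, 103, 114, 115, 118, 119]⟩,
  ⟨(1, 92, 66, 111), (1, 123, 67, 12), (1, 53, 106, 23), (1, 10, 24, 57), (1, 7, 63, 37), [0, 1, 68, 69], [0, 1, 4, 5, 16, 17, 20, 21, 34, 35, 38, 39, 50, 51, 54, 55, 64, 65, 68, 69, 80, 81, 84, 85, 98, 99, 102, 103, 114, 115, 118, 119]⟩]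

theorem goodP73_0 : ∀ c ∈ certsP73_0, GoodP dimP3 BP73 wP73 c := by
  decide +kernel

/-- Certificates. -/
def certsP73_1 : List Cert := [
  ⟨(21, 8, 2, 63), (81, 63, 67, 8), (69, 97, 126, 67), (17, 14, 8, 41), (1, 3, 107, 101), [0, 5, 65, 68], [0, 1, 4, 5, 16, 17, 20, 21, 34, 35, 38, 39, 50, 51, 54, 55, 64, 65, 68, 69, 80, 81, 84, 85, 98, 99, 102, 103, 114, 115, 118, 119]⟩,
  ⟨(21, 8, 2, 111), (81, 111, 71, 8), (69, 33, 122, 71), (17, 10, 24, 121), (1, 3, 111, 101), [0, 5, 65, 68], [0, 1, 4, 5, 16, 17, 20, 21, 34, 35, 38, 39, 50, 51, 54, 55, 64, 65, 68, 69, 80, 81, 84, 85, 98, 99, 102, 103, 114, 115, 118, 119]⟩,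
  ⟨(21, 12, 18, 47), (81, 63, 83, 88), (69, 33, 122, 71), (17, 90, 8, 109), (1, 3, 111, 101), [0, 5, 65, 68], [0, 1, 4, 5, 16, 17, 20, 21, 34, 35, 38, 39, 50, 51, 54, 55, 64, 65, 68, 69, 80, 81, 84, 85, 98, 99, 102, 103, 114, 115, 118, 119]⟩,
  ⟨(21, 12, 18, 127), (81, 111, 87, 88), (69, 97, 126, 67), (17, 94, 24, 61), (1, 3, 107, 101), [0, 5, 65, 68], [0, 1, 4, 5, 16, 17, 20, 21, 34, 35, 38, 39, 50, 51, 54, 55, 64, 65, 68, 69, 80, 81, 84, 85, 98, 99, 102, 103, 114, 115, 118, 119]⟩,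
  ⟨(21, 24, 6, 59), (81, 111, 71, 8), (69, 33, 122, 71), (17, 30, 8, 41), (1, 3, 111, 101), [0, 5, 65, 68], [0, 1, 4, 5, 16, 17, 20, 21, 34, 35, 38, 39, 50, 51, 54, 55, 64, 65, 68, 69, 80, 81, 84, 85, 98, 99, 102, 103, 114, 115, 118, 119]⟩,
  ⟨(21, 24, 6, 107), (81, 63, 67, 8), (69, 97, 126, 67), (17, 26, 24, 121), (1, 3, 107, 101), [0, 5, 65, 68], [0, 1, 4, 5, 16, 17, 20, 21, 34, 35, 38, 39, 50, 51, 54, 55, 64, 65, 68, 69, 80, 81, 84, 85, 98, 99, 102, 103, 114, 115, 118, 119]⟩,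
  ⟨(21, 28, 22, 43), (81, 111, 87, 88), (69, 97, 126, 67), (17, 74, 8, 109), (1, 3, 107, 101), [0, 5, 65, 68], [0, 1, 4, 5, 16, 17, 20, 21, 34, 35, 38, 39, 50, 51, 54, 55, 64, 65, 68, 69, 80, 81, 84, 85, 98, 99, 102, 103, 114, 115, 118, 119]⟩,
  ⟨(21, 28, 22, 123), (81, 63, 83, 88), (69, 33, 122, 71), (17, 78, 24, 61), (1, 3, 111, 101), [0, 5, 65, 68], [0, 1, 4, 5, 16, 17, 20, 21, 34, 35, 38, 39, 50, 51, 54, 55, 64, 65, 68, 69, 80, 81, 84, 85, 98, 99, 102, 103, 114, 115, 118, 119]⟩,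
  ⟨(21, 72, 86, 47), (81, 127, 87, 92), (69, 113, 110, 23), (17, 74, 8, 41), (1, 3, 63, 33), [0, 5, 65, 68], [0, 1, 4, 5, 16, 17, 20, 21, 34, 35, 38, 39, 50, 51, 54, 55, 64, 65, 68, 69, 80, 81, 84, 85, 98, 99, 102, 103, 114, 115, 118, 119]⟩,
  ⟨(21, 72, 86, 127), (81, 47, 83, 92), (69, 49, 106, 19), (17, 78, 24, 121), (1, 3, 59, 33), [0, 5, 65, 68], [0, 1, 4, 5, 16, 17, 20, 21, 34, 35, 38, 39, 50, 51, 54, 55, 64, 65, 68, 69, 80, 81, 84, 85, 98, 99, 102, 103, 114, 115, 118, 119]⟩,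
  ⟨(21, 76, 70, 63), (81, 127, 71, 12), (69, 49, 106, 19), (17, 30, 8, 109), (1, 3, 59, 33), [0, 5, 65, 68], [0, 1, 4, 5, 16, 17, 20, 21, 34, 35, 38, 39, 50, 51, 54, 55, 64, 65, 68, 69, 80, 81, 84, 85, 98, 99, 102, 103, 114, 115, 118, 119]⟩,
  ⟨(21, 76, 70, 111), (81, 47, 67, 12), (69, 113, 110, 23), (17, 26, 24, 61), (1, 3, 63, 33), [0, 5, 65, 68], [0, 1, 4, 5, 16, 17, 20, 21, 34, 35, 38, 39, 50, 51, 54, 55, 64, 65, 68, 69, 80, 81, 84, 85, 98, 99, 102, 103, 114, 115, 118, 119]⟩,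
  ⟨(21, 88, 82, 43), (81, 47, 83, 92), (69, 49, 106, 19), (17, 90, 8, 41), (1, 3, 59, 33), [0, 5, 65, 68], [0, 1, 4, 5, 16, 17, 20, 21, 34, 35, 38, 39, 50, 51, 54, 55, 64, 65, 68, 69, 80, 81, 84, 85, 98, 99, 102, 103, 114, 115, 118, 119]⟩,
  ⟨(21, 88, 82, 123), (81, 127, 87, 92), (69, 113, 110, 23), (17, 94, 24, 121), (1, 3, 63, 33), [0, 5, 65, 68], [0, 1, 4, 5, 16, 17, 20, 21, 34, 35, 38, 39, 50, 51, 54, 55, 64, 65, 68, 69, 80, 81, 84, 85, 98, 99, 102, 103, 114, 115, 118, 119]⟩,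
  ⟨(21, 92, 66, 59), (81, 47, 67, 12), (69, 113, 110, 23), (17, 14, 8, 109), (1, 3, 63, 33), [0, 5, 65, 68], [0, 1, 4, 5, 16, 17, 20, 21, 34, 35, 38, 39, 50, 51, 54, 55, 64, 65, 68, 69, 80, 81, 84, 85, 98, 99, 102, 103, 114, 115, 118, 119]⟩,
  ⟨(21, 92, 66, 107), (81, 127, 71, 12), (69, 49, 106, 19), (17, 10, 24, 61), (1, 3, 59, 33), [0, 5, 65, 68], [0, 1, 4, 5, 16, 17, 20, 21, 34, 35, 38, 39, 50, 51, 54, 55, 64, 65, 68, 69, 80, 81, 84, 85, 98, 99, 102, 103, 114, 115, 118, 119]⟩]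

theorem goodP73_1 : ∀ c ∈ certsP73_1, GoodP dimP3 BP73 wP73 c := by
  decide +kernel

/-- All certificates. -/
def certsP73 : List Cert := certsP73_0 ++ certsP73_1

theorem goodP73 : ∀ c ∈ certsP73, Good dimP3 BP73 wP73 c := by
  intro c hc
  simp only [certsP73, List.mem_append, or_assoc] at hc
  rcases hc with hc | hc
  · exact good_of_goodP (goodP73_0 c hc)
  · exact good_of_goodP (goodP73_1 c hc)

/-- Candidates. -/
def candP73_0 : List ℕ := [1, 5, 17, 21, 65, 69, 81, 85]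

/-- Candidates. -/
def candP73_1 : List ℕ := [8, 12, 24, 28, 72, 76, 88, 92]

/-- Candidates. -/
def candP73_2 : List ℕ := [2, 6, 18, 22, 66, 70, 82, 86]

/-- Candidates. -/
def candP73_3 : List ℕ := [43, 47, 59, 63, 107, 111, 123, 127]

theorem candP73_0_spec : ∀ a ∈ List.range dimP3.size, Cand dimP3 1 2 a → a ∈ candP73_0 := by
  decide +kernel

theorem candP73_1_spec : ∀ a ∈ List.range dimP3.size, Cand dimP3 4 4 a → a ∈ candP73_1 := by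
  decide +kernel

theorem candP73_2_spec : ∀ a ∈ List.range dimP3.size, Cand dimP3 2 4 a → a ∈ candP73_2 := by
  decide +kernel

theorem candP73_3_spec : ∀ a ∈ List.range dimP3.size, Cand dimP3 15 4 a → a ∈ candP73_3 := by
  decide +kernel

set_option maxRecDepth 100000 in
theorem coverP73 : ∀ a ∈ candP73_0, ∀ b ∈ candP73_1, ∀ c ∈ candP73_2, ∀ e ∈ candP73_3,
    Adm dimP3 false (a, b, c, e) BP73 → (a, b, c, e) ∈ certsP73.map Cert.A := by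
  decide +kernel

theorem threeP73 : ∀ a ∈ List.range dimP3.size,
    dimP3.ap BP73 (dimP3.ap BP73 (dimP3.ap BP73 a)) = a := by
  decide +kernel

end CfsgLib.L32Radical
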