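import Cfsg.Agent.L32Radical.Check

/-!
# Certificates: Q84
-/

set_option autoImplicit false

namespace CfsgLib.L32Radical

/-- The orders. -/
def dimQ4 : Dim := ⟨4, 4, 4, 4, by decide, by decide, by decide, by decide⟩

/-- The standard map of order three. -/
def BQ84 : Quad := (1, 4, 64, 240)

/-- The word of the conjugating element. -/
def wQ84 : List Bool := []

/-- All certificates. -/
def certsQ84 : List Cert := []

theorem goodQ84 : ∀ c ∈ certsQ84, Good dimQ4 BQ84 wQ84 c := by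
  intro c hc; simp [certsQ84] at hc

/-- Candidates. -/
def candQ84_0 : List ℕ := [65, 67, 73, 75, 97, 99, 105, 107, 193, 195, 201, 203, 225, 227, 233, 235]

/-- Candidates. -/
def candQ84_1 : List ℕ := [16, 18, 24, 26, 48, 50, 56, 58, 144, 146, 152, 154, 176, 178, 184, 186]

/-- Candidates. -/
def candQ84_2 : List ℕ := [4, 6, 12, 14, 36, 38, 44, 46, 132, 134, 140, 142, 164, 166, 172, 174]

/-- Candidates. -/
def candQ84_3 : List ℕ := [64, 66, 72, 74, 96, 98, 104, 106, 192, 194, 200, 202, 224, 226, 232, 234]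

theorem candQ84_0_spec : ∀ a ∈ List.range dimQ4.size, Cand dimQ4 9 4 a → a ∈ candQ84_0 := by
  decide +kernel

theorem candQ84_1_spec : ∀ a ∈ List.range dimQ4.size, Cand dimQ4 4 4 a → a ∈ candQ84_1 := by
  decide +kernel

theorem candQ84_2_spec : ∀ a ∈ List.range dimQ4.size, Cand dimQ4 2 4 a → a ∈ candQ84_2 := by
  decide +kernel

theorem candQ84_3_spec : ∀ a ∈ List.range dimQ4.size, Cand dimQ4 8 4 a → a ∈ candQ84_3 := by
  decide +kernel

set_option maxRecDepth 100000 in
theorem coverQ84 : ∀ a ∈ candQ84_0, ∀ b ∈ candQ84_1, ∀ c ∈ candQ84_2, ∀ e ∈ candQ84_3,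
    Adm dimQ4 false (a, b, c, e) BQ84 → (a, b, c, e) ∈ certsQ84.map Cert.A := by
  decide +kernel

theorem threeQ84 : ∀ a ∈ List.range dimQ4.size,
    dimQ4.ap BQ84 (dimQ4.ap BQ84 (dimQ4.ap BQ84 a)) = a := by
  decide +kernel

end CfsgLib.L32Radical
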