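import Cfsg.Agent.L32Radical.Check

/-!
# Certificates: Q85
-/

set_option autoImplicit false

namespace CfsgLib.L32Radical

/-- The orders. -/
def dimQ5 : Dim := ⟨4, 4, 4, 4, by decide, by decide, by decide, by decide⟩

/-- The standard map of order three. -/
def BQ85 : Quad := (1, 4, 64, 240)

/-- The word of the conjugating element. -/
def wQ85 : List Bool := []

/-- All certificates. -/
def certsQ85 : List Cert := []

theorem goodQ85 : ∀ c ∈ certsQ85, Good dimQ5 BQ85 wQ85 c := by
  intro c hc; simp [certsQ85] at hc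

/-- Candidates. -/
def candQ85_0 : List ℕ := [69, 71, 77, 79, 101, 103, 109, 111, 197, 199, 205, 207, 229, 231, 237, 239]

/-- Candidates. -/
def candQ85_1 : List ℕ := [16, 18, 24, 26, 48, 50, 56, 58, 144, 146, 152, 154, 176, 178, 184, 186]

/-- Candidates. -/
def candQ85_2 : List ℕ := [4, 6, 12, 14, 36, 38, 44, 46, 132, 134, 140, 142, 164, 166, 172, 174]

/-- Candidates. -/
def candQ85_3 : List ℕ := [84, 86, 92, 94, 116, 118, 124, 126, 212, 214, 220, 222, 244, 246, 252, 254]

theorem candQ85_0_spec : ∀ a ∈ List.range dimQ5.size, Cand dimQ5 11 4 a → a ∈ candQ85_0 := by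
  decide +kernel

theorem candQ85_1_spec : ∀ a ∈ List.range dimQ5.size, Cand dimQ5 4 4 a → a ∈ candQ85_1 := by
  decide +kernel

theorem candQ85_2_spec : ∀ a ∈ List.range dimQ5.size, Cand dimQ5 2 4 a → a ∈ candQ85_2 := by
  decide +kernel

theorem candQ85_3_spec : ∀ a ∈ List.range dimQ5.size, Cand dimQ5 14 4 a → a ∈ candQ85_3 := by
  decide +kernel

set_option maxRecDepth 100000 in
theorem coverQ85 : ∀ a ∈ candQ85_0, ∀ b ∈ candQ85_1, ∀ c ∈ candQ85_2, ∀ e ∈ candQ85_3,
    Adm dimQ5 false (a, b, c, e) BQ85 → (a, b, c, e) ∈ certsQ85.map Cert.A := by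
  decide +kernel

theorem threeQ85 : ∀ a ∈ List.range dimQ5.size,
    dimQ5.ap BQ85 (dimQ5.ap BQ85 (dimQ5.ap BQ85 a)) = a := by
  decide +kernel

end CfsgLib.L32Radical
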