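import Cfsg.Agent.L32Radical.Check

/-!
# Certificates: Z62
-/

set_option autoImplicit false

namespace CfsgLib.L32Radical

/-- The orders. -/
def dimZ2 : Dim := ⟨8, 2, 2, 2, by decide, by decide, by decide, by decide⟩

/-- The standard map of order three. -/
def BZ62 : Quad := (1, 8, 32, 48)

/-- The word of the conjugating element. -/
def wZ62 : List Bool := [true, true, false, true, true, false, true, false, true]

/-- Certificates. -/
def certsZ62_0 : List Cert := [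
  ⟨(1, 16, 8, 56), (1, 56, 8, 16), (1, 32, 56, 8), (1, 24, 16, 48), (1, 8, 56, 32), [0, 4, 40, 44], [0, 2, 4, 6, 8, 10, 12, 14, 16, 18, 20, 22, 24, 26, 28, 30, 32, 34, 36, 38, 40, 42, 44, 46, 48, 50, 52, 54, 56, 58, 60, 62]⟩,
  ⟨(1, 16, 8, 60), (1, 60, 12, 16), (1, 36, 56, 12), (1, 24, 16, 52), (1, 12, 60, 36), [0, 4, 40, 44], [0, 2, 4, 6, 8, 10, 12, 14, 16, 18, 20, 22, 24, 26, 28, 30, 32, 34, 36, 38, 40, 42, 44, 46, 48, 50, 52, 54, 56, 58, 60, 62]⟩,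
  ⟨(1, 20, 12, 56), (1, 60, 8, 16), (1, 32, 60, 8), (1, 24, 16, 52), (1, 12, 56, 36), [0, 4, 40, 44], [0, 2, 4, 6, 8, 10, 12, 14, 16, 18, 20, 22, 24, 26, 28, 30, 32, 34, 36, 38, 40, 42, 44, 46, 48, 50, 52, 54, 56, 58, 60, 62]⟩,
  ⟨(1, 20, 12, 60), (1, 56, 12, 16), (1, 36, 60, 12), (1, 24, 16, 48), (1, 8, 60, 32), [0, 4, 40, 44], [0, 2, 4, 6, 8, 10, 12, 14, 16, 18, 20, 22, 24, 26, 28, 30, 32, 34, 36, 38, 40, 42, 44, 46, 48, 50, 52, 54, 56, 58, 60, 62]⟩]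

theorem goodZ62_0 : ∀ c ∈ certsZ62_0, GoodP dimZ2 BZ62 wZ62 c := by
  decide +kernel

/-- All certificates. -/
def certsZ62 : List Cert := certsZ62_0

theorem goodZ62 : ∀ c ∈ certsZ62, Good dimZ2 BZ62 wZ62 c := by
  intro c hc
  exact good_of_goodP (goodZ62_0 c hc)

/-- Candidates. -/
def candZ62_0 : List ℕ := [1, 3, 5, 7]

/-- Candidates. -/
def candZ62_1 : List ℕ := [16, 20]

/-- Candidates. -/
def candZ62_2 : List ℕ := [8, 12]

/-- Candidates. -/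
def candZ62_3 : List ℕ := [56, 60]

theorem candZ62_0_spec : ∀ a ∈ List.range dimZ2.size, Cand dimZ2 1 8 a → a ∈ candZ62_0 := by
  decide +kernel

theorem candZ62_1_spec : ∀ a ∈ List.range dimZ2.size, Cand dimZ2 4 2 a → a ∈ candZ62_1 := by
  decide +kernel

theorem candZ62_2_spec : ∀ a ∈ List.range dimZ2.size, Cand dimZ2 2 2 a → a ∈ candZ62_2 := by
  decide +kernel

theorem candZ62_3_spec : ∀ a ∈ List.range dimZ2.size, Cand dimZ2 14 2 a → a ∈ candZ62_3 := by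
  decide +kernel

set_option maxRecDepth 100000 in
theorem coverZ62 : ∀ a ∈ candZ62_0, ∀ b ∈ candZ62_1, ∀ c ∈ candZ62_2, ∀ e ∈ candZ62_3,
    Adm dimZ2 true (a, b, c, e) BZ62 → (a, b, c, e) ∈ certsZ62.map Cert.A := by
  decide +kernel

theorem threeZ62 : ∀ a ∈ List.range dimZ2.size,
    dimZ2.ap BZ62 (dimZ2.ap BZ62 (dimZ2.ap BZ62 a)) = a := by
  decide +kernel

end CfsgLib.L32Radical
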