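import Cfsg.Agent.L32Radical.Check

/-!
# Certificates: Z64
-/

set_option autoImplicit false

namespace CfsgLib.L32Radical

/-- The orders. -/
def dimZ4 : Dim := ⟨8, 2, 2, 2, by decide, by decide, by decide, by decide⟩

/-- The standard map of order three. -/
def BZ64 : Quad := (1, 8, 32, 48)

/-- The word of the conjugating element. -/
def wZ64 : List Bool := [true, true, false, true, false, true, true, false, true]

/-- Certificates. -/
def certsZ64_0 : List Cert := [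
  ⟨(33, 16, 8, 32), (9, 32, 56, 16), (41, 16, 8, 56), (57, 40, 48, 32), (17, 8, 16, 56), [0, 4, 24, 28], [0, 2, 4, 6, 8, 10, 12, 14, 16, 18, 20, 22, 24, 26, 28, 30, 32, 34, 36, 38, 40, 42, 44, 46, 48, 50, 52, 54, 56, 58, 60, 62]⟩,
  ⟨(33, 20, 12, 32), (13, 36, 60, 16), (45, 20, 12, 60), (61, 40, 48, 32), (17, 8, 16, 60), [0, 4, 24, 28], [0, 2, 4, 6, 8, 10, 12, 14, 16, 18, 20, 22, 24, 26, 28, 30, 32, 34, 36, 38, 40, 42, 44, 46, 48, 50, 52, 54, 56, 58, 60, 62]⟩]

theorem goodZ64_0 : ∀ c ∈ certsZ64_0, GoodP dimZ4 BZ64 wZ64 c := by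
  decide +kernel

/-- All certificates. -/
def certsZ64 : List Cert := certsZ64_0

theorem goodZ64 : ∀ c ∈ certsZ64, Good dimZ4 BZ64 wZ64 c := by
  intro c hc
  exact good_of_goodP (goodZ64_0 c hc)

/-- Candidates. -/
def candZ64_0 : List ℕ := [33, 35, 37, 39]

/-- Candidates. -/
def candZ64_1 : List ℕ := [16, 20]

/-- Candidates. -/
def candZ64_2 : List ℕ := [8, 12]

/-- Candidates. -/
def candZ64_3 : List ℕ := [32, 36]

theorem candZ64_0_spec : ∀ a ∈ List.range dimZ4.size, Cand dimZ4 9 8 a → a ∈ candZ64_0 := by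
  decide +kernel

theorem candZ64_1_spec : ∀ a ∈ List.range dimZ4.size, Cand dimZ4 4 2 a → a ∈ candZ64_1 := by
  decide +kernel

theorem candZ64_2_spec : ∀ a ∈ List.range dimZ4.size, Cand dimZ4 2 2 a → a ∈ candZ64_2 := by
  decide +kernel

theorem candZ64_3_spec : ∀ a ∈ List.range dimZ4.size, Cand dimZ4 8 2 a → a ∈ candZ64_3 := by
  decide +kernel

set_option maxRecDepth 100000 in
theorem coverZ64 : ∀ a ∈ candZ64_0, ∀ b ∈ candZ64_1, ∀ c ∈ candZ64_2, ∀ e ∈ candZ64_3,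
    Adm dimZ4 true (a, b, c, e) BZ64 → (a, b, c, e) ∈ certsZ64.map Cert.A := by
  decide +kernel

theorem threeZ64 : ∀ a ∈ List.range dimZ4.size,
    dimZ4.ap BZ64 (dimZ4.ap BZ64 (dimZ4.ap BZ64 a)) = a := by
  decide +kernel

end CfsgLib.L32Radical
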