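import Cfsg.Agent.L32Radical.Check

/-!
# Certificates: Z65
-/

set_option autoImplicit false

namespace CfsgLib.L32Radical

/-- The orders. -/
def dimZ5 : Dim := ⟨8, 2, 2, 2, by decide, by decide, by decide, by decide⟩

/-- The standard map of order three. -/
def BZ65 : Quad := (1, 8, 32, 48)

/-- The word of the conjugating element. -/
def wZ65 : List Bool := [true, true, false, true, true, false, true, false, true]

/-- Certificates. -/
def certsZ65_0 : List Cert := [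
  ⟨(41, 16, 8, 56), (9, 56, 8, 16), (49, 32, 56, 8), (41, 24, 16, 48), (33, 8, 56, 32), [0, 4, 40, 44], [0, 2, 4, 6, 8, 10, 12, 14, 16, 18, 20, 22, 24, 26, 28, 30, 32, 34, 36, 38, 40, 42, 44, 46, 48, 50, 52, 54, 56, 58, 60, 62]⟩,
  ⟨(45, 20, 12, 60), (13, 56, 12, 16), (49, 36, 60, 12), (45, 24, 16, 48), (33, 8, 60, 32), [0, 4, 40, 44], [0, 2, 4, 6, 8, 10, 12, 14, 16, 18, 20, 22, 24, 26, 28, 30, 32, 34, 36, 38, 40, 42, 44, 46, 48, 50, 52, 54, 56, 58, 60, 62]⟩]

theorem goodZ65_0 : ∀ c ∈ certsZ65_0, GoodP dimZ5 BZ65 wZ65 c := by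
  decide +kernel

/-- All certificates. -/
def certsZ65 : List Cert := certsZ65_0

theorem goodZ65 : ∀ c ∈ certsZ65, Good dimZ5 BZ65 wZ65 c := by
  intro c hc
  exact good_of_goodP (goodZ65_0 c hc)

/-- Candidates. -/
def candZ65_0 : List ℕ := [41, 43, 45, 47]

/-- Candidates. -/
def candZ65_1 : List ℕ := [16, 20]

/-- Candidates. -/
def candZ65_2 : List ℕ := [8, 12]

/-- Candidates. -/
def candZ65_3 : List ℕ := [56, 60]

theorem candZ65_0_spec : ∀ a ∈ List.range dimZ5.size, Cand dimZ5 11 8 a → a ∈ candZ65_0 := by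
  decide +kernel

theorem candZ65_1_spec : ∀ a ∈ List.range dimZ5.size, Cand dimZ5 4 2 a → a ∈ candZ65_1 := by
  decide +kernel

theorem candZ65_2_spec : ∀ a ∈ List.range dimZ5.size, Cand dimZ5 2 2 a → a ∈ candZ65_2 := by
  decide +kernel

theorem candZ65_3_spec : ∀ a ∈ List.range dimZ5.size, Cand dimZ5 14 2 a → a ∈ candZ65_3 := by
  decide +kernel

set_option maxRecDepth 100000 in
theorem coverZ65 : ∀ a ∈ candZ65_0, ∀ b ∈ candZ65_1, ∀ c ∈ candZ65_2, ∀ e ∈ candZ65_3,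
    Adm dimZ5 true (a, b, c, e) BZ65 → (a, b, c, e) ∈ certsZ65.map Cert.A := by
  decide +kernel

theorem threeZ65 : ∀ a ∈ List.range dimZ5.size,
    dimZ5.ap BZ65 (dimZ5.ap BZ65 (dimZ5.ap BZ65 a)) = a := by
  decide +kernel

end CfsgLib.L32Radical
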