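import Cfsg.Agent.L32Radical.TableM30
import Cfsg.Agent.L32Radical.TableM32
import Cfsg.Agent.L32Radical.TableP70
import Cfsg.Agent.L32Radical.TableP71
import Cfsg.Agent.L32Radical.TableP72
import Cfsg.Agent.L32Radical.TableP73
import Cfsg.Agent.L32Radical.TableQ84
import Cfsg.Agent.L32Radical.TableQ85
import Cfsg.Agent.L32Radical.TableZ60
import Cfsg.Agent.L32Radical.TableZ62
import Cfsg.Agent.L32Radical.TableZ64
import Cfsg.Agent.L32Radical.TableZ65

/-!
# The certified configurations
-/

set_option autoImplicit false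

namespace CfsgLib.L32Radical

/-- A family of certified configurations with given mod 2 action. -/
structure Table where
  /-- the orders -/
  d : Dim
  /-- whether the seventh power relation is used -/
  seven : Bool
  /-- the action of the element of order 3 -/
  B : Quad
  /-- the conjugating word -/
  w : List Bool
  /-- the targets of the images of the generators -/
  t : Quad
  /-- the certificates -/
  certs : List Cert
  good : ∀ c ∈ certs, Good d B w c
  three : ∀ a ∈ List.range d.size, d.ap B (d.ap B (d.ap B a)) = a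
  /-- candidates for the images -/
  L0 : List ℕ
  /-- candidates for the images -/
  L1 : List ℕ
  /-- candidates for the images -/
  L2 : List ℕ
  /-- candidates for the images -/
  L3 : List ℕ
  spec0 : ∀ a ∈ List.range d.size, Cand d t.1 d.m0 a → a ∈ L0
  spec1 : ∀ a ∈ List.range d.size, Cand d t.2.1 d.m1 a → a ∈ L1
  spec2 : ∀ a ∈ List.range d.size, Cand d t.2.2.1 d.m2 a → a ∈ L2
  spec3 : ∀ a ∈ List.range d.size, Cand d t.2.2.2 d.m3 a → a ∈ L3
  cover : ∀ a ∈ L0, ∀ b ∈ L1, ∀ c ∈ L2, ∀ e ∈ L3,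
    Adm d seven (a, b, c, e) B → (a, b, c, e) ∈ certs.map Cert.A

/-- Configuration M30. -/
def tabM30 : Table :=
  ⟨dimM0, false, BM30, wM30, (0, 4, 2, 8), certsM30,
    goodM30, threeM30, candM30_0, candM30_1, candM30_2, candM30_3,
    candM30_0_spec, candM30_1_spec, candM30_2_spec, candM30_3_spec, coverM30⟩

/-- Configuration M32. -/
def tabM32 : Table :=
  ⟨dimM2, false, BM32, wM32, (0, 4, 2, 14), certsM32,
    goodM32, threeM32, candM32_0, candM32_1, candM32_2, candM32_3,
    candM32_0_spec, candM32_1_spec, candM32_2_spec, candM32_3_spec, coverM32⟩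

/-- Configuration P70. -/
def tabP70 : Table :=
  ⟨dimP0, false, BP70, wP70, (1, 4, 2, 8), certsP70,
    goodP70, threeP70, candP70_0, candP70_1, candP70_2, candP70_3,
    candP70_0_spec, candP70_1_spec, candP70_2_spec, candP70_3_spec, coverP70⟩

/-- Configuration P71. -/
def tabP71 : Table :=
  ⟨dimP1, false, BP71, wP71, (1, 4, 2, 9), certsP71,
    goodP71, threeP71, candP71_0, candP71_1, candP71_2, candP71_3,
    candP71_0_spec, candP71_1_spec, candP71_2_spec, candP71_3_spec, coverP71⟩

/-- Configuration P72. -/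
def tabP72 : Table :=
  ⟨dimP2, false, BP72, wP72, (1, 4, 2, 14), certsP72,
    goodP72, threeP72, candP72_0, candP72_1, candP72_2, candP72_3,
    candP72_0_spec, candP72_1_spec, candP72_2_spec, candP72_3_spec, coverP72⟩

/-- Configuration P73. -/
def tabP73 : Table :=
  ⟨dimP3, false, BP73, wP73, (1, 4, 2, 15), certsP73,
    goodP73, threeP73, candP73_0, candP73_1, candP73_2, candP73_3,
    candP73_0_spec, candP73_1_spec, candP73_2_spec, candP73_3_spec, coverP73⟩

/-- Configuration Q84. -/
def tabQ84 : Table :=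
  ⟨dimQ4, false, BQ84, wQ84, (9, 4, 2, 8), certsQ84,
    goodQ84, threeQ84, candQ84_0, candQ84_1, candQ84_2, candQ84_3,
    candQ84_0_spec, candQ84_1_spec, candQ84_2_spec, candQ84_3_spec, coverQ84⟩

/-- Configuration Q85. -/
def tabQ85 : Table :=
  ⟨dimQ5, false, BQ85, wQ85, (11, 4, 2, 14), certsQ85,
    goodQ85, threeQ85, candQ85_0, candQ85_1, candQ85_2, candQ85_3,
    candQ85_0_spec, candQ85_1_spec, candQ85_2_spec, candQ85_3_spec, coverQ85⟩

/-- Configuration Z60. -/
def tabZ60 : Table :=
  ⟨dimZ0, true, BZ60, wZ60, (1, 4, 2, 8), certsZ60,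
    goodZ60, threeZ60, candZ60_0, candZ60_1, candZ60_2, candZ60_3,
    candZ60_0_spec, candZ60_1_spec, candZ60_2_spec, candZ60_3_spec, coverZ60⟩

/-- Configuration Z62. -/
def tabZ62 : Table :=
  ⟨dimZ2, true, BZ62, wZ62, (1, 4, 2, 14), certsZ62,
    goodZ62, threeZ62, candZ62_0, candZ62_1, candZ62_2, candZ62_3,
    candZ62_0_spec, candZ62_1_spec, candZ62_2_spec, candZ62_3_spec, coverZ62⟩

/-- Configuration Z64. -/
def tabZ64 : Table :=
  ⟨dimZ4, true, BZ64, wZ64, (9, 4, 2, 8), certsZ64,
    goodZ64, threeZ64, candZ64_0, candZ64_1, candZ64_2, candZ64_3,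
    candZ64_0_spec, candZ64_1_spec, candZ64_2_spec, candZ64_3_spec, coverZ64⟩

/-- Configuration Z65. -/
def tabZ65 : Table :=
  ⟨dimZ5, true, BZ65, wZ65, (11, 4, 2, 14), certsZ65,
    goodZ65, threeZ65, candZ65_0, candZ65_1, candZ65_2, candZ65_3,
    candZ65_0_spec, candZ65_1_spec, candZ65_2_spec, candZ65_3_spec, coverZ65⟩

end CfsgLib.L32Radical
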