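import Cfsg.Agent.L32Radical.Check
import Cfsg.Agent.L32Radical.Tables

/-!
# Contradictions from the certified configurations
-/

set_option autoImplicit false
set_option linter.style.haveILetI false

namespace CfsgLib.L32Radical

open Cfsg
open scoped commutatorElement

variable {G : Type*} [Group G]

/-- The values at the generators. -/
theorem val_gens {d : Dim} (F : Frame G d) :
    F.val d.gens.1 = F.u0 ∧ F.val d.gens.2.1 = F.u1 ∧ F.val d.gens.2.2.1 = F.u2 ∧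
      F.val d.gens.2.2.2 = F.u3 := by
  refine ⟨?_, ?_, ?_, ?_⟩ <;> simp [Dim.gens, F.val_enc, Frame.prod]

/-- A fixed element in the coset of a fixed class. -/
theorem orbit_prod_fixed {b : G} {m : G} (hc : Commute (b * m * b⁻¹) m)
    (hc' : Commute (b * (b * m * b⁻¹) * b⁻¹) m)
    (h3 : b * (b * (b * m * b⁻¹) * b⁻¹) * b⁻¹ = m) :
    b * (m * (b * m * b⁻¹) * (b * (b * m * b⁻¹) * b⁻¹)) * b⁻¹ =
      m * (b * m * b⁻¹) * (b * (b * m * b⁻¹) * b⁻¹) := by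
  rw [show b * (m * (b * m * b⁻¹) * (b * (b * m * b⁻¹) * b⁻¹)) * b⁻¹ =
    (b * m * b⁻¹) * (b * (b * m * b⁻¹) * b⁻¹) * (b * (b * (b * m * b⁻¹) * b⁻¹) * b⁻¹) by group, h3,
    mul_assoc, hc'.eq, ← mul_assoc, hc.eq]

variable [Finite G]

/-- A group with a configuration from a table has sectional 2-rank at least five. -/
theorem false_of_table (hr : SectionalPRankLE 2 4 G) (T : Table) (F : Frame G T.d)
    (hinj : ∀ a < T.d.size, ∀ b < T.d.size, F.val a = F.val b → a = b)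
    {M : Subgroup G} (hval : ∀ a, F.val a ∈ M) (hsurj : ∀ m ∈ M, ∃ a < T.d.size, F.val a = m)
    {x y : G} (hxM : ∀ m ∈ M, x * m * x⁻¹ ∈ M)
    (hy : y * F.u0 * y⁻¹ = F.val T.B.1 ∧ y * F.u1 * y⁻¹ = F.val T.B.2.1 ∧
      y * F.u2 * y⁻¹ = F.val T.B.2.2.1 ∧ y * F.u3 * y⁻¹ = F.val T.B.2.2.2)
    (hcode : ∀ a < T.d.size,
      (F.val a = x * F.u0 * x⁻¹ → T.d.code a = T.t.1) ∧
      (F.val a = x * F.u1 * x⁻¹ → T.d.code a = T.t.2.1) ∧
      (F.val a = x * F.u2 * x⁻¹ → T.d.code a = T.t.2.2.1) ∧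
      (F.val a = x * F.u3 * x⁻¹ → T.d.code a = T.t.2.2.2))
    (hxx : x * x ∈ M) (hu4 : (x * y * x⁻¹ * y⁻¹) ^ 4 ∈ M)
    (h7 : T.seven = true → (x * y) ^ 7 ∈ M)
    {P0 : Subgroup G} (hMP : ∀ m ∈ M, ∀ n ∈ M,
      ⁅m * (x * y * x⁻¹ * y⁻¹) ^ 2,
        n * (wordVal x y T.w * (x * y * x⁻¹ * y⁻¹) ^ 2 * (wordVal x y T.w)⁻¹)⁆ ∈ P0)
    (hP0 : ∀ c ∈ T.certs, ∀ z ∈ P0, (∀ a ∈ c.S, z * F.val a * z⁻¹ = F.val a) → z ∈ M) :
    False := by
  classical
  have r : ∀ {a : ℕ}, a < T.d.size → a ∈ List.range T.d.size := fun h => List.mem_range.2 h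
  have hyv : ∀ a, y * F.val a * y⁻¹ = F.val (T.d.ap T.B a) :=
    fun a => F.conj_val hy.1 hy.2.1 hy.2.2.1 hy.2.2.2 a
  obtain ⟨v0, v1, v2, v3⟩ := val_gens F
  obtain ⟨a0, ha0, e0⟩ := hsurj _ (hxM _ (v0 ▸ hval T.d.gens.1))
  obtain ⟨a1, ha1, e1⟩ := hsurj _ (hxM _ (v1 ▸ hval T.d.gens.2.1))
  obtain ⟨a2, ha2, e2⟩ := hsurj _ (hxM _ (v2 ▸ hval T.d.gens.2.2.1))
  obtain ⟨a3, ha3, e3⟩ := hsurj _ (hxM _ (v3 ▸ hval T.d.gens.2.2.2))
  set A : Quad := (a0, a1, a2, a3) with hAdef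
  have hxv : ∀ a, x * F.val a * x⁻¹ = F.val (T.d.ap A a) :=
    fun a => F.conj_val e0.symm e1.symm e2.symm e3.symm a
  have hord : ∀ {a m : ℕ}, F.val a ^ m = 1 →
      T.d.enc (m * (T.d.dig a).1, m * (T.d.dig a).2.1, m * (T.d.dig a).2.2.1, m * (T.d.dig a).2.2.2) = 0 := by
    intro a m h
    refine hinj _ (T.d.enc_lt _) 0 T.d.size_pos ?_
    rw [F.val_enc, F.prod_smul, F.val_zero]
    exact h
  have hcomm : ∀ z ∈ M, ∀ a, z * F.val a * z⁻¹ = F.val a := by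
    intro z hz a
    obtain ⟨b, -, rfl⟩ := hsurj z hz
    rw [F.val_comm, mul_inv_cancel_right]
  have hfix : ∀ {z : G} (f : ℕ → ℕ), z ∈ M → (∀ a, f a < T.d.size) →
      (∀ a, z * F.val a * z⁻¹ = F.val (f a)) → fixesGens T.d f := by
    intro z f hz hf h
    have key : ∀ a, a < T.d.size → f a = a := fun a ha =>
      hinj _ (hf a) a ha (by rw [← h, hcomm z hz])
    exact ⟨key _ (T.d.enc_lt _), key _ (T.d.enc_lt _), key _ (T.d.enc_lt _), key _ (T.d.enc_lt _)⟩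
  have hA : ∀ a < T.d.size, T.d.ap A (T.d.ap A a) = a := fun a ha => hinj _ (T.d.ap_lt _ _) a ha (by
    rw [← hxv, ← hxv]
    refine Eq.trans ?_ (hcomm _ hxx a)
    group)
  have hu : ∀ a < T.d.size,
      x * y * x⁻¹ * y⁻¹ * F.val a * (x * y * x⁻¹ * y⁻¹)⁻¹ = F.val (commMap T.d A T.B a) := by
    intro a ha
    have hyi : ∀ b < T.d.size, y⁻¹ * F.val b * y = F.val (T.d.ap T.B (T.d.ap T.B b)) := fun b hb => by
      have h := hyv (T.d.ap T.B (T.d.ap T.B b))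
      rw [T.three b (r hb)] at h
      rw [← h]; group
    have hxi : ∀ b < T.d.size, x⁻¹ * F.val b * x = F.val (T.d.ap A b) := fun b hb => by
      have h := hxv (T.d.ap A b)
      rw [hA b hb] at h
      rw [← h]; group
    rw [show x * y * x⁻¹ * y⁻¹ * F.val a * (x * y * x⁻¹ * y⁻¹)⁻¹ =
      x * (y * (x⁻¹ * (y⁻¹ * F.val a * y) * x) * y⁻¹) * x⁻¹ by group, hyi a ha,
      hxi _ (T.d.ap_lt _ _), hyv, hxv]
    rfl
  have hadm : Adm T.d T.seven A T.B := by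
    refine ⟨⟨hA _ (T.d.enc_lt _), hA _ (T.d.enc_lt _), hA _ (T.d.enc_lt _), hA _ (T.d.enc_lt _)⟩, ?_, ?_⟩
    · have hc : ∀ a, commMap T.d A T.B a < T.d.size := fun a => T.d.ap_lt _ _
      have key : ∀ a < T.d.size,
          commMap T.d A T.B (commMap T.d A T.B (commMap T.d A T.B (commMap T.d A T.B a))) = a := by
        intro a ha
        refine hinj _ (hc _) a ha ?_
        rw [← hu _ (hc _), ← hu _ (hc _), ← hu _ (hc _), ← hu a ha]
        refine Eq.trans ?_ (hcomm _ hu4 a)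
        simp only [pow_succ, pow_zero, one_mul]
        group
      exact ⟨key _ (T.d.enc_lt _), key _ (T.d.enc_lt _), key _ (T.d.enc_lt _), key _ (T.d.enc_lt _)⟩
    · intro h
      have hit : ∀ n a, (x * y) ^ n * F.val a * ((x * y) ^ n)⁻¹ =
          F.val ((fun b => T.d.ap A (T.d.ap T.B b))^[n] a) := by
        intro n
        induction n with
        | zero => intro a; simp
        | succ n ih =>
          intro a
          rw [Function.iterate_succ_apply', ← hxv, ← hyv, ← ih, pow_succ' (x * y)]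
          generalize (x * y) ^ n = p
          group
      refine hfix _ (h7 h) (fun a => ?_) (hit 7)
      rw [Function.iterate_succ_apply']
      exact T.d.ap_lt _ _
  have hpow : ∀ {z g : G} {m : ℕ}, g ^ m = 1 → (z * g * z⁻¹) ^ m = 1 := fun {z g m} h => by
    rw [conj_pow, h, mul_one, mul_inv_cancel]
  obtain ⟨c, hc, hcA⟩ : ∃ c ∈ T.certs, c.A = A := List.mem_map.1
    (T.cover a0 (T.spec0 a0 (r ha0) ⟨(hcode a0 ha0).1 e0, hord (by rw [e0]; exact hpow F.o0)⟩)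
      a1 (T.spec1 a1 (r ha1) ⟨(hcode a1 ha1).2.1 e1, hord (by rw [e1]; exact hpow F.o1)⟩)
      a2 (T.spec2 a2 (r ha2) ⟨(hcode a2 ha2).2.2.1 e2, hord (by rw [e2]; exact hpow F.o2)⟩)
      a3 (T.spec3 a3 (r ha3) ⟨(hcode a3 ha3).2.2.2 e3, hord (by rw [e3]; exact hpow F.o3)⟩) hadm)
  obtain ⟨t, ht, hxt⟩ := hsurj _ hxx
  obtain ⟨e, he, hue⟩ := hsurj _ hu4
  have hgood := T.good c hc
  refine false_of_good hr F hinj hgood (x := x) (y := y) (by rw [hcA]; exact hxv) hyv T.three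
    (fun a ha => by rw [hcA]; exact hA a (List.mem_range.1 ha)) ⟨t, ht, hxt.symm⟩ ⟨e, he, hue.symm⟩
    fun m n => ?_
  set u := x * y * x⁻¹ * y⁻¹ with hudef
  set g := wordVal x y T.w with hgdef
  set γ := ⁅F.val m * u ^ 2, F.val n * (g * u ^ 2 * g⁻¹)⁆ with hγ
  suffices hγM : γ ∈ M by
    obtain ⟨a, ha, hae⟩ := hsurj _ hγM
    exact ⟨a, ha, hae.symm⟩
  refine hP0 c hc γ (hMP _ (hval m) _ (hval n)) fun a ha => ?_
  -- both generators act on `S` by translations inside the fixed subgroup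
  have haS := hgood.hS.2.2.1 a ha
  have cu : ∀ b < T.d.size, u * F.val b * u⁻¹ = F.val (T.d.ap c.U b) := fun b hb => by
    rw [hgood.hU b (r hb), hcA, hudef, hu b hb]; rfl
  have ca : ∀ b < T.d.size,
      F.val m * u ^ 2 * F.val b * (F.val m * u ^ 2)⁻¹ = F.val (T.d.ap c.Ka b) := fun b hb => by
    rw [hgood.hKa b (r hb), show F.val m * u ^ 2 * F.val b * (F.val m * u ^ 2)⁻¹ =
      F.val m * (u * (u * F.val b * u⁻¹) * u⁻¹) * (F.val m)⁻¹ by rw [pow_two]; group, cu b hb,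
      cu _ (T.d.ap_lt _ _), F.val_comm m, mul_inv_cancel_right]
  have cg : ∀ b < T.d.size, g * F.val b * g⁻¹ = F.val (T.d.ap c.Gc b) := fun b hb => by
    rw [hgood.hG b (r hb), hcA, hgdef, conj_word F hxv hyv]
  have cgs : ∀ b < T.d.size, ∃ b' < T.d.size, T.d.ap c.Gc b' = b := by
    intro b hb
    obtain ⟨b', hb', h⟩ := Finset.surj_on_of_inj_on_of_card_le (fun a _ => T.d.ap c.Gc a)
      (fun a (_ : a ∈ Finset.range T.d.size) => Finset.mem_range.2 (T.d.ap_lt _ _))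
      (fun a a' ha ha' h => hinj a (Finset.mem_range.1 ha) a' (Finset.mem_range.1 ha') (by
        have h1 := cg a (Finset.mem_range.1 ha)
        rw [show T.d.ap c.Gc a = T.d.ap c.Gc a' from h, ← cg a' (Finset.mem_range.1 ha')] at h1
        exact mul_left_cancel (mul_right_cancel h1))) le_rfl b (Finset.mem_range.2 hb)
    exact ⟨b', Finset.mem_range.1 hb', h.symm⟩
  have cb : ∀ b < T.d.size, F.val n * (g * u ^ 2 * g⁻¹) * F.val b *
      (F.val n * (g * u ^ 2 * g⁻¹))⁻¹ = F.val (T.d.ap c.Kb b) := by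
    intro b hb
    obtain ⟨b', hb', rfl⟩ := cgs b hb
    rw [hgood.hKb b' (r hb'), ← cg b' hb', show F.val n * (g * u ^ 2 * g⁻¹) * (g * F.val b' * g⁻¹) *
      (F.val n * (g * u ^ 2 * g⁻¹))⁻¹ =
      F.val n * (g * (u * (u * F.val b' * u⁻¹) * u⁻¹) * g⁻¹) * (F.val n)⁻¹ by rw [pow_two]; group,
      cu b' hb', cu _ (T.d.ap_lt _ _), cg _ (T.d.ap_lt _ _), ← hgood.hKa b' (r hb'), F.val_comm n,
      mul_inv_cancel_right]
  rw [hγ, commutatorElement_def]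
  set a' := F.val m * u ^ 2 with ha'
  set b' := F.val n * (g * u ^ 2 * g⁻¹) with hb'
  obtain ⟨hsa, hsb⟩ := hgood.shift a ha
  set ta := T.d.add (T.d.ap c.Ka a) (T.d.neg a) with hta
  set tb := T.d.add (T.d.ap c.Kb a) (T.d.neg a) with htb
  have eA : a' * F.val a * a'⁻¹ = F.val ta * F.val a := by
    rw [ca a haS, hta, F.val_add, F.val_neg, inv_mul_cancel_right]
  have eB : b' * F.val a * b'⁻¹ = F.val tb * F.val a := by
    rw [cb a haS, htb, F.val_add, F.val_neg, inv_mul_cancel_right]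
  have fA : a' * F.val tb * a'⁻¹ = F.val tb := by
    rw [ca tb (T.d.add_lt _ _), (hgood.fixT tb hsb).1]
  have fB : b' * F.val ta * b'⁻¹ = F.val ta := by
    rw [cb ta (T.d.add_lt _ _), (hgood.fixT ta hsa).2.1]
  have eA' : a'⁻¹ * F.val a * a' = (F.val ta)⁻¹ * F.val a := by
    have h1 : a' * ((F.val ta)⁻¹ * F.val a) * a'⁻¹ = F.val a := by
      rw [show a' * ((F.val ta)⁻¹ * F.val a) * a'⁻¹ =
        (a' * F.val ta * a'⁻¹)⁻¹ * (a' * F.val a * a'⁻¹) by group, eA, ca ta (T.d.add_lt _ _),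
        (hgood.fixT ta hsa).1, inv_mul_cancel_left]
    conv_lhs => rw [← h1]
    group
  have eB' : b'⁻¹ * F.val a * b' = (F.val tb)⁻¹ * F.val a := by
    have h1 : b' * ((F.val tb)⁻¹ * F.val a) * b'⁻¹ = F.val a := by
      rw [show b' * ((F.val tb)⁻¹ * F.val a) * b'⁻¹ =
        (b' * F.val tb * b'⁻¹)⁻¹ * (b' * F.val a * b'⁻¹) by group, eB, cb tb (T.d.add_lt _ _),
        (hgood.fixT tb hsb).2.1, inv_mul_cancel_left]
    conv_lhs => rw [← h1]
    group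
  have fA' : a'⁻¹ * F.val tb * a' = F.val tb := by
    conv_lhs => rw [← fA]
    group
  have hc2 : (F.val tb)⁻¹ * (F.val ta)⁻¹ = (F.val ta)⁻¹ * (F.val tb)⁻¹ := by
    rw [← mul_inv_rev, ← mul_inv_rev, F.val_comm]
  calc a' * b' * a'⁻¹ * b'⁻¹ * F.val a * (a' * b' * a'⁻¹ * b'⁻¹)⁻¹
      = a' * (b' * (a'⁻¹ * (b'⁻¹ * F.val a * b') * a') * b'⁻¹) * a'⁻¹ := by group
    _ = a' * (b' * ((a'⁻¹ * F.val tb * a')⁻¹ * (a'⁻¹ * F.val a * a')) * b'⁻¹) * a'⁻¹ := by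
      rw [eB']; group
    _ = a' * ((b' * F.val ta * b'⁻¹)⁻¹ * (b' * F.val tb * b'⁻¹)⁻¹ * (b' * F.val a * b'⁻¹)) * a'⁻¹ := by
      rw [fA', eA', ← mul_assoc ((F.val tb)⁻¹), hc2]; group
    _ = a' * ((F.val ta)⁻¹ * F.val a) * a'⁻¹ := by
      rw [fB, cb tb (T.d.add_lt _ _), (hgood.fixT tb hsb).2.1, eB]; group
    _ = F.val a := by
      rw [show a' * ((F.val ta)⁻¹ * F.val a) * a'⁻¹ =
        (a' * F.val ta * a'⁻¹)⁻¹ * (a' * F.val a * a'⁻¹) by group, eA, ca ta (T.d.add_lt _ _),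
        (hgood.fixT ta hsa).1, inv_mul_cancel_left]

end CfsgLib.L32Radical
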