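import Cfsg.Agent.L32Radical.Std

/-!
# Coordinates for an action of `L₃(2)` on an elementary abelian group of order at most 16
-/

set_option autoImplicit false

namespace CfsgLib.L32Radical

open Equiv Cfsg CfsgLib.GLFourTwo CfsgLib.GLFourTwo.A5Mod Matrix

/-- One step of the closure under the action and addition. -/
def step (k : Fin 6) (L : List (Fin 16)) : List (Fin 16) :=
  (List.finRange 16).filter fun a => decide
    (a ∈ L ∨ (∃ b ∈ L, act k false b = a ∨ act k true b = a) ∨ ∃ b ∈ L, ∃ c ∈ L, xr b c = a)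

theorem closure_facts : ∀ (k : Fin 6) (a : Fin 16), act k true a ≠ a →
    (∀ b : Fin 16, b.val % 2 = 0 → b ∈ step k (step k (step k (step k [a])))) ∧
      (k = 1 ∨ k = 3 → ∀ b : Fin 16, b ∈ step k (step k (step k (step k [a])))) := by
  decide +kernel

theorem even_xr : ∀ a b : Fin 16, a.val % 2 = 1 → ∃ c : Fin 16, c.val % 2 = 0 ∧
    (b.val % 2 = 1 → xr a c = b) := by
  decide +kernel

theorem act_no_fixed : ∀ (k : Fin 6) (a : Fin 16), k = 4 ∨ k = 5 → act k false a = a →
    act k true a = a → a = 0 := by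
  decide +kernel

/-- An action of `L₃(2)` on an elementary abelian group of order at most 16, in standard codes. -/
theorem coords168 {V : Type*} [Group V] [Finite V] (hc : ∀ a b : V, a * b = b * a)
    (he : ∀ a : V, a ^ 2 = 1) (h16 : Nat.card V ≤ 16) (α β : MulAut V) (hα : α * α = 1)
    (hβ : β ^ 3 = 1) (hβ1 : β ≠ 1) (hαβ : (α * β) ^ 7 = 1)
    (hcom : (α * β * α * β * β) ^ 4 = 1) :
    ∃ (k : Fin 6) (E : V → Fin 16), Function.Injective E ∧ (∀ a b, E (a * b) = xr (E a) (E b)) ∧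
      (∀ a, E (α a) = act k false (E a) ∧ E (β a) = act k true (E a)) ∧
      (Function.Surjective E ∨ (k = 0 ∨ k = 2) ∧ ∀ b : Fin 16, b.val % 2 = 0 ↔ ∃ a, E a = b) := by
  classical
  obtain ⟨e, l, hei, hl, heq, hle, h⟩ := exists_lin_coord hc he h16
  let θ : MulAut V →* alternatingGroup (Fin 8) := equivAlt.toMonoidHom.comp l
  have hθ : Function.Injective θ := equivAlt.injective.comp hl
  let π : MulAut V →* Perm (Fin 8) := (alternatingGroup (Fin 8)).subtype.comp θ
  have hπ : Function.Injective π := (Subgroup.subtype_injective _).comp hθ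
  obtain ⟨k, c, hcs, hca, hcb⟩ := exists_std_pair168 (a := π α) (b := π β)
    (by rw [← map_mul, hα, map_one]) (by rw [← map_pow, hβ, map_one])
    (fun h1 => hβ1 (hπ (h1.trans (map_one π).symm)))
    (by rw [← map_mul, ← map_pow, hαβ, map_one])
    (by simp only [← map_mul, ← map_pow, hcom, map_one])
  let cA : alternatingGroup (Fin 8) := ⟨c, Perm.mem_alternatingGroup.2 hcs⟩
  set gc := equivAlt.symm cA with hgc
  have hl' : ∀ (γ : MulAut V) (p : Perm (Fin 8)) (M : SpecialLinearGroup (Fin 4) (ZMod 2)),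
      Induces M p → π γ * c = c * p → l γ = gc * M * gc⁻¹ := by
    intro γ p M hM hp
    have hps : Perm.sign p = 1 := by
      have h1 := congrArg Perm.sign hp
      rw [map_mul, map_mul, hcs, mul_one, one_mul] at h1
      rw [← h1]
      exact Perm.mem_alternatingGroup.1 (θ γ).2
    let pA : alternatingGroup (Fin 8) := ⟨p, Perm.mem_alternatingGroup.2 hps⟩
    have hsym : equivAlt.symm pA = M := toAlt_eq (g := M) hM
    have h1 : θ γ = cA * pA * cA⁻¹ := Subtype.ext (eq_mul_inv_of_mul_eq hp)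
    rw [← hsym, hgc, ← map_inv, ← map_mul, ← map_mul, ← h1]
    exact (equivAlt.symm_apply_apply _).symm
  let MA : SpecialLinearGroup (Fin 4) (ZMod 2) := ⟨matA k, (matA_spec k).1⟩
  let MB : SpecialLinearGroup (Fin 4) (ZMod 2) := ⟨matGB true, (mat_spec true).2.1⟩
  have hlA : l α = gc * MA * gc⁻¹ := hl' α (genX k) MA (matA_spec k).2 hca
  have hlB : l β = gc * MB * gc⁻¹ := hl' β (genB true) MB (mat_spec true).2.2.2 hcb
  let gi : Matrix (Fin 4) (Fin 4) (ZMod 2) :=
    ((gc⁻¹ : SpecialLinearGroup (Fin 4) (ZMod 2)) : Matrix (Fin 4) (Fin 4) (ZMod 2))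
  have hconj : ∀ (M : SpecialLinearGroup (Fin 4) (ZMod 2)) (w : Fin 4 → ZMod 2),
      gi.mulVec (((gc * M * gc⁻¹ : SpecialLinearGroup (Fin 4) (ZMod 2)) :
        Matrix (Fin 4) (Fin 4) (ZMod 2)).mulVec w) =
        (M : Matrix (Fin 4) (Fin 4) (ZMod 2)).mulVec (gi.mulVec w) := by
    intro M w
    refine (sl_mulVec _ _ w).trans (Eq.trans ?_ (sl_mulVec M gc⁻¹ w).symm)
    rw [show gc⁻¹ * (gc * M * gc⁻¹) = M * gc⁻¹ by group]
  have hinjgi : Function.Injective fun w => gi.mulVec w := fun w w' h => by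
    have h1 := congrArg (fun u => (gc : Matrix (Fin 4) (Fin 4) (ZMod 2)).mulVec u) h
    have h2 := (sl_mulVec gc gc⁻¹ w).symm.trans (h1.trans (sl_mulVec gc gc⁻¹ w'))
    rw [mul_inv_cancel] at h2
    exact (one_mulVec w).symm.trans (h2.trans (one_mulVec w'))
  let C : (Fin 4 → ZMod 2) → Fin 16 := fun w => chg (enc (gi.mulVec w))
  have hCinj : Function.Injective C := fun w w' hw =>
    hinjgi (enc_injective _ _ (chg_facts.2.1 _ _ hw))
  let E : V → Fin 16 := fun a => C (e a)
  have hEinj : Function.Injective E := fun a b hab => hei (hCinj hab)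
  have hEm : ∀ a b, E (a * b) = xr (E a) (E b) := fun a b => by
    simp only [E, C, heq, mulVec_add, enc_add, chg_facts.1]
  have hCA : ∀ w, C ((l α : Matrix (Fin 4) (Fin 4) (ZMod 2)).mulVec w) = act k false (C w) :=
    fun w => by simp only [C]; rw [hlA, hconj, ← (chg_mulVec k _).1]
  have hCB : ∀ w, C ((l β : Matrix (Fin 4) (Fin 4) (ZMod 2)).mulVec w) = act k true (C w) :=
    fun w => by simp only [C]; rw [hlB, hconj, ← (chg_mulVec k _).2]
  have hEe : ∀ a, E (α a) = act k false (E a) ∧ E (β a) = act k true (E a) := fun a => by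
    simp only [E]
    rw [← hle, ← hle]
    exact ⟨hCA _, hCB _⟩
  refine ⟨k, E, hEinj, hEm, hEe, ?_⟩
  by_cases hsurj : Function.Surjective E
  · exact Or.inl hsurj
  obtain ⟨a0, ha0⟩ : ∃ a, β a ≠ a := by
    by_contra hcon
    push Not at hcon
    exact hβ1 (MulEquiv.ext fun a => (hcon a).trans (MulAut.one_apply V a).symm)
  have hb : act k true (E a0) ≠ E a0 := fun h1 => ha0 (hEinj ((hEe a0).2.trans h1))
  have hstep : ∀ L : List (Fin 16), (∀ b ∈ L, ∃ a, E a = b) → ∀ b ∈ step k L, ∃ a, E a = b := by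
    intro L hL b hb
    rw [step, List.mem_filter, decide_eq_true_eq] at hb
    rcases hb.2 with h1 | ⟨c, hc', h1 | h1⟩ | ⟨c, hc', d, hd, h1⟩
    · exact hL b h1
    · obtain ⟨a, rfl⟩ := hL c hc'; exact ⟨α a, (hEe a).1.trans h1⟩
    · obtain ⟨a, rfl⟩ := hL c hc'; exact ⟨β a, (hEe a).2.trans h1⟩
    · obtain ⟨a, rfl⟩ := hL c hc'
      obtain ⟨a', rfl⟩ := hL d hd
      exact ⟨a * a', (hEm a a').trans h1⟩
  have hcl : ∀ b ∈ step k (step k (step k (step k [E a0]))), ∃ a, E a = b :=
    hstep _ (hstep _ (hstep _ (hstep _ fun b hb => ⟨a0, (List.mem_singleton.1 hb).symm⟩)))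
  obtain ⟨hev, hall⟩ := closure_facts k (E a0) hb
  have hk13 : k ≠ 1 ∧ k ≠ 3 := ⟨fun h1 => hsurj fun b => hcl b (hall (Or.inl h1) b),
    fun h1 => hsurj fun b => hcl b (hall (Or.inr h1) b)⟩
  have hodd : ∀ a, (E a).val % 2 = 0 := by
    intro a
    by_contra hao
    have hao : (E a).val % 2 = 1 := by omega
    refine hsurj fun b => ?_
    by_cases hbo : b.val % 2 = 1
    · obtain ⟨c, hc', hcb⟩ := even_xr (E a) b hao
      obtain ⟨a', rfl⟩ := hcl c (hev c hc')
      exact ⟨a * a', (hEm a a').trans (hcb hbo)⟩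
    · exact hcl b (hev b (by omega))
  refine Or.inr ⟨?_, fun b => ⟨fun hb' => hcl b (hev b hb'), fun ⟨a, ha⟩ => ha ▸ hodd a⟩⟩
  rcases h with hcard | ⟨w, hw, hfix⟩
  · exact absurd ((Nat.bijective_iff_injective_and_card E).2
      ⟨hEinj, by rw [hcard, Nat.card_fin]⟩).2 hsurj
  · have hw0 : C w ≠ 0 := fun h0 => hw (hinjgi (by
      show gi.mulVec w = gi.mulVec 0
      rw [mulVec_zero]
      exact enc_injective _ _ ((chg_facts.2.2 _ h0).trans enc_zero.symm)))
    have h45 : ¬ (k = 4 ∨ k = 5) := fun h1 => hw0 (act_no_fixed k _ h1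
      (by rw [← hCA, hfix]) (by rw [← hCB, hfix]))
    revert hk13 h45
    clear * -
    revert k
    decide

end CfsgLib.L32Radical
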