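import Cfsg.Agent.L32Radical.Faithful

/-!
# No second layer below a layer of order two
-/

set_option autoImplicit false
set_option linter.style.haveILetI false

namespace CfsgLib.L32Radical

open Cfsg CfsgLib.GLFourTwo CfsgLib.GLFourTwo.A5Mod
open scoped commutatorElement

theorem act_basis : ∀ k : Fin 6, k = 0 ∨ k = 2 ∨ k = 4 ∨ k = 5 →
    (act k true 1 = 1 ∧ act k true 2 = 2 ∧ act k true 4 = 8 ∧ act k true 8 = 12 ∧ act k false 2 = 4) ∧
      (act k false 8 = 8 ∨ act k false 8 = xr 2 12) ∧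
      (act k false 1 = 1 ∨ act k false 1 = xr 1 8 ∨ act k false 1 = xr (xr 1 8) 2) ∧
      (xr 4 8 : Fin 16) = 12 := by
  decide +kernel

theorem four_parts : ∀ a : Fin 16, a = xr (xr (if a.val % 2 = 1 then 1 else 0)
    (if a.val / 2 % 2 = 1 then 2 else 0)) (xr (if a.val / 4 % 2 = 1 then 4 else 0)
      (if a.val / 8 % 2 = 1 then 8 else 0)) := by
  decide +kernel

/-- An invariant alternating form is zero. -/
theorem form_eq_one {A : Type*} [Group A] (C : Fin 16 → Fin 16 → A) {k : Fin 6}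
    (hk : k = 0 ∨ k = 2 ∨ k = 4 ∨ k = 5) (hadd : ∀ a b c, C a (xr b c) = C a b * C a c)
    (hsymm : ∀ a b, C a b = C b a) (hself : ∀ a, C a a = 1)
    (hinv : ∀ g a b, C (act k g a) (act k g b) = C a b) : ∀ a b, C a b = 1 := by
  obtain ⟨⟨y1, y2, y4, y8, x2⟩, x8, x1, h48⟩ := act_basis k hk
  have hzero : ∀ a, C a 0 = 1 := fun a => by
    have h := hadd a 0 0
    rw [(xr_facts.1 _).1] at h
    exact mul_eq_left.1 h.symm
  have hy : ∀ a, act k true a = a → C a 4 = 1 ∧ C a 8 = 1 := by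
    intro a ha
    have e1 := hinv true a 4
    rw [ha, y4] at e1
    have e2 := hinv true a 8
    rw [ha, y8, ← h48, hadd] at e2
    have h4 : C a 4 = 1 := mul_eq_right.1 e2
    exact ⟨h4, e1.trans h4⟩
  obtain ⟨c24, c28⟩ := hy 2 y2
  obtain ⟨c14, c18⟩ := hy 1 y1
  have c42 : C 4 2 = 1 := by rw [hsymm, c24]
  have c41 : C 4 1 = 1 := by rw [hsymm, c14]
  have c48 : C 4 8 = 1 := by
    have e := hinv false 2 8
    rw [x2, c28] at e
    rcases x8 with h | h <;> rw [h] at e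
    · exact e
    · rwa [hadd, c42, one_mul, ← h48, hadd, hself, one_mul] at e
  have c12 : C 1 2 = 1 := by
    have e := hinv false 1 2
    rw [x2, hsymm] at e
    rw [← e]
    rcases x1 with h | h | h <;> rw [h]
    · exact c41
    · rw [hadd, c41, c48, mul_one]
    · rw [hadd, hadd, c41, c48, c42, mul_one, mul_one]
  have base : ∀ a b : Fin 16, (a = 1 ∨ a = 2 ∨ a = 4 ∨ a = 8) → (b = 1 ∨ b = 2 ∨ b = 4 ∨ b = 8) →
      C a b = 1 := by
    rintro a b (rfl | rfl | rfl | rfl) (rfl | rfl | rfl | rfl) <;>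
      first
      | exact hself _
      | assumption
      | (rw [hsymm]; assumption)
  have step : ∀ a, (∀ b : Fin 16, (b = 1 ∨ b = 2 ∨ b = 4 ∨ b = 8) → C a b = 1) → ∀ b, C a b = 1 := by
    intro a h b
    rw [four_parts b, hadd, hadd, hadd]
    split_ifs <;> simp [hzero, h]
  intro a b
  refine step a (fun c hc => ?_) b
  rw [hsymm]
  exact step c (fun d hd => base c d hc hd) a

namespace Base

variable {X : Type*} [Group X] [Finite X] {B : Base X}

omit [Finite X] in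
theorem mem_zpowers_two {w : X} (hw : w * w = 1) {m : X} (hm : m ∈ Subgroup.zpowers w) :
    m = 1 ∨ m = w := by
  obtain ⟨i, rfl⟩ := Subgroup.mem_zpowers_iff.1 hm
  rcases Int.even_or_odd i with ⟨j, rfl⟩ | ⟨j, rfl⟩
  · left
    rw [← two_mul, zpow_mul, zpow_ofNat, pow_two, hw, one_zpow]
  · right
    rw [zpow_add, zpow_mul, zpow_ofNat, pow_two, hw, one_zpow, one_mul, zpow_one]

/-- A cyclic layer of order four is impossible. -/
theorem false_eight (hr : SectionalPRankLE 2 4 X) (hs : Function.Surjective B.E)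
    (hk : B.k = 0 ∨ B.k = 2 ∨ B.k = 4 ∨ B.k = 5) {z : X} (hN : B.N = Subgroup.zpowers z)
    (hz4 : z ^ 4 = 1) (hz2 : z * z ≠ 1)
    (hcent : ∀ n ∈ B.N, ∀ v ∈ B.P, n * v = v * n)
    (hcomm : ∀ u ∈ B.P, ∀ v ∈ B.P, u * v * u⁻¹ * v⁻¹ ∈ Subgroup.zpowers (z * z))
    (hodd : ∀ v : ↥B.P, (B.E v).val % 2 = 1 → (v : X) * v = z ∨ (v : X) * v = z * (z * z))
    (heven : ∀ v : ↥B.P, (B.E v).val % 2 = 0 → (v : X) * v = 1 ∨ (v : X) * v = z * z) : False := by
  classical
  set w := z * z with hwdef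
  have hw2 : w * w = 1 := by
    rw [← hz4, show (4 : ℕ) = 2 + 2 from rfl, pow_add, pow_two]
  have hzN : z ∈ B.N := hN ▸ Subgroup.mem_zpowers z
  have hwN : w ∈ B.N := mul_mem hzN hzN
  have hgw : ∀ g : X, g * w * g⁻¹ = w := by
    intro g
    have h1 : g * z * g⁻¹ ∈ Subgroup.zpowers z := hN ▸ B.normalN.conj_mem z hzN g
    obtain ⟨i, hi⟩ := Subgroup.mem_zpowers_iff.1 h1
    have h2 : g * w * g⁻¹ ∈ Subgroup.zpowers w := ⟨i, by
      show w ^ i = g * w * g⁻¹
      rw [hwdef, (Commute.refl z).mul_zpow, hi]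
      group⟩
    rcases mem_zpowers_two hw2 h2 with h | h
    · exact absurd (conj_eq_one_iff.1 h) hz2
    · exact h
  choose lift hlift using hs
  set cm : X → X → X := fun u v => u * v * u⁻¹ * v⁻¹ with hcm
  have hcN : ∀ {u v : X}, u ∈ B.P → v ∈ B.P → cm u v = 1 ∨ cm u v = w := fun hu hv =>
    mem_zpowers_two hw2 (hcomm _ hu _ hv)
  have hcongr : ∀ {u u' v v' : ↥B.P}, B.E u = B.E u' → B.E v = B.E v' →
      cm (u : X) v = cm (u' : X) v' := by
    intro u u' v v' hu hv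
    obtain ⟨n, hn, rfl⟩ : ∃ n : ↥B.P, (n : X) ∈ B.N ∧ u = u' * n :=
      ⟨_, (B.eq_zero _).1 (by rw [B.map_mul, B.E_inv, hu, (xr_facts.1 _).1]),
        (mul_inv_cancel_left u' u).symm⟩
    obtain ⟨m, hm, rfl⟩ : ∃ m : ↥B.P, (m : X) ∈ B.N ∧ v = v' * m :=
      ⟨_, (B.eq_zero _).1 (by rw [B.map_mul, B.E_inv, hv, (xr_facts.1 _).1]),
        (mul_inv_cancel_left v' v).symm⟩
    simp only [hcm, Subgroup.coe_mul]
    have c1 : ∀ p ∈ B.P, (n : X) * p * (n : X)⁻¹ = p := fun p hp => by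
      rw [hcent _ hn p hp, mul_inv_cancel_right]
    have c2 : ∀ p ∈ B.P, (m : X) * p * (m : X)⁻¹ = p := fun p hp => by
      rw [hcent _ hm p hp, mul_inv_cancel_right]
    calc (u' : X) * n * (v' * m) * (u' * n : X)⁻¹ * (v' * m : X)⁻¹
        = (u' : X) * ((n : X) * ((v' : X) * m) * (n : X)⁻¹) * (u' : X)⁻¹ * ((v' : X) * m)⁻¹ := by
          group
      _ = (u' : X) * (v' : X) * ((m : X) * (u' : X)⁻¹ * (m : X)⁻¹) * (v' : X)⁻¹ := by
          rw [c1 _ (mul_mem v'.2 (B.le hm))]; group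
      _ = _ := by rw [c2 _ (inv_mem u'.2)]
  let C : Fin 16 → Fin 16 → X := fun a b => cm (lift a : X) (lift b)
  have hC1 := form_eq_one C hk (fun a b c => ?_) (fun a b => ?_) (fun a => ?_) fun g a b => ?_
  rotate_left
  · have e : cm (lift a : X) (lift b * lift c : ↥B.P) = cm (lift a : X) (lift b) * cm (lift a : X) (lift c) := by
      simp only [hcm, Subgroup.coe_mul]
      set u : X := (lift a : X)
      set v : X := (lift b : X)
      have hc' : cm u (lift c : X) * v⁻¹ = v⁻¹ * cm u (lift c : X) := by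
        rcases hcN (lift a).2 (lift c).2 with h | h <;> rw [h]
        · rw [one_mul, mul_one]
        · exact hcent w hwN _ (inv_mem (lift b).2)
      simp only [hcm] at hc'
      calc u * (v * (lift c : X)) * u⁻¹ * (v * (lift c : X))⁻¹
          = u * v * u⁻¹ * ((u * (lift c : X) * u⁻¹ * (lift c : X)⁻¹) * v⁻¹) := by group
        _ = _ := by rw [hc']; simp only [mul_assoc]
    rw [← e]
    exact hcongr rfl ((hlift _).trans (by rw [B.map_mul, hlift, hlift]))
  · have e : cm (lift b : X) (lift a) = (cm (lift a : X) (lift b))⁻¹ := by simp only [hcm]; group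
    show cm (lift a : X) (lift b) = cm (lift b : X) (lift a)
    rw [e]
    rcases hcN (lift a).2 (lift b).2 with h | h <;> rw [h]
    · rw [inv_one]
    · exact (inv_eq_of_mul_eq_one_right hw2).symm
  · show cm (lift a : X) (lift a) = 1
    simp only [hcm]; group
  · have hz : ∃ g' : X, B.Acts g' (act B.k g) := by
      cases g
      exacts [⟨_, B.acts_x⟩, ⟨_, B.acts_y⟩]
    obtain ⟨g', hg'⟩ := hz
    show cm (lift _ : X) (lift _) = cm (lift a : X) (lift b)
    rw [hcongr (u' := B.cj g' (lift a)) (v' := B.cj g' (lift b)) (by rw [hlift, hg', hlift])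
      (by rw [hlift, hg', hlift])]
    rw [show cm (B.cj g' (lift a) : X) (B.cj g' (lift b)) = g' * cm (lift a : X) (lift b) * g'⁻¹ by
      simp only [hcm, cj]; group]
    rcases hcN (lift a).2 (lift b).2 with h | h <;> rw [h]
    · group
    · exact hgw g'
  have hPc : ∀ a ∈ B.P, ∀ b ∈ B.P, a * b = b * a := by
    intro a ha b hb
    have h1 : cm a b = 1 := by
      rw [← hC1 (B.E ⟨a, ha⟩) (B.E ⟨b, hb⟩)]
      exact hcongr (u := ⟨a, ha⟩) (v := ⟨b, hb⟩) (hlift _).symm (hlift _).symm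
    calc a * b = cm a b * (b * a) := by simp only [hcm]; group
      _ = b * a := by rw [h1, one_mul]
  have hexp : ∀ b : Fin 16, b.val % 2 = 0 →
      ∃ v : ↥B.P, (v : X) ∈ B.P ∧ B.E v = b ∧ (v : X) ^ 2 = 1 := by
    intro b hb
    rcases heven (lift b) (by rw [hlift]; exact hb) with h | h
    · exact ⟨lift b, (lift b).2, hlift b, by rw [pow_two]; exact h⟩
    · refine ⟨lift b * ⟨z, B.le hzN⟩, (lift b * ⟨z, B.le hzN⟩).2, ?_, ?_⟩
      · rw [B.map_mul, hlift, (B.eq_zero ⟨z, B.le hzN⟩).2 hzN, (xr_facts.1 _).2.2]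
      · rw [Subgroup.coe_mul, pow_two, (show Commute z (lift b : X) from hPc _ (B.le hzN) _ (lift b).2).mul_mul_mul_comm, h]
        exact hw2
  have hexp8 : ∀ v : ↥B.P, B.E v = 1 → (v : X) ^ 8 = 1 := by
    intro v hv
    rw [show (8 : ℕ) = 2 * 4 from rfl, pow_mul, pow_two]
    rcases hodd v (by rw [hv]; decide) with h | h <;> rw [h]
    · exact hz4
    · rw [(show Commute z w from (Commute.refl z).mul_right (Commute.refl z)).mul_pow, hz4, one_mul,
        show (4 : ℕ) = 2 * 2 from rfl, pow_mul, pow_two w, hw2, one_pow]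
  have hsq : ∀ n ∈ B.N, ∃ v ∈ B.P, v * v = n := by
    intro n hn
    obtain ⟨i, rfl⟩ := Subgroup.mem_zpowers_iff.1 (hN ▸ hn)
    obtain ⟨r, hr, hrz⟩ : ∃ r ∈ B.P, r * r = z := by
      rcases hodd (lift 1) (by rw [hlift]; decide) with h | h
      · exact ⟨_, (lift 1).2, h⟩
      · refine ⟨(lift 1 : X) * z, mul_mem (lift 1).2 (B.le hzN), ?_⟩
        rw [(show Commute z (lift 1 : X) from hPc _ (B.le hzN) _ (lift 1).2).mul_mul_mul_comm, h,
          show z * (z * z) * (z * z) = z * (w * w) by rw [hwdef]; group, hw2, mul_one]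
    exact ⟨r ^ i, zpow_mem hr i, by rw [← hrz, (Commute.refl r).mul_zpow]⟩
  have hcard : Nat.card B.N = 4 := by
    rw [hN, Nat.card_zpowers]
    exact orderOf_eq_prime_pow (p := 2) (n := 1) (by rw [pow_one, pow_two]; exact hz2) hz4
  have hN4 : ∀ n ∈ B.N, n ^ 4 = 1 := by
    intro n hn
    obtain ⟨i, rfl⟩ := Subgroup.mem_zpowers_iff.1 (hN ▸ hn)
    rw [← zpow_natCast, ← zpow_mul, mul_comm, zpow_mul, zpow_natCast, hz4, one_zpow]
  have fin : ∀ (T : Table), TableOK T B.k → T.d.m0 = 8 → T.d.m1 = 2 → T.d.size = 64 → False := by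
    intro T hT h0 h1 hsz
    refine B.false_of_table' hr T hT hN4 le_rfl B.le (fun m hm => B.normalP.conj_mem m hm _)
      (fun m hm => B.normalP.conj_mem m hm _) hPc B.yyy_mem B.xx_mem B.u_pow_mem
      (fun _ => B.seven_mem) (Or.inl le_rfl) (fun b _ => ⟨lift b, (lift b).2, hlift b⟩)
      (fun _ _ h => by omega) (by rw [h1]; exact hexp)
      (fun v _ h => by rw [h0]; exact hexp8 v h) hsq ?_
    rw [hcard, hsz, h0]
    norm_num
  obtain ⟨t0, t2, t4, t5⟩ := tables_Z6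
  rcases hk with h | h | h | h
  · exact fin tabZ60 (h ▸ t0) rfl rfl rfl
  · exact fin tabZ62 (h ▸ t2) rfl rfl rfl
  · exact fin tabZ64 (h ▸ t4) rfl rfl rfl
  · exact fin tabZ65 (h ▸ t5) rfl rfl rfl

/-- There is nothing below a layer of order two. -/
theorem false_two (hr : SectionalPRankLE 2 4 X) (hi : B.P.index = 168) (L : Subgroup X) [L.Normal]
    (hLN : L ≤ B.N) (hL : L ≠ ⊥) (hne : ¬ B.N ≤ L)
    (hLc : ∀ l ∈ L, ∀ v ∈ B.P, l * v = v * l) (hLe : ∀ l ∈ L, l * l = 1)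
    (hsqL : ∀ n ∈ B.N, n * n ∈ L) (hcL : ∀ n ∈ B.N, ∀ v ∈ B.P, n * v * n⁻¹ * v⁻¹ ∈ L) : False := by
  classical
  have C1 : (B.quot L hLN).Central := quot_central hLN hcL hsqL
  have hne' : (B.quot L hLN).N ≠ ⊥ := fun h => hne fun n hn => mk_eq_one.1
    (Subgroup.mem_bot.1 (h ▸ (⟨n, hn, rfl⟩ : QuotientGroup.mk' L n ∈ (B.quot L hLN).N)))
  obtain ⟨hs1, hk, z1, -, hz1, hN1, hq1, hc1⟩ := layer (FGS74.sectional_quotient hr L)
    (by rw [quot_index, hi]) C1 hne'
  have hs : Function.Surjective B.E := fun b => by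
    obtain ⟨⟨_, v, hv, rfl⟩, hb⟩ := hs1 b
    exact ⟨⟨v, hv⟩, (quot_E ⟨v, hv⟩ _).symm.trans hb⟩
  obtain ⟨k0, hk0⟩ := hs 1
  set z := (k0 : X) * k0 with hz
  have hzN : z ∈ B.N := B.sq _ k0.2
  have hq : ∀ v : ↥B.P, QuotientGroup.mk' L ((v : X) * v) =
      if (B.E v).val % 2 = 1 then z1 else 1 := fun v => by
    have h := hq1 ⟨QuotientGroup.mk' L (v : X), Subgroup.mem_map_of_mem _ v.2⟩
    rw [_root_.map_mul, ← quot_E (hK := hLN) v (Subgroup.mem_map_of_mem _ v.2)]
    exact h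
  have hzz1 : QuotientGroup.mk' L z = z1 := by rw [hz, hq, hk0]; rfl
  have hzL : z ∉ L := fun h => hz1 (hzz1 ▸ mk_eq_one.2 h)
  have hNz : ∀ n ∈ B.N, n ∈ L ∨ z⁻¹ * n ∈ L := by
    intro n hn
    rcases hN1 _ ⟨n, hn, rfl⟩ with h | h
    · exact Or.inl (mk_eq_one.1 h)
    · exact Or.inr (mk_eq_one.1 (by rw [_root_.map_mul, map_inv, h, hzz1, inv_mul_cancel]))
  have hsqe : ∀ v : ↥B.P, (B.E v).val % 2 = 0 → (v : X) * v ∈ L := fun v h =>
    mk_eq_one.1 (by rw [hq, if_neg (by omega)])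
  have hsqo : ∀ v : ↥B.P, (B.E v).val % 2 = 1 → z⁻¹ * ((v : X) * v) ∈ L := fun v h =>
    mk_eq_one.1 (by rw [_root_.map_mul, map_inv, hzz1, hq, if_pos h, inv_mul_cancel])
  have hcm : ∀ u ∈ B.P, ∀ v ∈ B.P, u * v * u⁻¹ * v⁻¹ ∈ L := fun u hu v hv => mk_eq_one.1 (by
    rw [_root_.map_mul, _root_.map_mul, _root_.map_mul, map_inv, map_inv,
      hc1 _ (Subgroup.mem_map_of_mem _ hu) _ (Subgroup.mem_map_of_mem _ hv)]
    group)
  have hzc : ∀ v ∈ B.P, z * v = v * z := by
    intro v hv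
    have hc := hcm v hv _ k0.2
    set c := v * (k0 : X) * v⁻¹ * (k0 : X)⁻¹ with hcdef
    have e : v * z * v⁻¹ = z := by
      have e1 : v * (k0 : X) * v⁻¹ = c * k0 := by rw [hcdef]; group
      calc v * z * v⁻¹ = v * (k0 : X) * v⁻¹ * (v * (k0 : X) * v⁻¹) := by rw [hz]; group
        _ = c * (k0 : X) * (c * (k0 : X)) := by rw [e1]
        _ = c * c * ((k0 : X) * k0) := by
          rw [(show Commute (k0 : X) c from (hLc c hc _ k0.2).symm).mul_mul_mul_comm]
        _ = z := by rw [hLe c hc, one_mul]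
    calc z * v = v * z * v⁻¹ * v := by rw [e]
      _ = v * z := by group
  have hcent : ∀ n ∈ B.N, ∀ v ∈ B.P, n * v = v * n := by
    intro n hn v hv
    rcases hNz n hn with h | h
    · exact hLc n h v hv
    · rw [show n = z * (z⁻¹ * n) by group]
      exact ((show Commute z v from hzc v hv).mul_left (hLc _ h v hv)).eq
  have hnn : ∀ n ∈ B.N, n * n = 1 ∨ n * n = z * z := by
    intro n hn
    rcases hNz n hn with h | h
    · exact Or.inl (hLe n h)
    · right
      rw [show n = z * (z⁻¹ * n) by group,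
        (show Commute (z⁻¹ * n) z from hLc _ h z (B.le hzN)).mul_mul_mul_comm, hLe _ h, mul_one]
  obtain ⟨l, hl, hl1⟩ := L.bot_or_exists_ne_one.resolve_left hL
  by_cases hz2 : z * z = 1
  · -- elementary abelian
    have C2 : B.Central := ⟨hcent, fun n hn => (hnn n hn).elim id fun h => h.trans hz2⟩
    obtain ⟨-, -, z2, -, -, hN2, -, -⟩ := layer hr hi C2
      (fun h => hzL (by rw [h, Subgroup.mem_bot] at hzN; rw [hzN]; exact L.one_mem))
    have e1 := (hN2 l (hLN hl)).resolve_left hl1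
    have e2 := (hN2 z hzN).resolve_left fun h => hzL (h ▸ L.one_mem)
    exact hzL (e2 ▸ e1 ▸ hl)
  · set w := z * z with hwdef
    have hwL : w ∈ L := hsqL z hzN
    have hgw : ∀ g : X, g * w * g⁻¹ = w := by
      intro g
      have e : g * w * g⁻¹ = g * z * g⁻¹ * (g * z * g⁻¹) := by rw [hwdef]; group
      rcases hnn _ (B.normalN.conj_mem z hzN g) with h | h
      · exact absurd (conj_eq_one_iff.1 (e.trans h)) hz2
      · exact e.trans h
    haveI hW : (Subgroup.zpowers w).Normal := ⟨fun n hn g => by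
      obtain ⟨i, rfl⟩ := Subgroup.mem_zpowers_iff.1 hn
      rw [← conj_zpow, hgw]
      exact Subgroup.zpow_mem_zpowers _ _⟩
    set W := Subgroup.zpowers w with hWdef
    have hWN : W ≤ B.N := Subgroup.zpowers_le.2 (hLN hwL)
    have C3 : (B.quot W hWN).Central := quot_central hWN
      (fun n hn v hv => by
        rw [hcent n hn v hv, mul_inv_cancel_right, mul_inv_cancel]; exact W.one_mem)
      fun n hn => by
        rcases hnn n hn with h | h <;> rw [h]
        exacts [W.one_mem, Subgroup.mem_zpowers w]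
    have hzW : z ∉ W := fun h => hzL (Subgroup.zpowers_le.2 hwL h)
    obtain ⟨-, -, z3, -, -, hN3, -, -⟩ := layer (FGS74.sectional_quotient hr W)
      (by rw [quot_index, hi]) C3 (fun h => hzW (mk_eq_one.1 (Subgroup.mem_bot.1
        (h ▸ (⟨z, hzN, rfl⟩ : QuotientGroup.mk' W z ∈ (B.quot W hWN).N)))))
    have hz3 : QuotientGroup.mk' W z = z3 :=
      (hN3 _ ⟨z, hzN, rfl⟩).resolve_left fun h => hzW (mk_eq_one.1 h)
    have hwz : w ∈ Subgroup.zpowers z := mul_mem (Subgroup.mem_zpowers z) (Subgroup.mem_zpowers z)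
    have hNW : ∀ n ∈ B.N, n ∈ W ∨ z⁻¹ * n ∈ W := fun n hn => by
      rcases hN3 _ ⟨n, hn, rfl⟩ with h | h
      · exact Or.inl (mk_eq_one.1 h)
      · exact Or.inr (mk_eq_one.1 (by rw [_root_.map_mul, map_inv, h, hz3, inv_mul_cancel]))
    have hN : B.N = Subgroup.zpowers z := by
      refine le_antisymm (fun n hn => ?_) (Subgroup.zpowers_le.2 hzN)
      rcases hNW n hn with h | h
      · exact Subgroup.zpowers_le.2 hwz h
      · have := mul_mem (Subgroup.mem_zpowers z) (Subgroup.zpowers_le.2 hwz h)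
        rwa [mul_inv_cancel_left] at this
    have hLW : ∀ m ∈ L, m ∈ W := fun m hm => (hNW m (hLN hm)).resolve_right fun h => hzL (by
      have := mul_mem hm (inv_mem (Subgroup.zpowers_le.2 hwL h))
      rwa [show m * (z⁻¹ * m)⁻¹ = z by group] at this)
    refine false_eight hr hs hk hN ?_ hz2 hcent (fun u hu v hv => hLW _ (hcm u hu v hv)) ?_ ?_
    · rw [show (4 : ℕ) = 2 * 2 from rfl, pow_mul, pow_two, pow_two]
      exact hLe w hwL
    · intro v hv
      rcases mem_zpowers_two (hLe w hwL) (hLW _ (hsqo v hv)) with h | h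
      · exact Or.inl (inv_mul_eq_one.1 h).symm
      · exact Or.inr (eq_mul_of_inv_mul_eq h)
    · intro v hv
      exact mem_zpowers_two (hLe w hwL) (hLW _ (hsqe v hv))

end Base

end CfsgLib.L32Radical
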