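import Cfsg.Agent.L32Radical.Quot

/-!
# Central elementary layers have order two
-/

set_option autoImplicit false
set_option linter.style.haveILetI false

namespace CfsgLib.L32Radical

open Cfsg CfsgLib.GLFourTwo CfsgLib.GLFourTwo.A5Mod

theorem even16_act : ∀ (t : Fin 6), t ≠ 4 ∧ t ≠ 5 → ∀ (g : Bool) (a : Fin 16),
    even16 (act t g a) = act (if t = 2 ∨ t = 3 then 2 else 0) g (even16 a) := by
  decide +kernel

theorem even16_eq : ∀ a b : Fin 16, even16 a = even16 b → a = b ∨ a = xr b 1 := by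
  decide +kernel

theorem odd_linear : ∀ c a b : Fin 16, (if (xr a b).val % 2 = 1 then c else 0) =
    xr (if a.val % 2 = 1 then c else 0) (if b.val % 2 = 1 then c else 0) := by
  decide +kernel

namespace Base

variable {X : Type*} [Group X] {B : Base X}

theorem card_N_le [Finite X] (hr : SectionalPRankLE 2 4 X) (L : B.Central) :
    Nat.card B.N ≤ 16 :=
  (Cfsg.Agent.S4400.card_le_of_hom hr B.N B.N.subtype B.N (by rw [Subgroup.range_subtype])
    (fun a ha b hb => L.central a ha b (B.le hb))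
    fun a ha => by rw [pow_two]; exact L.exp a ha :)

variable [Finite X]

/-- A layer with trivial action has order two. -/
theorem trivial_layer (hr : SectionalPRankLE 2 4 X) (L : B.Central) (hN : B.N ≠ ⊥)
    (hx : ∀ n ∈ B.N, B.x * n * B.x⁻¹ = n) (hy : ∀ n ∈ B.N, B.y * n * B.y⁻¹ = n) :
    Function.Surjective B.E ∧ (B.k = 0 ∨ B.k = 2 ∨ B.k = 4 ∨ B.k = 5) ∧
      ∃ z ∈ B.N, z ≠ 1 ∧ (∀ n ∈ B.N, n = 1 ∨ n = z) ∧
        (∀ v : ↥B.P, (v : X) * v = if (B.E v).val % 2 = 1 then z else 1) ∧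
        ∀ a ∈ B.P, ∀ b ∈ B.P, a * b = b * a := by
  classical
  haveI := B.normalN
  obtain ⟨e, l, hei, -, heq, -, -⟩ := exists_lin_coord (V := ↥B.N)
    (fun a b => Subtype.ext (L.central _ a.2 _ (B.le b.2)))
    (fun a => Subtype.ext (by rw [Subgroup.coe_pow, pow_two, L.exp _ a.2, Subgroup.coe_one]))
    (card_N_le hr L)
  let F : ↥B.N → Fin 16 := fun a => enc (e a)
  have hFi : Function.Injective F := fun a b h => hei (enc_injective _ _ h)
  have hFm : ∀ a b, F (a * b) = xr (F a) (F b) := fun a b => by simp only [F, heq, enc_add]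
  have hF1 : F 1 = 0 := by
    have h := hFm 1 1
    rwa [one_mul, (xr_facts.1 _).1] at h
  obtain ⟨q, q0, qe, qq, qE, qnot, qpol⟩ := exists_quad L (al := fun _ a => a) hFm
    (fun n => congrArg F (Subtype.ext (hx _ n.2))) (fun n => congrArg F (Subtype.ext (hy _ n.2)))
  have hq := trivial_cases168 q0 qe qq
  have hnz : ¬ ∀ v : ↥B.P, (v : X) * v = 1 := fun h => hN (eq_bot_iff.2 (B.gen.trans
    ((Subgroup.closure_le _).2 (by rintro _ ⟨v, rfl⟩; exact Subgroup.mem_bot.2 (h v)))))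
  have hsq1 : ∀ v : ↥B.P, q (B.E v) = 0 → (v : X) * v = 1 := fun v h => by
    rw [qE, ← hF1] at h
    exact congrArg Subtype.val (hFi h)
  have hs : Function.Surjective B.E := by
    by_contra hs
    refine hnz fun v => hsq1 v ?_
    rw [qnot hs, hq, if_neg]
    intro h
    have := (even16_facts.2.1 (B.E v)).1
    have := h.2
    omega
  have hk : B.k = 0 ∨ B.k = 2 ∨ B.k = 4 ∨ B.k = 5 := by
    by_contra hk
    exact hnz fun v => hsq1 v (by rw [hq, if_neg fun h => hk h.1])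
  have hq' : ∀ a, q a = if a.val % 2 = 1 then q 1 else 0 := fun a => by
    rw [hq]
    by_cases h : a.val % 2 = 1
    · rw [if_pos h, if_pos ⟨hk, h⟩]
    · rw [if_neg h, if_neg fun h' => h h'.2]
  obtain ⟨v1, hv1⟩ := hs 1
  set z : X := (v1 : X) * v1 with hz
  have hzN : z ∈ B.N := B.sq _ v1.2
  have hsq : ∀ v : ↥B.P, (v : X) * v = if (B.E v).val % 2 = 1 then z else 1 := fun v => by
    by_cases h : (B.E v).val % 2 = 1
    · rw [if_pos h]
      have h1 := qE v
      rw [hq', if_pos h, ← hv1, qE] at h1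
      exact (congrArg Subtype.val (hFi h1)).symm
    · rw [if_neg h]
      exact hsq1 v (by rw [hq', if_neg h])
  refine ⟨hs, hk, z, hzN, fun h => hnz fun v => by rw [hsq, h, ite_self], fun n hn => ?_, hsq, ?_⟩
  · have h1 : n ∈ Subgroup.zpowers z := (B.gen.trans ((Subgroup.closure_le _).2 (by
      rintro _ ⟨v, rfl⟩
      show (v : X) * v ∈ Subgroup.zpowers z
      rw [hsq]
      split
      exacts [Subgroup.mem_zpowers z, one_mem _]))) hn
    obtain ⟨i, rfl⟩ := Subgroup.mem_zpowers_iff.1 h1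
    have hzz : z * z = 1 := L.exp z hzN
    rcases Int.even_or_odd i with ⟨j, rfl⟩ | ⟨j, rfl⟩
    · left
      rw [← two_mul, zpow_mul, zpow_ofNat, pow_two, hzz, one_zpow]
    · right
      rw [zpow_add, zpow_mul, zpow_ofNat, pow_two, hzz, one_zpow, one_mul, zpow_one]
  · intro a ha b hb
    have h1 := qpol ⟨a, ha⟩ ⟨b, hb⟩
    rw [polar_zero ((hq' _).trans ((odd_linear _ _ _).trans
      (congrArg₂ xr (hq' _).symm (hq' _).symm))), ← hF1] at h1
    have h2 : b * a * b⁻¹ * a⁻¹ = 1 := congrArg Subtype.val (hFi h1.symm)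
    calc a * b = 1 * (a * b) := (one_mul _).symm
      _ = b * a := by rw [← h2]; group

/-- A layer of order sixteen with a fixed point is impossible. -/
theorem false_fixed (hr : SectionalPRankLE 2 4 X) (hi : B.P.index = 168) (L : B.Central)
    {F : ↥B.N → Fin 16} (hFb : Function.Bijective F) (hFm : ∀ a b, F (a * b) = xr (F a) (F b))
    {t : Fin 6} (ht : t ≠ 4 ∧ t ≠ 5)
    (hx : ∀ n : ↥B.N, F ⟨B.x * n * B.x⁻¹, B.normalN.conj_mem _ n.2 _⟩ = act t false (F n))
    (hy : ∀ n : ↥B.N, F ⟨B.y * n * B.y⁻¹, B.normalN.conj_mem _ n.2 _⟩ = act t true (F n)) :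
    False := by
  classical
  have hF1 : F 1 = 0 := by
    have h := hFm 1 1
    rwa [one_mul, (xr_facts.1 _).1] at h
  obtain ⟨c, hc⟩ := hFb.2 1
  obtain ⟨-, -, h11, -⟩ := act_facts.2.2.2 t 0
  obtain ⟨fx, fy⟩ := h11 ht
  have hcx : B.x * c * B.x⁻¹ = c := congrArg Subtype.val (hFb.1 ((hx c).trans (by rw [hc, fx])))
  have hcy : B.y * c * B.y⁻¹ = c := congrArg Subtype.val (hFb.1 ((hy c).trans (by rw [hc, fy])))
  let H : Subgroup X := Subgroup.centralizer {(c : X)}
  have hH : ∀ g, g ∈ H ↔ g * c * g⁻¹ = c := fun g => by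
    rw [Subgroup.mem_centralizer_iff, mul_inv_eq_iff_eq_mul]
    exact ⟨fun h => (h _ rfl).symm, fun h _ e => e ▸ h.symm⟩
  have htop : H = ⊤ := B.top_of_gens hi H
    (fun p hp => (hH p).2 (by rw [← L.central _ c.2 p hp, mul_inv_cancel_right]))
    ((hH _).2 hcx) ((hH _).2 hcy)
  haveI hW : (Subgroup.zpowers (c : X)).Normal := ⟨fun n hn g => by
    obtain ⟨i, rfl⟩ := Subgroup.mem_zpowers_iff.1 hn
    rw [← conj_zpow, (hH g).1 (htop ▸ Subgroup.mem_top g)]
    exact Subgroup.zpow_mem_zpowers _ _⟩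
  set W := Subgroup.zpowers (c : X) with hWdef
  set π := QuotientGroup.mk' W with hπ
  have hK : W ≤ B.N := Subgroup.zpowers_le.2 c.2
  set B3 := B.quot W hK with hB3
  have L3 : B3.Central := quot_central hK
    (fun n hn v hv => by rw [L.central n hn v hv, mul_inv_cancel_right, mul_inv_cancel]; exact W.one_mem)
    fun n hn => by rw [L.exp n hn]; exact W.one_mem
  have hW2 : ∀ m ∈ W, m = 1 ∨ m = (c : X) := by
    intro m hm
    obtain ⟨i, rfl⟩ := Subgroup.mem_zpowers_iff.1 hm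
    have hzz : (c : X) * c = 1 := L.exp _ c.2
    rcases Int.even_or_odd i with ⟨j, rfl⟩ | ⟨j, rfl⟩
    · left
      rw [← two_mul, zpow_mul, zpow_ofNat, pow_two, hzz, one_zpow]
    · right
      rw [zpow_add, zpow_mul, zpow_ofNat, pow_two, hzz, one_zpow, one_mul, zpow_one]
  have hrep : ∀ m : ↥B3.N, ∃ n : ↥B.N, π (n : X) = m := by
    rintro ⟨_, n, hn, rfl⟩
    exact ⟨⟨n, hn⟩, rfl⟩
  choose rep hrep using hrep
  let F3 : ↥B3.N → Fin 16 := fun m => even16 (F (rep m))
  have hwell : ∀ n n' : ↥B.N, π (n : X) = π (n' : X) → even16 (F n) = even16 (F n') := by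
    intro n n' h
    have h1 : ((n'⁻¹ * n : ↥B.N) : X) ∈ W := mk_eq_one.1 (by
      rw [Subgroup.coe_mul, Subgroup.coe_inv, _root_.map_mul, map_inv]
      exact inv_mul_eq_one.2 h.symm)
    have h2 := hFm n' (n'⁻¹ * n)
    rw [mul_inv_cancel_left] at h2
    rw [h2, even16_facts.1]
    rcases hW2 _ h1 with h3 | h3
    · rw [show n'⁻¹ * n = 1 from Subtype.ext h3, hF1, show even16 0 = 0 from rfl,
        (xr_facts.1 _).2.2]
    · rw [show n'⁻¹ * n = c from Subtype.ext h3, hc, show even16 1 = 0 from rfl,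
        (xr_facts.1 _).2.2]
  have hF3 : ∀ (n : ↥B.N) (h : π (n : X) ∈ B3.N), F3 ⟨_, h⟩ = even16 (F n) :=
    fun n h => hwell _ _ (hrep _)
  have hF3i : Function.Injective F3 := by
    intro a b h
    rcases even16_eq _ _ h with h1 | h1
    · exact Subtype.ext ((hrep a).symm.trans ((congrArg (fun n : ↥B.N => π (n : X)) (hFb.1 h1)).trans
        (hrep b)))
    · rw [← hc, ← hFm] at h1
      refine Subtype.ext ((hrep a).symm.trans ((congrArg (fun n : ↥B.N => π (n : X)) (hFb.1 h1)).trans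
        (Eq.trans ?_ (hrep b))))
      rw [Subgroup.coe_mul, _root_.map_mul, mk_eq_one.2 (Subgroup.mem_zpowers _), mul_one]
  have hF3m : ∀ a b, F3 (a * b) = xr (F3 a) (F3 b) := by
    intro a b
    show even16 _ = xr (even16 _) (even16 _)
    rw [← even16_facts.1, ← hFm]
    exact hwell _ _ ((hrep _).trans (by rw [Subgroup.coe_mul, ← hrep a, ← hrep b,
      Subgroup.coe_mul, _root_.map_mul]))
  have hF3e : ∀ m, (F3 m).val % 2 = 0 := fun m => (even16_facts.2.1 _).1
  have hcard : Nat.card B3.N = 8 := by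
    rw [← card_even]
    refine Nat.card_eq_of_bijective (fun m => (⟨F3 m, hF3e m⟩ : {a : Fin 16 // a.val % 2 = 0}))
      ⟨fun a b h => hF3i (congrArg Subtype.val h), fun b => ?_⟩
    obtain ⟨n, hn⟩ := hFb.2 b.1
    refine ⟨⟨π (n : X), Subgroup.mem_map_of_mem _ n.2⟩, Subtype.ext ?_⟩
    exact ((hF3 n _).trans (congrArg even16 hn)).trans ((even16_facts.2.1 b.1).2.1 b.2)
  refine B3.false_three (FGS74.sectional_quotient hr W) L3 hF3i hF3m hF3e hcard
    (t := if t = 2 ∨ t = 3 then 2 else 0) (by split <;> simp) ?_ ?_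
  all_goals rintro ⟨_, n, hn, rfl⟩
  · refine Eq.trans ?_ ((congrArg even16 (hx ⟨n, hn⟩)).trans ((even16_act t ht false _).trans
      (congrArg _ (hF3 ⟨n, hn⟩ ⟨n, hn, rfl⟩).symm)))
    rw [← hF3 _ ⟨_, B.normalN.conj_mem n hn B.x, rfl⟩]
    exact congrArg F3 (Subtype.ext (show π B.x * π n * (π B.x)⁻¹ = π (B.x * n * B.x⁻¹) by
      rw [_root_.map_mul, _root_.map_mul, map_inv]))
  · refine Eq.trans ?_ ((congrArg even16 (hy ⟨n, hn⟩)).trans ((even16_act t ht true _).trans
      (congrArg _ (hF3 ⟨n, hn⟩ ⟨n, hn, rfl⟩).symm)))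
    rw [← hF3 _ ⟨_, B.normalN.conj_mem n hn B.y, rfl⟩]
    exact congrArg F3 (Subtype.ext (show π B.y * π n * (π B.y)⁻¹ = π (B.y * n * B.y⁻¹) by
      rw [_root_.map_mul, _root_.map_mul, map_inv]))

/-- A nontrivial central elementary layer has order two. -/
theorem layer (hr : SectionalPRankLE 2 4 X) (hi : B.P.index = 168) (L : B.Central)
    (hN : B.N ≠ ⊥) :
    Function.Surjective B.E ∧ (B.k = 0 ∨ B.k = 2 ∨ B.k = 4 ∨ B.k = 5) ∧
      ∃ z ∈ B.N, z ≠ 1 ∧ (∀ n ∈ B.N, n = 1 ∨ n = z) ∧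
        (∀ v : ↥B.P, (v : X) * v = if (B.E v).val % 2 = 1 then z else 1) ∧
        ∀ a ∈ B.P, ∀ b ∈ B.P, a * b = b * a := by
  classical
  haveI := B.normalN
  let τ : X →* MulAut ↥B.N := MulAut.conjNormal
  have hval : ∀ (g : X) (n : ↥B.N), ((τ g n : ↥B.N) : X) = g * n * g⁻¹ := fun g n => rfl
  have hτ : ∀ p ∈ B.P, τ p = 1 := fun p hp => MulEquiv.ext fun n => Subtype.ext (by
    show p * n * p⁻¹ = (n : X)
    rw [← L.central _ n.2 p hp, mul_inv_cancel_right])
  have hα : τ B.x * τ B.x = 1 := (_root_.map_mul τ _ _).symm.trans (hτ _ B.xx_mem)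
  have hβ : τ B.y ^ 3 = 1 := by
    rw [← map_pow, pow_succ, pow_two]; exact hτ _ B.yyy_mem
  have hαβ : (τ B.x * τ B.y) ^ 7 = 1 := by
    rw [← _root_.map_mul, ← map_pow]; exact hτ _ B.seven_mem
  by_cases hb : τ B.y = 1
  · have ha : τ B.x = 1 := by
      rw [hb, mul_one, show (7 : ℕ) = 2 * 3 + 1 from rfl, pow_succ, pow_mul, pow_two,
        hα, one_pow, one_mul] at hαβ
      exact hαβ
    refine trivial_layer hr L hN (fun n hn => ?_) (fun n hn => ?_)
    · rw [← hval B.x ⟨n, hn⟩, ha]; rfl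
    · rw [← hval B.y ⟨n, hn⟩, hb]; rfl
  · exfalso
    have hai : (τ B.x)⁻¹ = τ B.x := inv_eq_of_mul_eq_one_right hα
    have hbi : (τ B.y)⁻¹ = τ B.y * τ B.y := inv_eq_of_mul_eq_one_right (by
      rw [← hβ, pow_succ, pow_two, mul_assoc])
    have hcom : (τ B.x * τ B.y * τ B.x * τ B.y * τ B.y) ^ 4 = 1 := by
      have h := hτ _ B.u_pow_mem
      rw [map_pow, _root_.map_mul, _root_.map_mul, _root_.map_mul, map_inv, map_inv, hai, hbi,
        ← mul_assoc] at h
      exact h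
    obtain ⟨t, F, hFi, hFm, hFa, hrange⟩ := coords168 (V := ↥B.N)
      (fun a b => Subtype.ext (L.central _ a.2 _ (B.le b.2)))
      (fun a => Subtype.ext (by rw [Subgroup.coe_pow, pow_two, L.exp _ a.2, Subgroup.coe_one]))
      (card_N_le hr L) (τ B.x) (τ B.y) hα hβ hb hαβ hcom
    have hx : ∀ n : ↥B.N, F ⟨B.x * n * B.x⁻¹, B.normalN.conj_mem _ n.2 _⟩ = act t false (F n) :=
      fun n => (congrArg F (Subtype.ext (hval B.x n).symm)).trans (hFa n).1
    have hy : ∀ n : ↥B.N, F ⟨B.y * n * B.y⁻¹, B.normalN.conj_mem _ n.2 _⟩ = act t true (F n) :=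
      fun n => (congrArg F (Subtype.ext (hval B.y n).symm)).trans (hFa n).2
    rcases hrange with hs | ⟨ht, hev⟩
    · have hbij : Function.Bijective F := ⟨hFi, hs⟩
      by_cases ht : t = 4 ∨ t = 5
      · exact B.false_four hr L hFi hFm (by rw [Nat.card_eq_of_bijective F hbij, Nat.card_fin]) ht
          hx hy
      · exact false_fixed hr hi L hbij hFm (not_or.1 ht) hx hy
    · have hFe : ∀ n, (F n).val % 2 = 0 := fun n => (hev _).2 ⟨n, rfl⟩
      refine B.false_three hr L hFi hFm hFe ?_ ht hx hy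
      rw [← card_even]
      refine Nat.card_eq_of_bijective (fun n => (⟨F n, hFe n⟩ : {a : Fin 16 // a.val % 2 = 0}))
        ⟨fun a b h => hFi (congrArg Subtype.val h), fun b => ?_⟩
      obtain ⟨a, ha⟩ := (hev b.1).1 b.2
      exact ⟨a, Subtype.ext ha⟩

end Base

end CfsgLib.L32Radical
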