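import Cfsg.Agent.L32Radical.Base
import Cfsg.Agent.L32Radical.Config

/-!
# Adapted generators of a coded abelian subgroup
-/

set_option autoImplicit false
set_option linter.style.haveILetI false

namespace CfsgLib.L32Radical

open Cfsg CfsgLib.GLFourTwo CfsgLib.GLFourTwo.A5Mod

/-- The shape of the tables. -/
def Shape (d : Dim) (B : Quad) : Prop :=
  ((d.m0 = 1 ∧ d.code d.gens.1 = 0) ∨ (d.m0 ≠ 1 ∧ d.code d.gens.1 = 1)) ∧ d.m2 = d.m1 ∧ d.m3 = d.m1 ∧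
    B = (d.gens.1, d.gens.2.1, d.gens.2.2.2, d.neg (d.enc (0, 0, 1, 1))) ∧
    d.code d.gens.2.1 = 2 ∧ d.code d.gens.2.2.1 = 4 ∧ d.code d.gens.2.2.2 = 8 ∧
    ∀ b : Fin 16, (d.m0 = 1 → b.val % 2 = 0) → ∃ a ∈ List.range d.size, d.code a = b.val

instance (d : Dim) (B : Quad) : Decidable (Shape d B) := by unfold Shape; infer_instance

theorem code_digits : ∀ p q r s : Fin 2,
    ((xr (xr (xr (if p = 1 then 1 else 0) (if q = 1 then 2 else 0)) (if r = 1 then 4 else 0))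
      (if s = 1 then 8 else 0) : Fin 16) : ℕ) = p.val + 2 * q.val + 4 * r.val + 8 * s.val := by
  decide +kernel

namespace Base

variable {X : Type*} [Group X] (B : Base X)

theorem E_pow (v : ↥B.P) (n : ℕ) : B.E (v ^ n) = if n % 2 = 1 then B.E v else 0 := by
  induction n with
  | zero => simp [B.E_one]
  | succ n ih =>
    rw [pow_succ, B.map_mul, ih]
    rcases Nat.mod_two_eq_zero_or_one n with h | h
    · rw [h, if_neg (by norm_num), (xr_facts.1 _).2.1, if_pos (by omega)]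
    · rw [h, if_pos rfl, (xr_facts.1 _).1, if_neg (by omega)]

variable [Finite X]

/-- Generators of a commutative subgroup adapted to the element of order 3. -/
theorem exists_frame (d : Dim) (Bq : Quad) (hd : Shape d Bq) (hN4 : ∀ n ∈ B.N, n ^ 4 = 1)
    {M : Subgroup X} (hMP : M ≤ B.P) (hNM : B.N ≤ M) (hMy : ∀ m ∈ M, B.y * m * B.y⁻¹ ∈ M)
    (hMc : ∀ a ∈ M, ∀ b ∈ M, a * b = b * a)
    (hy3 : ∀ m ∈ M, B.y * (B.y * (B.y * m * B.y⁻¹) * B.y⁻¹) * B.y⁻¹ = m)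
    (hcodes : ∀ b : Fin 16, (d.m0 = 1 → b.val % 2 = 0) → ∃ v : ↥B.P, (v : X) ∈ M ∧ B.E v = b)
    (heven : ∀ v : ↥B.P, (v : X) ∈ M → d.m0 = 1 → (B.E v).val % 2 = 0)
    (hexp : ∀ b : Fin 16, b.val % 2 = 0 →
      ∃ v : ↥B.P, (v : X) ∈ M ∧ B.E v = b ∧ (v : X) ^ d.m1 = 1)
    (hexp0 : ∀ v : ↥B.P, (v : X) ∈ M → B.E v = 1 → (v : X) ^ d.m0 = 1)
    (hsq : ∀ n ∈ B.N, ∃ v ∈ M, v * v = n)
    (hsize : d.size ≤ Nat.card B.N * (if d.m0 = 1 then 8 else 16)) :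
    ∃ F : Frame X d, (∀ a < d.size, ∀ b < d.size, F.val a = F.val b → a = b) ∧
      (∀ a, F.val a ∈ M) ∧ (∀ m ∈ M, ∃ a < d.size, F.val a = m) ∧
      (∀ (a : ℕ) (h : F.val a ∈ B.P), (B.E ⟨F.val a, h⟩).val = d.code a) ∧
      (B.y * F.u0 * B.y⁻¹ = F.val Bq.1 ∧ B.y * F.u1 * B.y⁻¹ = F.val Bq.2.1 ∧
        B.y * F.u2 * B.y⁻¹ = F.val Bq.2.2.1 ∧ B.y * F.u3 * B.y⁻¹ = F.val Bq.2.2.2) := by
  classical
  obtain ⟨hd0, hm2, hm3, hB, hd1, hd2, hd3, hall⟩ := hd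
  set β : X → X := fun m => B.y * m * B.y⁻¹ with hβ
  have hEβ : ∀ v : ↥B.P, B.E (B.cj B.y v) = act B.k true (B.E v) := B.acts_y
  -- orbit products
  have hfix : ∀ v : ↥B.P, (v : X) ∈ M → ∃ f : ↥B.P, (f : X) ∈ M ∧
      (f : X) = v * β v * β (β v) ∧ β f = f ∧
      B.E f = xr (xr (B.E v) (act B.k true (B.E v))) (act B.k true (act B.k true (B.E v))) := by
    intro v hv
    have h1 := hMy _ hv
    have h2 := hMy _ h1
    refine ⟨v * B.cj B.y v * B.cj B.y (B.cj B.y v), mul_mem (mul_mem hv h1) h2, rfl,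
      orbit_prod_fixed (hMc _ h1 _ hv) (hMc _ h2 _ hv) (hy3 _ hv), ?_⟩
    rw [B.map_mul, B.map_mul, hEβ, hEβ, hEβ]
  have hfixed : ∀ a : Fin 16, act B.k true a = a → (d.m0 = 1 → a.val % 2 = 0) →
      ∃ f : ↥B.P, (f : X) ∈ M ∧ β f = f ∧ B.E f = a := by
    intro a ha hae
    obtain ⟨v, hv, rfl⟩ := hcodes a hae
    obtain ⟨f, hf, -, hfy, hfE⟩ := hfix v hv
    refine ⟨f, hf, hfy, ?_⟩
    rw [hfE, ha, ha, (xr_facts.1 _).1, (xr_facts.1 _).2.1]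
  obtain ⟨_, _, _, h01, h02, h04, h08, _⟩ := act_facts.2.2.2 B.k 0
  -- the four generators
  obtain ⟨g0, hg0M, hg0y, hg0E, hg0o⟩ : ∃ g : ↥B.P, (g : X) ∈ M ∧ β g = g ∧
      (B.E g).val = d.code d.gens.1 ∧ (g : X) ^ d.m0 = 1 := by
    rcases hd0 with ⟨h1, h2⟩ | ⟨h1, h2⟩
    · exact ⟨1, M.one_mem, by simp [hβ], by rw [B.E_one, h2]; rfl, one_pow _⟩
    · obtain ⟨f, hf, hfy, hfE⟩ := hfixed 1 h01 (fun h => absurd h h1)
      exact ⟨f, hf, hfy, by rw [hfE, h2]; rfl, hexp0 f hf hfE⟩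
  have hβpow : ∀ (m : X) (n : ℕ), β m ^ n = β (m ^ n) := fun m n => conj_pow
  have hpow3 : ∀ {v f : X}, v ∈ M → f = v * β v * β (β v) → v ^ d.m1 = 1 → f ^ d.m1 = 1 := by
    intro v f hv hfe ho
    have h1 := hMy _ hv
    have h2 := hMy _ h1
    rw [hfe, (Commute.mul_left (show Commute v (β (β v)) from hMc _ hv _ h2)
        (show Commute (β v) (β (β v)) from hMc _ h1 _ h2)).mul_pow,
      Commute.mul_pow (hMc _ hv _ h1), hβpow, hβpow, hβpow, ho]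
    simp [hβ]
  obtain ⟨g1, hg1M, hg1y, hg1E, hg1o⟩ : ∃ g : ↥B.P, (g : X) ∈ M ∧ β g = g ∧ B.E g = 2 ∧
      (g : X) ^ d.m1 = 1 := by
    obtain ⟨v, hv, hvE, ho⟩ := hexp 2 rfl
    obtain ⟨f, hf, hfd, hfy, hfE⟩ := hfix v hv
    refine ⟨f, hf, hfy, ?_, hpow3 hv hfd ho⟩
    rw [hfE, hvE, h02, h02, (xr_facts.1 _).1, (xr_facts.1 _).2.1]
  obtain ⟨v, hv, hvE, hvo⟩ := hexp 4 rfl
  obtain ⟨f, hf, hfd, hfy, hfE⟩ := hfix v hv
  set g2 : ↥B.P := v * v * v * f⁻¹ with hg2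
  have hg2M : (g2 : X) ∈ M := mul_mem (mul_mem (mul_mem hv hv) hv) (inv_mem hf)
  have hg2E : B.E g2 = 4 := by
    rw [hg2, B.map_mul, B.map_mul, B.map_mul, B.E_inv, hfE, hvE, h04, h08]
    rfl
  set g3 : ↥B.P := B.cj B.y g2 with hg3
  have hg3M : (g3 : X) ∈ M := hMy _ hg2M
  have hg3E : B.E g3 = 8 := by rw [hg3, hEβ, hg2E, h04]
  have hg3y : β g3 = (g2 : X)⁻¹ * (g3 : X)⁻¹ := by
    have hm : ∀ a b, β (a * b) = β a * β b := fun a b => by simp only [hβ]; group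
    have hi : ∀ a, β a⁻¹ = (β a)⁻¹ := fun a => by simp only [hβ]; group
    letI : CommGroup M :=
      { (inferInstance : Group M) with mul_comm := fun a b => Subtype.ext (hMc _ a.2 _ b.2) }
    have key : ∀ a b c : M, a * a * a * (a * b * c)⁻¹ * (b * b * b * (a * b * c)⁻¹) *
        (c * c * c * (a * b * c)⁻¹) = 1 := by
      intro a b c
      simp only [← div_eq_mul_inv, div_mul_div_comm, div_eq_one]
      ac_rfl
    have h1 := hMy _ hv
    have h2 := hMy _ h1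
    have hk : (v : X) * v * v * ((v : X) * β v * β (β v))⁻¹ *
        (β v * β v * β v * ((v : X) * β v * β (β v))⁻¹) *
        (β (β v) * β (β v) * β (β v) * ((v : X) * β v * β (β v))⁻¹) = 1 :=
      congrArg Subtype.val (key ⟨v, hv⟩ ⟨_, h1⟩ ⟨_, h2⟩)
    rw [← hfd] at hk
    show β (β (g2 : X)) = (g2 : X)⁻¹ * (β (g2 : X))⁻¹
    rw [← mul_inv_rev, eq_inv_iff_mul_eq_one]
    rw [show (g2 : X) = v * v * v * (f : X)⁻¹ from rfl]
    simp only [hm, hi, hfy]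
    refine Eq.trans ?_ hk
    have hA : (v : X) * v * v * (f : X)⁻¹ ∈ M := mul_mem (mul_mem (mul_mem hv hv) hv) (inv_mem hf)
    have hB : β v * β v * β v * (f : X)⁻¹ ∈ M := mul_mem (mul_mem (mul_mem h1 h1) h1) (inv_mem hf)
    have hC : β (β v) * β (β v) * β (β v) * (f : X)⁻¹ ∈ M :=
      mul_mem (mul_mem (mul_mem h2 h2) h2) (inv_mem hf)
    exact congrArg Subtype.val (show (⟨_, hC⟩ : M) * (⟨_, hB⟩ * ⟨_, hA⟩) =
      ⟨_, hA⟩ * ⟨_, hB⟩ * ⟨_, hC⟩ by ac_rfl)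
  have hcm : ∀ {a b : X}, a ∈ M → b ∈ M → Commute a b := fun ha hb => hMc _ ha _ hb
  have h2e : ∀ {g : ↥B.P} {c : Fin 16}, B.E g = c → c.val % 2 = 0 → (B.E g).val % 2 = 0 :=
    fun h hc => h ▸ hc
  have hg2o : (g2 : X) ^ d.m1 = 1 := by
    rw [show (g2 : X) = v * v * v * (f : X)⁻¹ from rfl,
      (hcm (mul_mem (mul_mem hv hv) hv) (inv_mem hf)).mul_pow,
      (hcm (mul_mem hv hv) hv).mul_pow, (hcm hv hv).mul_pow, inv_pow, hvo, hpow3 hv hfd hvo]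
    simp
  have hg3o : (g3 : X) ^ d.m1 = 1 := by
    rw [show (g3 : X) = β g2 from rfl, hβpow, hg2o]
    simp [hβ]
  let F : Frame X d :=
    { u0 := g0, u1 := g1, u2 := g2, u3 := g3
      o0 := hg0o
      o1 := hg1o
      o2 := hm2 ▸ hg2o
      o3 := hm3 ▸ hg3o
      c01 := hcm hg0M hg1M, c02 := hcm hg0M hg2M, c03 := hcm hg0M hg3M
      c12 := hcm hg1M hg2M, c13 := hcm hg1M hg3M, c23 := hcm hg2M hg3M }
  have hval : ∀ a, F.val a ∈ M := fun a =>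
    mul_mem (mul_mem (mul_mem (pow_mem hg0M _) (pow_mem hg1M _)) (pow_mem hg2M _)) (pow_mem hg3M _)
  have hcode : ∀ (a : ℕ) (h : F.val a ∈ B.P), (B.E ⟨F.val a, h⟩).val = d.code a := by
    intro a h
    rw [show (⟨F.val a, h⟩ : ↥B.P) =
      g0 ^ (d.dig a).1 * g1 ^ (d.dig a).2.1 * g2 ^ (d.dig a).2.2.1 * g3 ^ (d.dig a).2.2.2 from
      Subtype.ext rfl]
    rw [B.map_mul, B.map_mul, B.map_mul, B.E_pow, B.E_pow, B.E_pow, B.E_pow, hg1E, hg2E, hg3E]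
    have e0 : (if (d.dig a).1 % 2 = 1 then B.E g0 else 0) =
        (if (⟨(d.dig a).1 % 2, Nat.mod_lt _ two_pos⟩ : Fin 2) = 1 then (1 : Fin 16) else 0) := by
      rcases hd0 with ⟨h1, -⟩ | ⟨-, h2⟩
      · have : (d.dig a).1 = 0 := by simp [Dim.dig, h1, Nat.mod_one]
        rw [this]; rfl
      · rcases Nat.mod_two_eq_zero_or_one (d.dig a).1 with hp | hp
        · rw [if_neg (by omega), if_neg (by simp [hp])]
        · rw [if_pos hp, if_pos (by simp [hp])]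
          exact Fin.ext (hg0E.trans h2)
    have ei : ∀ (n : ℕ) (c : Fin 16), (if n % 2 = 1 then c else 0) =
        if (⟨n % 2, Nat.mod_lt _ two_pos⟩ : Fin 2) = 1 then c else 0 := by
      intro n c; simp only [Fin.ext_iff, Fin.val_one]
    rw [e0, ei, ei, ei, code_digits]
    rfl
  have hstep : ∀ m ∈ M, ∃ a < d.size, ∃ n ∈ B.N, m = F.val a * n := by
    intro m hm
    obtain ⟨a0, ha0, hca⟩ := hall (B.E ⟨m, hMP hm⟩) (fun h => heven ⟨m, hMP hm⟩ hm h)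
    refine ⟨a0, List.mem_range.1 ha0, (F.val a0)⁻¹ * m, (B.eq_zero ((⟨F.val a0, hMP (hval a0)⟩ : ↥B.P)⁻¹ *
      ⟨m, hMP hm⟩)).1 ?_, (mul_inv_cancel_left _ _).symm⟩
    rw [B.map_mul, B.E_inv, show B.E ⟨F.val a0, hMP (hval a0)⟩ = B.E ⟨m, hMP hm⟩ from
      Fin.ext ((hcode a0 _).trans hca), (xr_facts.1 _).1]
  have hroot : ∀ n ∈ B.N, ∃ a < d.size, ∃ n' ∈ B.N, n = F.val a * (n' * n') := by
    intro n hn
    obtain ⟨w, hw, rfl⟩ := hsq n hn
    obtain ⟨a, -, n', hn', rfl⟩ := hstep w hw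
    exact ⟨d.add a a, d.add_lt _ _, n', hn', by
      rw [F.val_add, (hcm (hNM hn') (hval a)).mul_mul_mul_comm]⟩
  have hsurj : ∀ m ∈ M, ∃ a < d.size, F.val a = m := by
    intro m hm
    obtain ⟨a0, -, n, hn, rfl⟩ := hstep m hm
    obtain ⟨a1, -, n1, hn1, rfl⟩ := hroot n hn
    obtain ⟨a2, -, n2, hn2, rfl⟩ := hroot n1 hn1
    refine ⟨d.add a0 (d.add a1 (d.add a2 a2)), d.add_lt _ _, ?_⟩
    have h4 : n2 * n2 * (n2 * n2) = 1 := by
      rw [← hN4 n2 hn2, show (4 : ℕ) = 2 + 2 from rfl, pow_add, pow_two]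
    rw [(hcm (mul_mem (hNM hn2) (hNM hn2)) (hval a2)).mul_mul_mul_comm, h4, mul_one, F.val_add,
      F.val_add, F.val_add]
  have hinj : ∀ a < d.size, ∀ b < d.size, F.val a = F.val b → a = b := by
    have hMcard : d.size ≤ Nat.card M := by
      refine hsize.trans ?_
      let S := {b : Fin 16 // d.m0 = 1 → b.val % 2 = 0}
      have hS : (if d.m0 = 1 then 8 else 16) = Nat.card S := by
        rw [Nat.card_eq_fintype_card, Fintype.card_subtype]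
        by_cases h : d.m0 = 1 <;> simp only [h, ↓reduceIte,
          false_implies, forall_const, Finset.filter_true] <;> rfl
      choose lift hlM hlE using fun b : S => hcodes b.1 b.2
      rw [hS, ← Nat.card_prod]
      refine Nat.card_le_card_of_injective
        (fun p : ↥B.N × S => (⟨(p.1 : X) * (lift p.2 : X), mul_mem (hNM p.1.2) (hlM p.2)⟩ : M)) ?_
      rintro ⟨n, b⟩ ⟨n', b'⟩ h
      have h' : (⟨(n : X), B.le n.2⟩ : ↥B.P) * lift b = ⟨(n' : X), B.le n'.2⟩ * lift b' :=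
        Subtype.ext (congrArg Subtype.val h :)
      have h1 := congrArg B.E h'
      rw [B.map_mul, B.map_mul, (B.eq_zero ⟨(n : X), B.le n.2⟩).2 n.2,
        (B.eq_zero ⟨(n' : X), B.le n'.2⟩).2 n'.2, (xr_facts.1 _).2.1,
        (xr_facts.1 _).2.1, hlE, hlE] at h1
      have hbb : b = b' := Subtype.ext h1
      subst hbb
      exact Prod.ext (Subtype.ext (congrArg Subtype.val (mul_right_cancel h') :)) rfl
    let φ : Fin d.size → M := fun a => ⟨F.val a, hval a⟩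
    have hφ : Function.Surjective φ := fun m => by
      obtain ⟨a, ha, h⟩ := hsurj m m.2
      exact ⟨⟨a, ha⟩, Subtype.ext h⟩
    have hφi : Function.Bijective φ := (Nat.bijective_iff_surjective_and_card φ).2
      ⟨hφ, le_antisymm (by rw [Nat.card_fin]; exact hMcard) (Nat.card_le_card_of_surjective φ hφ)⟩
    intro a ha b hb h
    exact congrArg Fin.val (hφi.1 (a₁ := ⟨a, ha⟩) (a₂ := ⟨b, hb⟩) (Subtype.ext h))
  refine ⟨F, hinj, hval, hsurj, hcode, ?_⟩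
  obtain ⟨v0, v1, v2, v3⟩ := val_gens F
  rw [hB]
  refine ⟨hg0y.trans v0.symm, hg1y.trans v1.symm, v3.symm, ?_⟩
  show β g3 = F.val (d.neg (d.enc (0, 0, 1, 1)))
  rw [hg3y, F.val_neg, F.val_enc, (hcm (inv_mem hg2M) (inv_mem hg3M)).eq, ← mul_inv_rev]
  simp [Frame.prod, F]

end Base

end CfsgLib.L32Radical
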