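import Cfsg.Agent.L32Radical.Base
import Cfsg.Agent.Linear.Basic
import Cfsg.Agent.Linear.SmallFields

/-!
# Generation of `L₃(2)` by the two generators
-/

set_option autoImplicit false
set_option linter.style.haveILetI false

namespace CfsgLib.L32Radical

open Cfsg Matrix CfsgLib.Linear

/-- Words representing the elements of `L₃(2)`. -/
def words : List (List Bool) := [[],
  [false],
  [true],
  [true, false],
  [false, true],
  [true, true],
  [false, true, false],
  [true, true, false],
  [true, false, true],
  [false, true, true],
  [true, false, true, false],
  [false, true, true, false],
  [false, true, false, true],
  [true, true, false, true],
  [true, false, true, true],
  [false, true, false, true, false],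
  [true, true, false, true, false],
  [true, false, true, true, false],
  [true, false, true, false, true],
  [false, true, true, false, true],
  [false, true, false, true, true],
  [true, true, false, true, true],
  [true, false, true, false, true, false],
  [false, true, true, false, true, false],
  [false, true, false, true, true, false],
  [true, true, false, true, true, false],
  [false, true, false, true, false, true],
  [true, true, false, true, false, true],
  [true, false, true, true, false, true],
  [true, false, true, false, true, true],
  [false, true, true, false, true, true],
  [false, true, false, true, false, true, false],
  [true, true, false, true, false, true, false],
  [true, false, true, true, false, true, false],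
  [true, false, true, false, true, true, false],
  [false, true, true, false, true, true, false],
  [true, false, true, false, true, false, true],
  [false, true, true, false, true, false, true],
  [false, true, false, true, true, false, true],
  [true, true, false, true, true, false, true],
  [false, true, false, true, false, true, true],
  [true, true, false, true, false, true, true],
  [true, false, true, true, false, true, true],
  [true, false, true, false, true, false, true, false],
  [false, true, true, false, true, false, true, false],
  [false, true, false, true, true, false, true, false],
  [true, true, false, true, true, false, true, false],
  [false, true, false, true, false, true, true, false],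
  [true, true, false, true, false, true, true, false],
  [true, false, true, true, false, true, true, false],
  [false, true, false, true, false, true, false, true],
  [true, true, false, true, false, true, false, true],
  [true, false, true, true, false, true, false, true],
  [true, false, true, false, true, true, false, true],
  [false, true, true, false, true, true, false, true],
  [true, false, true, false, true, false, true, true],
  [false, true, true, false, true, false, true, true],
  [false, true, false, true, true, false, true, true],
  [true, true, false, true, true, false, true, true],
  [true, true, false, true, false, true, false, true, false],
  [true, false, true, true, false, true, false, true, false],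
  [true, false, true, false, true, true, false, true, false],
  [false, true, true, false, true, true, false, true, false],
  [true, false, true, false, true, false, true, true, false],
  [false, true, true, false, true, false, true, true, false],
  [false, true, false, true, true, false, true, true, false],
  [false, true, true, false, true, false, true, false, true],
  [false, true, false, true, true, false, true, false, true],
  [true, true, false, true, true, false, true, false, true],
  [false, true, false, true, false, true, true, false, true],
  [true, true, false, true, false, true, true, false, true],
  [true, false, true, true, false, true, true, false, true],
  [false, true, false, true, false, true, false, true, true],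
  [true, true, false, true, false, true, false, true, true],
  [true, false, true, true, false, true, false, true, true],
  [true, false, true, false, true, true, false, true, true],
  [false, true, true, false, true, false, true, false, true, false],
  [false, true, false, true, true, false, true, false, true, false],
  [true, true, false, true, true, false, true, false, true, false],
  [false, true, false, true, false, true, true, false, true, false],
  [true, true, false, true, false, true, true, false, true, false],
  [true, false, true, true, false, true, true, false, true, false],
  [false, true, false, true, false, true, false, true, true, false],
  [true, true, false, true, false, true, false, true, true, false],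
  [true, false, true, true, false, true, false, true, true, false],
  [true, false, true, false, true, true, false, true, true, false],
  [true, false, true, true, false, true, false, true, false, true],
  [true, false, true, false, true, true, false, true, false, true],
  [false, true, true, false, true, true, false, true, false, true],
  [true, false, true, false, true, false, true, true, false, true],
  [false, true, false, true, true, false, true, true, false, true],
  [false, true, true, false, true, false, true, false, true, true],
  [true, true, false, true, true, false, true, false, true, true],
  [false, true, false, true, false, true, true, false, true, true],
  [true, true, false, true, false, true, true, false, true, true],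
  [true, false, true, true, false, true, false, true, false, true, false],
  [true, false, true, false, true, true, false, true, false, true, false],
  [false, true, true, false, true, true, false, true, false, true, false],
  [true, false, true, false, true, false, true, true, false, true, false],
  [false, true, false, true, true, false, true, true, false, true, false],
  [false, true, true, false, true, false, true, false, true, true, false],
  [true, true, false, true, true, false, true, false, true, true, false],
  [false, true, false, true, false, true, true, false, true, true, false],
  [true, true, false, true, false, true, true, false, true, true, false],
  [false, true, false, true, true, false, true, false, true, false, true],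
  [true, true, false, true, true, false, true, false, true, false, true],
  [false, true, false, true, false, true, true, false, true, false, true],
  [true, true, false, true, false, true, true, false, true, false, true],
  [true, false, true, true, false, true, true, false, true, false, true],
  [false, true, false, true, false, true, false, true, true, false, true],
  [true, true, false, true, false, true, false, true, true, false, true],
  [true, false, true, false, true, true, false, true, true, false, true],
  [true, false, true, true, false, true, false, true, false, true, true],
  [false, true, true, false, true, true, false, true, false, true, true],
  [true, false, true, false, true, false, true, true, false, true, true],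
  [false, true, false, true, true, false, true, false, true, false, true, false],
  [true, true, false, true, true, false, true, false, true, false, true, false],
  [false, true, false, true, false, true, true, false, true, false, true, false],
  [true, true, false, true, false, true, true, false, true, false, true, false],
  [true, false, true, true, false, true, true, false, true, false, true, false],
  [false, true, false, true, false, true, false, true, true, false, true, false],
  [true, true, false, true, false, true, false, true, true, false, true, false],
  [true, false, true, false, true, true, false, true, true, false, true, false],
  [true, false, true, true, false, true, false, true, false, true, true, false],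
  [false, true, true, false, true, true, false, true, false, true, true, false],
  [true, false, true, false, true, false, true, true, false, true, true, false],
  [true, false, true, false, true, true, false, true, false, true, false, true],
  [false, true, true, false, true, true, false, true, false, true, false, true],
  [true, false, true, false, true, false, true, true, false, true, false, true],
  [false, true, false, true, true, false, true, true, false, true, false, true],
  [false, true, true, false, true, false, true, false, true, true, false, true],
  [false, true, false, true, false, true, true, false, true, true, false, true],
  [true, true, false, true, false, true, true, false, true, true, false, true],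
  [false, true, false, true, true, false, true, false, true, false, true, true],
  [true, true, false, true, true, false, true, false, true, false, true, true],
  [true, false, true, true, false, true, true, false, true, false, true, true],
  [false, true, false, true, false, true, false, true, true, false, true, true],
  [true, true, false, true, false, true, false, true, true, false, true, true],
  [true, false, true, false, true, true, false, true, false, true, false, true, false],
  [false, true, true, false, true, true, false, true, false, true, false, true, false],
  [true, false, true, false, true, false, true, true, false, true, false, true, false],
  [false, true, false, true, true, false, true, true, false, true, false, true, false],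
  [false, true, true, false, true, false, true, false, true, true, false, true, false],
  [false, true, false, true, false, true, true, false, true, true, false, true, false],
  [true, true, false, true, false, true, true, false, true, true, false, true, false],
  [false, true, false, true, true, false, true, false, true, false, true, true, false],
  [true, true, false, true, true, false, true, false, true, false, true, true, false],
  [true, false, true, true, false, true, true, false, true, false, true, true, false],
  [false, true, false, true, false, true, false, true, true, false, true, true, false],
  [true, true, false, true, false, true, false, true, true, false, true, true, false],
  [false, true, false, true, false, true, true, false, true, false, true, false, true],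
  [true, true, false, true, false, true, true, false, true, false, true, false, true],
  [false, true, false, true, false, true, false, true, true, false, true, false, true],
  [true, true, false, true, false, true, false, true, true, false, true, false, true],
  [true, false, true, false, true, true, false, true, true, false, true, false, true],
  [true, false, true, true, false, true, false, true, false, true, true, false, true],
  [true, false, true, false, true, true, false, true, false, true, false, true, true],
  [false, true, true, false, true, true, false, true, false, true, false, true, true],
  [false, true, false, true, true, false, true, true, false, true, false, true, true],
  [false, true, true, false, true, false, true, false, true, true, false, true, true],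
  [true, true, false, true, false, true, true, false, true, false, true, false, true, false],
  [true, false, true, false, true, true, false, true, true, false, true, false, true, false],
  [true, false, true, true, false, true, false, true, false, true, true, false, true, false],
  [false, true, true, false, true, true, false, true, false, true, false, true, true, false],
  [false, true, false, true, true, false, true, true, false, true, false, true, true, false],
  [false, true, true, false, true, false, true, false, true, true, false, true, true, false],
  [false, true, false, true, true, false, true, false, true, false, true, true, false, true],
  [false, true, false, true, true, false, true, false, true, false, true, true, false, true, false]]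

set_option maxRecDepth 100000 in
theorem words_spec : ∀ k : Fin 6, (words.map fun w => (w.foldr (fun g z => act k g z) (2 : Fin 16),
    w.foldr (fun g z => act k g z) (4 : Fin 16), w.foldr (fun g z => act k g z) (8 : Fin 16))).Nodup ∧
      words.length = 168 := by
  decide +kernel

namespace Base

variable {X : Type*} [Group X] [Finite X] (B : Base X)

/-- The two generators and the 2-group generate. -/
theorem top_of_gens (hi : B.P.index = 168) (H : Subgroup X) (hP : B.P ≤ H) (hx : B.x ∈ H)
    (hy : B.y ∈ H) : H = ⊤ := by
  classical
  have hw : ∀ w : List Bool, wordVal B.x B.y w ∈ H := by
    intro w
    induction w with
    | nil => exact H.one_mem
    | cons g l ih => cases g; exacts [mul_mem hx ih, mul_mem hy ih]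
  obtain ⟨hnd, hlen⟩ := words_spec B.k
  have hv : ∀ a : Fin 16, a.val % 2 = 0 → ∃ v, B.E v = a := fun a ha => by
    rcases B.range with h | ⟨-, h⟩
    exacts [h a, (h a).1 ha]
  have hsep : ∀ w w' : List Bool,
      ((wordVal B.x B.y w : X) : X ⧸ B.P) = (wordVal B.x B.y w' : X) →
      ∀ a : Fin 16, a.val % 2 = 0 →
        w.foldr (fun g z => act B.k g z) a = w'.foldr (fun g z => act B.k g z) a := by
    intro w w' h a ha
    obtain ⟨v, rfl⟩ := hv a ha
    have h2 := B.acts_mul (B.acts_word w) (B.acts_mem (QuotientGroup.eq.1 h)) v
    rw [mul_inv_cancel_left] at h2
    exact h2.symm.trans (B.acts_word w' v)
  haveI := B.normalP
  let f : Fin words.length → ↥(H.map (QuotientGroup.mk' B.P)) := fun i =>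
    ⟨_, wordVal B.x B.y words[i], hw _, rfl⟩
  have hf : Function.Injective f := by
    intro i j h
    have h' : ((wordVal B.x B.y words[i] : X) : X ⧸ B.P) = (wordVal B.x B.y words[j] : X) :=
      congrArg Subtype.val h
    refine Fin.ext ((List.Nodup.getElem_inj_iff hnd (hi := by simp) (hj := by simp)).1 ?_)
    simp only [List.getElem_map]
    rw [Prod.mk.injEq, Prod.mk.injEq]
    exact ⟨hsep _ _ h' 2 rfl, hsep _ _ h' 4 rfl, hsep _ _ h' 8 rfl⟩
  haveI := B.normalP
  have hcard := Nat.card_le_card_of_injective f hf
  rw [Nat.card_fin, hlen, ← hi, Subgroup.index_eq_card] at hcard
  have htop := Subgroup.eq_top_of_le_card _ hcard
  rw [eq_top_iff]
  intro z _
  obtain ⟨h, hh, hz⟩ := (htop.symm ▸ Subgroup.mem_top (QuotientGroup.mk' B.P z) :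
    QuotientGroup.mk' B.P z ∈ H.map (QuotientGroup.mk' B.P))
  have h1 := mul_mem hh (hP (QuotientGroup.eq.1 hz))
  rwa [mul_inv_cancel_left] at h1

end Base

theorem relations_two :
    let a : Matrix (Fin 3) (Fin 3) (ZMod 2) := !![0,1,0; 1,0,0; 0,0,1]
    let b : Matrix (Fin 3) (Fin 3) (ZMod 2) := !![1,0,0; 0,0,1; 0,1,1]
    a.det = 1 ∧ b.det = 1 ∧ a * a = 1 ∧ b * b * b = 1 ∧
      a * b * (a * b) * (a * b) * (a * b) * (a * b) * (a * b) * (a * b) = 1 ∧
      a * b * a * b * b * (a * b * a * b * b) * (a * b * a * b * b) * (a * b * a * b * b) = 1 ∧
      b ≠ 1 := by
  decide +kernel

/-- Standard generators of `L₃(2)`. -/
theorem exists_gens_psl {F : Type*} [Field F] [Fintype F] (hF : Fintype.card F = 2) :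
    Nat.card (ProjectiveSpecialLinearGroup (Fin 3) F) = 168 ∧
    ∃ a b : ProjectiveSpecialLinearGroup (Fin 3) F, a * a = 1 ∧ b ^ 3 = 1 ∧ b ≠ 1 ∧
      (a * b) ^ 7 = 1 ∧ (a * b * a * b * b) ^ 4 = 1 := by
  classical
  refine ⟨?_, ?_⟩
  · have hGL : Nat.card (GL (Fin 3) F) = 168 := by
      rw [Matrix.card_GL_field, hF]
      simp [Fin.prod_univ_three]
    have hSL : Nat.card (SpecialLinearGroup (Fin 3) F) = 168 := by
      have h := card_SL_mul (n := Fin 3) (F := F)
      rw [hGL, hF] at h
      norm_num at h
      rw [Nat.card_eq_fintype_card]
      omega
    have h := card_PSL_mul (n := Fin 3) (F := F)
    rw [hSL, hF, Fintype.card_fin] at h
    norm_num at h
    rw [Nat.card_eq_fintype_card]
    omega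
  haveI : CharP F 2 := by
    haveI := Fact.mk Nat.prime_two
    exact charP_of_card_eq_prime hF
  let φ : ZMod 2 →+* F := ZMod.castHom dvd_rfl F
  obtain ⟨ha, hb, r1, r2, r3, r4, r5⟩ := relations_two
  let Ψ : SpecialLinearGroup (Fin 3) (ZMod 2) →* ProjectiveSpecialLinearGroup (Fin 3) F :=
    (QuotientGroup.mk' (Subgroup.center (SpecialLinearGroup (Fin 3) F))).comp
      (SpecialLinearGroup.map φ)
  let a : SpecialLinearGroup (Fin 3) (ZMod 2) := ⟨_, ha⟩
  let b : SpecialLinearGroup (Fin 3) (ZMod 2) := ⟨_, hb⟩
  refine ⟨Ψ a, Ψ b, ?_, ?_, ?_, ?_, ?_⟩
  · rw [← map_mul, show a * a = 1 from Subtype.ext r1, map_one]
  · rw [← map_pow, show b ^ 3 = 1 from Subtype.ext (by
      rw [pow_succ, pow_succ, pow_one]; exact r2), map_one]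
  · intro h
    have h' : SpecialLinearGroup.map φ b ∈ Subgroup.center (SpecialLinearGroup (Fin 3) F) :=
      (QuotientGroup.eq_one_iff _).1 h
    rw [Matrix.SpecialLinearGroup.mem_center_iff] at h'
    obtain ⟨r, -, hr⟩ := h'
    have h21 := congrFun (congrFun hr 2) 1
    rw [Matrix.scalar_apply, Matrix.diagonal_apply_ne _ (by decide)] at h21
    exact zero_ne_one (h21.trans (map_one φ))
  · rw [← map_mul, ← map_pow, show (a * b) ^ 7 = 1 from Subtype.ext (by
      simp only [pow_succ, pow_zero, one_mul]; exact r3), map_one]
  · simp only [← map_mul, ← map_pow]
    rw [show (a * b * a * b * b) ^ 4 = 1 from Subtype.ext (by
      simp only [pow_succ, pow_zero, one_mul]; exact r4), map_one]

end CfsgLib.L32Radical
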