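import Cfsg.Agent.L32Radical.Three

/-!
# The faithful layers are impossible
-/

set_option autoImplicit false
set_option linter.style.haveILetI false

namespace CfsgLib.L32Radical

open Cfsg CfsgLib.GLFourTwo CfsgLib.GLFourTwo.A5Mod

theorem polar_zero {q : Fin 16 → Fin 16} {a b : Fin 16} (h : q (xr a b) = xr (q a) (q b)) :
    polar q a b = 0 := by
  rw [polar, h, (xr_facts.1 _).1]

theorem inj_of_zero {q : Fin 16 → Fin 16} {a b : Fin 16} (hab : q (xr a b) = xr (q a) (q b))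
    (h : q a = q b) : q (xr a b) = 0 := by
  rw [hab, h, (xr_facts.1 _).1]

namespace Base

variable {X : Type*} [Group X] (B : Base X)

theorem card_even : Nat.card {a : Fin 16 // a.val % 2 = 0} = 8 := by
  rw [Nat.card_eq_fintype_card, Fintype.card_subtype]
  decide

variable [Finite X]

theorem card_evens : Nat.card B.N * 8 ≤ Nat.card B.evens := by
  choose lift hl hE using fun b : {a : Fin 16 // a.val % 2 = 0} => B.evens_cases b.1 b.2
  rw [← card_even, ← Nat.card_prod]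
  refine Nat.card_le_card_of_injective
    (fun p : ↥B.N × {a : Fin 16 // a.val % 2 = 0} => (⟨(p.1 : X) * (lift p.2 : X),
      mul_mem (B.N_le_evens p.1.2) (hl p.2)⟩ : B.evens)) ?_
  rintro ⟨n, b⟩ ⟨n', b'⟩ h
  have h' : (⟨(n : X), B.le n.2⟩ : ↥B.P) * lift b = ⟨(n' : X), B.le n'.2⟩ * lift b' :=
    Subtype.ext (congrArg Subtype.val h :)
  have h1 := congrArg B.E h'
  rw [B.map_mul, B.map_mul, (B.eq_zero ⟨(n : X), B.le n.2⟩).2 n.2,
    (B.eq_zero ⟨(n' : X), B.le n'.2⟩).2 n'.2, (xr_facts.1 _).2.1, (xr_facts.1 _).2.1, hE, hE] at h1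
  obtain rfl : b = b' := Subtype.ext h1
  exact Prod.ext (Subtype.ext (congrArg Subtype.val (mul_right_cancel h') :)) rfl

/-- Trivial squares on the even part give a large elementary abelian subgroup. -/
theorem false_of_evens (hr : SectionalPRankLE 2 4 X) (hN : 4 ≤ Nat.card B.N)
    (h : ∀ v : ↥B.P, (B.E v).val % 2 = 0 → (v : X) * v = 1) : False := by
  have he : ∀ m ∈ B.evens, m * m = 1 := fun m hm => h ⟨m, hm.1⟩ hm.2
  have hinv : ∀ m ∈ B.evens, m⁻¹ = m := fun m hm => inv_eq_of_mul_eq_one_right (he m hm)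
  have h16 := Cfsg.Agent.S4400.card_le_of_hom hr B.evens B.evens.subtype B.evens
    (by rw [Subgroup.range_subtype])
    (fun a ha b hb => by rw [← hinv _ (mul_mem ha hb), mul_inv_rev, hinv a ha, hinv b hb])
    fun a ha => by rw [pow_two]; exact he a ha
  have := B.card_evens
  have := Nat.mul_le_mul hN (le_refl 8)
  norm_num at h16
  omega

omit [Finite X] in
theorem pow_four_eq_one (L : B.Central) (v : ↥B.P) : (v : X) ^ 4 = 1 := by
  rw [show (4 : ℕ) = 2 * 2 from rfl, pow_mul, pow_two, pow_two]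
  exact L.exp _ (B.sq _ v.2)

omit [Finite X] in
/-- An element inducing the square of an element with a fixed code outside its image squares into
the even part, when the odd elements invert it. -/
theorem square_mem_evens (_L : B.Central)
    (hinv : ∀ z ∈ B.P, z ∉ B.evens → ∀ m ∈ B.evens, z * m * z⁻¹ = m⁻¹)
    (hMc : ∀ a ∈ B.evens, ∀ b ∈ B.evens, a * b = b * a)
    (hsq : ∀ n ∈ B.N, ∃ v ∈ B.evens, v * v = n)
    (hzero : ∀ v : ↥B.P, (B.E v).val % 2 = 0 → (v : X) * v = 1 → B.E v = 0)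
    {z : X} {f : Fin 16 → Fin 16} (hz : B.Acts z f) (hzP : z * z ∈ B.P)
    (hzM : ∀ m ∈ B.evens, z * m * z⁻¹ ∈ B.evens)
    (hf : ∃ h : Fin 16, h.val % 2 = 0 ∧ f h = h ∧ ∀ r : Fin 16, r.val % 2 = 0 → xr r (f r) ≠ h) :
    z * z ∈ B.evens := by
  by_contra hodd
  obtain ⟨h, hev, hfh, hout⟩ := hf
  obtain ⟨v, hv, rfl⟩ := B.evens_cases h hev
  have hn : ((v⁻¹ * B.cj z v : ↥B.P) : X) ∈ B.N := (B.eq_zero _).1 (by
    rw [B.map_mul, B.E_inv, hz, hfh, (xr_facts.1 _).1])
  obtain ⟨r, hr, hrn⟩ := hsq _ hn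
  have e1 : z * v * z⁻¹ = v * (r * r) := by
    rw [hrn]
    exact (mul_inv_cancel_left (v : X) _).symm
  have hzr := hzM r hr
  have h2 : (v : X) * (r * r) * (z * r * z⁻¹ * (z * r * z⁻¹)) = (v : X)⁻¹ := by
    rw [← hinv _ hzP hodd _ hv,
      show z * z * v * (z * z)⁻¹ = z * (z * v * z⁻¹) * z⁻¹ by group, e1,
      show z * ((v : X) * (r * r)) * z⁻¹ = z * v * z⁻¹ * (z * r * z⁻¹ * (z * r * z⁻¹)) by group, e1]
  set w : X := (v : X) * (r * (z * r * z⁻¹)) with hw
  have hwM : w ∈ B.evens := mul_mem hv (mul_mem hr hzr)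
  have hww : w * w = 1 := by
    rw [hw, Commute.mul_mul_mul_comm (hMc _ (mul_mem hr hzr) _ hv),
      Commute.mul_mul_mul_comm (hMc _ hzr _ hr), mul_assoc]
    rw [mul_assoc] at h2
    rw [h2, mul_inv_cancel]
  have hE := hzero ⟨w, hwM.1⟩ hwM.2 hww
  rw [show (⟨w, hwM.1⟩ : ↥B.P) = v * (⟨r, hr.1⟩ * B.cj z ⟨r, hr.1⟩) from rfl, B.map_mul, B.map_mul,
    hz] at hE
  exact hout _ hr.2 (xr_facts.2.1 _ _ hE).symm

/-- A layer which is a faithful module of order eight is impossible. -/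
theorem false_three (hr : SectionalPRankLE 2 4 X) (L : B.Central) {F : ↥B.N → Fin 16}
    (hFi : Function.Injective F) (hFm : ∀ a b, F (a * b) = xr (F a) (F b))
    (hFe : ∀ n, (F n).val % 2 = 0) (hN : Nat.card B.N = 8) {t : Fin 6} (ht : t = 0 ∨ t = 2)
    (hx : ∀ n : ↥B.N, F ⟨B.x * n * B.x⁻¹, B.normalN.conj_mem _ n.2 _⟩ = act t false (F n))
    (hy : ∀ n : ↥B.N, F ⟨B.y * n * B.y⁻¹, B.normalN.conj_mem _ n.2 _⟩ = act t true (F n)) :
    False := by
  classical
  obtain ⟨q, q0, qe, qq, qE, qnot, qpol⟩ := exists_quad L hFm hx hy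
  have hF1 : F 1 = 0 := by
    have h := hFm 1 1
    rw [one_mul, (xr_facts.1 _).1] at h
    exact h
  have hsq1 : ∀ v : ↥B.P, q (B.E v) = 0 → (v : X) * v = 1 := fun v h => by
    rw [qE, ← hF1] at h
    exact congrArg Subtype.val (hFi h)
  have hcomm : ∀ u v : ↥B.P, q (xr (B.E u) (B.E v)) = xr (q (B.E u)) (q (B.E v)) →
      (u : X) * v = v * u := fun u v h => by
    have h1 := qpol u v
    rw [polar_zero h, ← hF1] at h1
    have h2 : (v : X) * u * (v : X)⁻¹ * (u : X)⁻¹ = 1 := congrArg Subtype.val (hFi h1.symm)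
    calc (u : X) * v = 1 * ((u : X) * v) := (one_mul _).symm
      _ = v * u := by rw [← h2]; group
  -- squares of the even part cover the layer
  have hcover : (∀ a b : Fin 16, a.val % 2 = 0 → b.val % 2 = 0 → q a = q b → a = b) →
      ∀ n ∈ B.N, ∃ v ∈ B.evens, v * v = n := by
    intro hqi
    choose lift hl hE using fun b : {a : Fin 16 // a.val % 2 = 0} => B.evens_cases b.1 b.2
    let s : {a : Fin 16 // a.val % 2 = 0} → ↥B.N := fun b => ⟨_, B.sq _ (lift b).2⟩
    have hs : Function.Bijective s := (Nat.bijective_iff_injective_and_card s).2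
      ⟨fun b b' h => Subtype.ext (hqi _ _ b.2 b'.2 (by rw [← hE b, ← hE b', qE, qE]; exact congrArg F h)),
        by rw [card_even, hN]⟩
    intro n hn
    obtain ⟨b, hb⟩ := hs.2 ⟨n, hn⟩
    exact ⟨_, hl b, congrArg Subtype.val hb⟩
  have hev : ∀ b : Fin 16, b.val % 2 = 0 → ∀ a : Fin 16, a.val % 2 = 0 → (xr a b).val % 2 = 0 :=
    fun b hb a ha => even_facts.1 a b ha hb
  rcases three_cases ht q0 (fun a => by
      obtain ⟨v, hv⟩ : ∃ v, B.E v = a ∨ B.E v = even16 a := by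
        rcases B.range with h | ⟨-, h⟩
        · exact ⟨_, Or.inl (h a).choose_spec⟩
        · obtain ⟨v, hv⟩ := (h (even16 a)).1 (even16_facts.2.1 a).1
          exact ⟨v, Or.inr hv⟩
      rcases hv with hv | hv
      · rw [← hv, qE]; exact hFe _
      · by_cases hs : Function.Surjective B.E
        · obtain ⟨w, rfl⟩ := hs a; rw [qE]; exact hFe _
        · rw [qnot hs, ← hv, qE]; exact hFe _) qe qq with
    ⟨hk, hadd, hq1, hker⟩ | ⟨hk, hodd, hadd, hker⟩ | hzero
  · -- the squaring map is linear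
    have hqi : ∀ a b : Fin 16, a.val % 2 = 0 → b.val % 2 = 0 → q a = q b → a = b := by
      intro a b ha hb h
      rcases hker _ (inj_of_zero (hadd a b) h) with h1 | h1
      · exact xr_facts.2.1 _ _ h1
      · have := hev b hb a ha
        rw [h1] at this
        exact absurd this (by decide)
    have hPc : ∀ a ∈ B.P, ∀ b ∈ B.P, a * b = b * a := fun a ha b hb =>
      hcomm ⟨a, ha⟩ ⟨b, hb⟩ (hadd _ _)
    have hsq : ∀ n ∈ B.N, ∃ v ∈ B.P, v * v = n := fun n hn => by
      obtain ⟨v, hv, h⟩ := hcover hqi n hn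
      exact ⟨v, hv.1, h⟩
    have hexp : ∀ b : Fin 16, b.val % 2 = 0 →
        ∃ v : ↥B.P, (v : X) ∈ B.P ∧ B.E v = b ∧ (v : X) ^ 4 = 1 := fun b hb => by
      obtain ⟨v, -, hv⟩ := B.evens_cases b hb
      exact ⟨v, v.2, hv, B.pow_four_eq_one L v⟩
    have hexp0 : ∀ v : ↥B.P, (v : X) ∈ B.P → B.E v = 1 → (v : X) ^ 2 = 1 := fun v _ h => by
      rw [pow_two]; exact hsq1 v (h ▸ hq1)
    have fin : ∀ (T : Table), TableOK T B.k → T.seven = false → T.d.m1 = 4 →
        (T.d.m0 = 1 ∧ ¬ Function.Surjective B.E ∧ T.d.size = 64 ∨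
          T.d.m0 = 2 ∧ Function.Surjective B.E ∧ T.d.size = 128) → False := by
      intro T hT h7 h1 hcase
      refine B.false_of_table' hr T hT L.four le_rfl B.le (fun m hm => B.normalP.conj_mem m hm _)
        (fun m hm => B.normalP.conj_mem m hm _) hPc B.yyy_mem B.xx_mem B.u_pow_mem
        (fun h => by rw [h7] at h; cases h) (Or.inl le_rfl) ?_ ?_ (by rw [h1]; exact hexp)
        ?_ hsq ?_
      · intro b hb
        rcases hcase with ⟨h0, -, -⟩ | ⟨-, hs, -⟩
        · obtain ⟨v, -, hv⟩ := B.evens_cases b (hb h0)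
          exact ⟨v, v.2, hv⟩
        · obtain ⟨v, hv⟩ := hs b
          exact ⟨v, v.2, hv⟩
      · intro v _ h0
        rcases hcase with ⟨-, hs, -⟩ | ⟨h0', -, -⟩
        · exact ((B.range.resolve_left hs).2 _).2 ⟨v, rfl⟩
        · rw [h0'] at h0; norm_num at h0
      · intro v _ hv
        rcases hcase with ⟨-, hs, -⟩ | ⟨h0, -, -⟩
        · have := ((B.range.resolve_left hs).2 (B.E v)).2 ⟨v, rfl⟩
          rw [hv] at this
          exact absurd this (by decide)
        · rw [h0]; exact hexp0 v v.2 hv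
      · rw [hN]
        rcases hcase with ⟨h0, -, hsz⟩ | ⟨h0, -, hsz⟩ <;> rw [hsz, h0] <;> norm_num
    by_cases hs : Function.Surjective B.E
    · obtain ⟨p0, p1, p2, p3⟩ := tables_P7 B.k
      rcases (by revert hk; generalize B.k = k; revert k; decide :
        B.k = 0 ∨ B.k = 1 ∨ B.k = 2 ∨ B.k = 3) with h | h | h | h
      · exact fin _ (p0 h) rfl rfl (Or.inr ⟨rfl, hs, rfl⟩)
      · exact fin _ (p1 h) rfl rfl (Or.inr ⟨rfl, hs, rfl⟩)
      · exact fin _ (p2 h) rfl rfl (Or.inr ⟨rfl, hs, rfl⟩)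
      · exact fin _ (p3 h) rfl rfl (Or.inr ⟨rfl, hs, rfl⟩)
    · rcases (B.range.resolve_left hs).1 with h | h
      · exact fin _ ((tables_M3 B.k).1 (Or.inl h)).1 rfl rfl (Or.inl ⟨rfl, hs, rfl⟩)
      · exact fin _ ((tables_M3 B.k).2 (Or.inl h)).1 rfl rfl (Or.inl ⟨rfl, hs, rfl⟩)
  · -- odd elements are involutions inverting the even part
    have hs : Function.Surjective B.E := by
      by_contra hs
      have h3 := qnot hs 3
      rw [hodd 3 rfl] at h3
      exact absurd (hker (even16 3) (even16_facts.2.1 3).1 h3.symm) (by decide)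
    have hqi : ∀ a b : Fin 16, a.val % 2 = 0 → b.val % 2 = 0 → q a = q b → a = b :=
      fun a b ha hb h =>
        xr_facts.2.1 _ _ (hker _ (hev b hb a ha) (inj_of_zero (hadd a b ha hb) h))
    have hMc : ∀ a ∈ B.evens, ∀ b ∈ B.evens, a * b = b * a := fun a ha b hb =>
      hcomm ⟨a, ha.1⟩ ⟨b, hb.1⟩ (hadd _ _ ha.2 hb.2)
    have hsq := hcover hqi
    have hodd2 : ∀ z ∈ B.P, z ∉ B.evens → z * z = 1 := fun z hz hne =>
      hsq1 ⟨z, hz⟩ (hodd _ (by
        rcases Nat.mod_two_eq_zero_or_one (B.E ⟨z, hz⟩).val with h | h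
        · exact absurd ⟨hz, h⟩ hne
        · exact h))
    have hinv : ∀ z ∈ B.P, z ∉ B.evens → ∀ m ∈ B.evens, z * m * z⁻¹ = m⁻¹ := by
      intro z hz hne m hm
      have h1 : z * m * (z * m) = 1 := hodd2 _ (mul_mem hz hm.1) fun h => hne (by
        have := mul_mem h (inv_mem hm)
        rwa [mul_inv_cancel_right] at this)
      rw [inv_eq_of_mul_eq_one_right (hodd2 z hz hne)]
      exact eq_inv_of_mul_eq_one_left (by rw [← h1]; group)
    have hzero : ∀ v : ↥B.P, (B.E v).val % 2 = 0 → (v : X) * v = 1 → B.E v = 0 := by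
      intro v hv h
      refine hker _ hv ?_
      rw [qE, show (⟨(v : X) * v, B.sq _ v.2⟩ : ↥B.N) = 1 from Subtype.ext h, hF1]
    have hxM : ∀ m ∈ B.evens, B.x * m * B.x⁻¹ ∈ B.evens :=
      fun m hm => B.conj_mem_evens hk B.acts_x hm
    have hyM : ∀ m ∈ B.evens, B.y * m * B.y⁻¹ ∈ B.evens :=
      fun m hm => B.conj_mem_evens hk B.acts_y hm
    -- choose the element of order three
    obtain ⟨y', hy', hy3, hyM'⟩ : ∃ y', B.Acts y' (act B.k true) ∧ y' * y' * y' ∈ B.evens ∧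
        ∀ m ∈ B.evens, y' * m * y'⁻¹ ∈ B.evens := by
      by_cases hy3 : B.y * B.y * B.y ∈ B.evens
      · exact ⟨B.y, B.acts_y, hy3, hyM⟩
      obtain ⟨p, hp⟩ := hs 1
      have hy' : B.Acts (B.y * (p : X)) (act B.k true) := fun v =>
        B.acts_mul (f := act B.k true) (g := id) B.acts_y (B.acts_mem p.2) v
      refine ⟨B.y * (p : X), hy', ?_, fun m hm => B.conj_mem_evens hk hy' hm⟩
      have e : B.y * (p : X) * (B.y * p) * (B.y * p) =
          ((B.cj B.y p * B.cj B.y (B.cj B.y p) * B.cj B.y (B.cj B.y (B.cj B.y p)) *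
            ⟨B.y * B.y * B.y, B.yyy_mem⟩ : ↥B.P) : X) := by
        simp only [Subgroup.coe_mul, cj]
        group
      rw [e, B.mem_evens, B.map_mul, B.map_mul, B.map_mul]
      have h1 : (B.E ⟨B.y * B.y * B.y, B.yyy_mem⟩).val % 2 = 1 := by
        rcases Nat.mod_two_eq_zero_or_one (B.E ⟨B.y * B.y * B.y, B.yyy_mem⟩).val with h | h
        · exact absurd ⟨B.yyy_mem, h⟩ hy3
        · exact h
      simp only [show ∀ v, B.E (B.cj B.y v) = act B.k true (B.E v) from B.acts_y, hp,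
        (act_facts.2.2.2 B.k 0).2.2.2.1]
      exact even_facts.2.2 _ _ (by decide) h1
    set B' := B.changeY y' hy' with hB'
    have hev' : B'.evens = B.evens := rfl
    have hxx : B.x * B.x ∈ B.evens := B.square_mem_evens L hinv hMc hsq hzero B.acts_x B.xx_mem
      hxM (fixed_outside_image B.k hk false)
    have huM : ∀ m ∈ B.evens, B.x * y' * B.x⁻¹ * y'⁻¹ * m * (B.x * y' * B.x⁻¹ * y'⁻¹)⁻¹ ∈ B.evens :=
      fun m hm => by
        have hu := B'.acts_u
        refine ⟨B.normalP.conj_mem _ hm.1 _, ?_⟩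
        rw [show B.E ⟨_, B.normalP.conj_mem _ hm.1 (B.x * y' * B.x⁻¹ * y'⁻¹)⟩ =
          B'.E (B'.cj (B'.x * B'.y * B'.x⁻¹ * B'.y⁻¹) ⟨m, hm.1⟩) from rfl, hu]
        exact act_facts.2.2.1 _ _ _ hk (act_facts.2.2.1 _ _ _ hk (act_facts.2.2.1 _ _ _ hk
          (act_facts.2.2.1 _ _ _ hk (act_facts.2.2.1 _ _ _ hk hm.2))))
    have hu4 : (B.x * y' * B.x⁻¹ * y'⁻¹) ^ 4 ∈ B.evens := by
      rw [show (4 : ℕ) = 2 + 2 from rfl, pow_add]
      refine B.square_mem_evens L hinv hMc hsq hzero (B'.acts_pow B'.acts_u 2) ?_ (fun m hm => ?_)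
        (fixed_outside_image B.k hk true)
      · rw [← pow_add]; exact B'.u_pow_mem
      · rw [pow_two, show B.x * y' * B.x⁻¹ * y'⁻¹ * (B.x * y' * B.x⁻¹ * y'⁻¹) * m *
          (B.x * y' * B.x⁻¹ * y'⁻¹ * (B.x * y' * B.x⁻¹ * y'⁻¹))⁻¹ =
          B.x * y' * B.x⁻¹ * y'⁻¹ * (B.x * y' * B.x⁻¹ * y'⁻¹ * m *
            (B.x * y' * B.x⁻¹ * y'⁻¹)⁻¹) * (B.x * y' * B.x⁻¹ * y'⁻¹)⁻¹ by group]
        exact huM _ (huM _ hm)
    have fin : ∀ (T : Table), TableOK T B.k → HasFour T → T.seven = false → T.d.m1 = 4 →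
        T.d.m0 = 1 → T.d.size = 64 → False := by
      intro T hT h4 h7 h1 h0 hsz
      refine B'.false_of_table' hr T hT L.four (M := B'.evens) B'.evens_le B'.N_le_evens
        hxM hyM' hMc hy3 hxx hu4 (fun h => by rw [h7] at h; cases h) (Or.inr ⟨h4, hinv⟩)
        (fun b hb => B.evens_cases b (hb h0)) (fun v hv _ => B.mem_evens.1 hv)
        (fun b hb => by
          obtain ⟨v, hv, hvb⟩ := B.evens_cases b hb
          exact ⟨v, hv, hvb, by rw [h1]; exact B.pow_four_eq_one L v⟩)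
        (fun v hv h => absurd (h ▸ B.mem_evens.1 hv : (1 : Fin 16).val % 2 = 0) (by decide)) hsq ?_
      show T.d.size ≤ Nat.card B.N * _
      rw [hN, hsz, h0]
      norm_num
    rcases hk with h | h | h | h
    · exact fin _ ((tables_M3 B.k).1 (Or.inl h)).1 ((tables_M3 B.k).1 (Or.inl h)).2 rfl rfl rfl rfl
    · exact fin _ ((tables_M3 B.k).2 (Or.inl h)).1 ((tables_M3 B.k).2 (Or.inl h)).2 rfl rfl rfl rfl
    · exact fin _ ((tables_M3 B.k).1 (Or.inr h)).1 ((tables_M3 B.k).1 (Or.inr h)).2 rfl rfl rfl rfl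
    · exact fin _ ((tables_M3 B.k).2 (Or.inr h)).1 ((tables_M3 B.k).2 (Or.inr h)).2 rfl rfl rfl rfl
  · exact B.false_of_evens hr (by omega) fun v hv => hsq1 v (hzero _ hv)

/-- A layer which is a faithful module of order sixteen without fixed points is impossible. -/
theorem false_four (hr : SectionalPRankLE 2 4 X) (L : B.Central) {F : ↥B.N → Fin 16}
    (hFi : Function.Injective F) (hFm : ∀ a b, F (a * b) = xr (F a) (F b))
    (hN : Nat.card B.N = 16) {t : Fin 6} (ht : t = 4 ∨ t = 5)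
    (hx : ∀ n : ↥B.N, F ⟨B.x * n * B.x⁻¹, B.normalN.conj_mem _ n.2 _⟩ = act t false (F n))
    (hy : ∀ n : ↥B.N, F ⟨B.y * n * B.y⁻¹, B.normalN.conj_mem _ n.2 _⟩ = act t true (F n)) :
    False := by
  classical
  obtain ⟨q, q0, qe, qq, qE, -, qpol⟩ := exists_quad L hFm hx hy
  have hF1 : F 1 = 0 := by
    have h := hFm 1 1
    rw [one_mul, (xr_facts.1 _).1] at h
    exact h
  have hFb : Function.Bijective F :=
    (Nat.bijective_iff_injective_and_card F).2 ⟨hFi, by rw [hN, Nat.card_fin]⟩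
  have hsq1 : ∀ v : ↥B.P, q (B.E v) = 0 → (v : X) * v = 1 := fun v h => by
    rw [qE, ← hF1] at h
    exact congrArg Subtype.val (hFi h)
  rcases four_cases ht q0 qe qq with ⟨hk, hadd, hker⟩ | hzero | hall
  · have hs : Function.Surjective B.E := B.range.resolve_right fun h => by
      rcases hk with hk | hk <;> rcases h.1 with h | h <;> rw [hk] at h <;> exact absurd h (by decide)
    have hPc : ∀ a ∈ B.P, ∀ b ∈ B.P, a * b = b * a := by
      intro a ha b hb
      have h1 := qpol ⟨a, ha⟩ ⟨b, hb⟩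
      rw [polar_zero (hadd _ _), ← hF1] at h1
      have h2 : b * a * b⁻¹ * a⁻¹ = 1 := congrArg Subtype.val (hFi h1.symm)
      calc a * b = 1 * (a * b) := (one_mul _).symm
        _ = b * a := by rw [← h2]; group
    have hqi : Function.Injective q := fun a b h =>
      xr_facts.2.1 _ _ (hker _ (inj_of_zero (hadd a b) h))
    have hsq : ∀ n ∈ B.N, ∃ v ∈ B.P, v * v = n := by
      intro n hn
      obtain ⟨a, ha⟩ := (Finite.injective_iff_surjective.1 hqi) (F ⟨n, hn⟩)
      obtain ⟨v, rfl⟩ := hs a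
      rw [qE] at ha
      exact ⟨v, v.2, congrArg Subtype.val (hFi ha)⟩
    have fin : ∀ T : Table, TableOK T B.k → T.seven = false → T.d.m1 = 4 → T.d.m0 = 4 →
        T.d.size = 256 → False := by
      intro T hT h7 h1 h0 hsz
      refine B.false_of_table' hr T hT L.four le_rfl B.le (fun m hm => B.normalP.conj_mem m hm _)
        (fun m hm => B.normalP.conj_mem m hm _) hPc B.yyy_mem B.xx_mem B.u_pow_mem
        (fun h => by rw [h7] at h; cases h) (Or.inl le_rfl)
        (fun b _ => (hs b).elim fun v hv => ⟨v, v.2, hv⟩) (fun _ _ h => by omega)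
        (fun b _ => (hs b).elim fun v hv =>
          ⟨v, v.2, hv, by rw [h1]; exact B.pow_four_eq_one L v⟩)
        (fun v _ _ => by rw [h0]; exact B.pow_four_eq_one L v) hsq ?_
      rw [hN, hsz, h0]
      norm_num
    rcases hk with h | h
    · exact fin tabQ84 (h ▸ tables_Q8.1) rfl rfl rfl rfl
    · exact fin tabQ85 (h ▸ tables_Q8.2) rfl rfl rfl rfl
  · exact B.false_of_evens hr (by omega) fun v hv => hsq1 v (hzero _ hv)
  · -- the squares lie in a proper subgroup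
    let H : Subgroup X :=
      { carrier := {n | ∃ h : n ∈ B.N, (F ⟨n, h⟩).val % 2 = 0}
        one_mem' := ⟨B.N.one_mem, by
          rw [show (⟨1, B.N.one_mem⟩ : ↥B.N) = 1 from rfl, hF1]; rfl⟩
        mul_mem' := fun {a b} ⟨ha, ea⟩ ⟨hb, eb⟩ => ⟨mul_mem ha hb, by
          rw [show (⟨a * b, mul_mem ha hb⟩ : ↥B.N) = ⟨a, ha⟩ * ⟨b, hb⟩ from rfl, hFm]
          exact even_facts.1 _ _ ea eb⟩
        inv_mem' := fun {a} ⟨ha, ea⟩ => ⟨inv_mem ha, by
          rw [show (⟨a⁻¹, inv_mem ha⟩ : ↥B.N) = ⟨a, ha⟩ from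
            Subtype.ext (inv_eq_of_mul_eq_one_right (L.exp a ha))]
          exact ea⟩ }
    obtain ⟨n, hn⟩ := hFb.2 1
    have h := (B.gen.trans ((Subgroup.closure_le H).2 (by
      rintro _ ⟨v, rfl⟩
      exact ⟨B.sq _ v.2, by rw [← qE]; exact hall _⟩))) n.2
    obtain ⟨_, h'⟩ := h
    rw [show (⟨(n : X), _⟩ : ↥B.N) = n from rfl, hn] at h'
    exact absurd h' (by decide)

end Base

end CfsgLib.L32Radical
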