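import Cfsg.Agent.L32Radical.Eight
import Cfsg.Agent.GLFourTwo.FrattiniAction

/-!
# The 2-core of a constrained group over `L₃(2)` of sectional 2-rank at most four
-/

set_option autoImplicit false
set_option linter.style.haveILetI false

namespace CfsgLib.L32Radical

open Cfsg CfsgLib.GLFourTwo CfsgLib.GLFourTwo.A5Mod
open scoped commutatorElement

/-- The product of a cyclic group of order 4 and an elementary abelian group of order 8. -/
abbrev Abelian32 := Multiplicative (ZMod 4) × (Fin 3 → Multiplicative (ZMod 2))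

theorem four_bits : ∀ a : Fin 16,
    a = xr (xr (xr (if ((a.val % 2 : ℕ) : ZMod 4).val % 2 = 1 then 1 else 0)
      (if ((a.val / 2 % 2 : ℕ) : ZMod 2).val % 2 = 1 then 2 else 0))
        (if ((a.val / 4 % 2 : ℕ) : ZMod 2).val % 2 = 1 then 4 else 0))
          (if ((a.val / 8 % 2 : ℕ) : ZMod 2).val % 2 = 1 then 8 else 0) := by
  decide +kernel

namespace Base

variable {X : Type*} [Group X] {B : Base X}

/-- The 2-group in the case of one layer. -/
theorem nonempty_iso [Finite X] (hs : Function.Surjective B.E) {z : X} (hzN : z ∈ B.N)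
    (hz1 : z ≠ 1) (hN : ∀ n ∈ B.N, n = 1 ∨ n = z)
    (hsq : ∀ v : ↥B.P, (v : X) * v = if (B.E v).val % 2 = 1 then z else 1) (hzz : z * z = 1)
    (hPc : ∀ a ∈ B.P, ∀ b ∈ B.P, a * b = b * a) : Nonempty (↥B.P ≃* Abelian32) := by
  classical
  letI : CommGroup ↥B.P :=
    { (inferInstance : Group ↥B.P) with mul_comm := fun a b => Subtype.ext (hPc _ a.2 _ b.2) }
  choose lift hlift using hs
  have h2 : ∀ b : Fin 16, b.val % 2 = 0 → lift b ^ 2 = 1 := fun b hb => Subtype.ext (by
    rw [Subgroup.coe_pow, pow_two, hsq, hlift, if_neg (by omega), Subgroup.coe_one])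
  have hz0 : lift 1 ^ 2 = ⟨z, B.le hzN⟩ := Subtype.ext (by
    rw [Subgroup.coe_pow, pow_two, hsq, hlift]; rfl)
  have h4 : lift 1 ^ 4 = 1 := by
    rw [show (4 : ℕ) = 2 * 2 from rfl, pow_mul, hz0, pow_two]
    exact Subtype.ext hzz
  have hadd : ∀ {m : ℕ} [NeZero m] (g : ↥B.P), g ^ m = 1 → ∀ i j : ZMod m,
      g ^ (i + j).val = g ^ i.val * g ^ j.val := by
    intro m _ g hg i j
    rw [ZMod.val_add, ← pow_add]
    exact (pow_eq_pow_mod _ hg).symm
  let f : Abelian32 → ↥B.P := fun p =>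
    lift 1 ^ p.1.toAdd.val * lift 2 ^ (p.2 0).toAdd.val * lift 4 ^ (p.2 1).toAdd.val *
      lift 8 ^ (p.2 2).toAdd.val
  let φ : Abelian32 →* ↥B.P := MonoidHom.mk' f fun p q => by
    simp only [f, Prod.fst_mul, Prod.snd_mul, Pi.mul_apply, toAdd_mul,
      hadd _ h4, hadd _ (h2 2 rfl), hadd _ (h2 4 rfl), hadd _ (h2 8 rfl)]
    ac_rfl
  have hbits : ∀ v : ↥B.P, ∃ p, B.E (φ p) = B.E v := by
    intro v
    refine ⟨(Multiplicative.ofAdd ((((B.E v).val % 2 : ℕ)) : ZMod 4),
      ![Multiplicative.ofAdd ((((B.E v).val / 2 % 2 : ℕ)) : ZMod 2),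
        Multiplicative.ofAdd ((((B.E v).val / 4 % 2 : ℕ)) : ZMod 2),
        Multiplicative.ofAdd ((((B.E v).val / 8 % 2 : ℕ)) : ZMod 2)]), ?_⟩
    refine Eq.trans ?_ (four_bits (B.E v)).symm
    show B.E (f _) = _
    simp only [f, Matrix.cons_val_zero, Matrix.cons_val_one, Matrix.cons_val, toAdd_ofAdd,
      B.map_mul, B.E_pow, hlift]
  have hsurj : Function.Surjective φ := by
    intro v
    obtain ⟨p, hp⟩ := hbits v
    have hn : (((φ p)⁻¹ * v : ↥B.P) : X) ∈ B.N := (B.eq_zero _).1 (by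
      rw [B.map_mul, B.E_inv, hp, (xr_facts.1 _).1])
    rcases hN _ hn with h | h
    · exact ⟨p, inv_mul_eq_one.1 (Subtype.ext h)⟩
    · refine ⟨p * (Multiplicative.ofAdd 2, 1), ?_⟩
      rw [_root_.map_mul, eq_comm, ← inv_mul_eq_iff_eq_mul]
      refine (show (φ p)⁻¹ * v = ⟨z, B.le hzN⟩ from Subtype.ext h).trans ?_
      show _ = lift 1 ^ (2 : ZMod 4).val * lift 2 ^ (0 : ZMod 2).val * lift 4 ^ (0 : ZMod 2).val *
        lift 8 ^ (0 : ZMod 2).val
      simp only [ZMod.val_zero, pow_zero, mul_one]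
      exact hz0.symm
  have hcard : Nat.card Abelian32 = 32 := by
    simp [Nat.card_prod, Nat.card_pi, Fin.prod_univ_three]
  have h32 : 32 ≤ Nat.card ↥B.P := by
    have hN2 : Nat.card B.N = 2 := by
      rw [Nat.card_eq_two_iff]
      refine ⟨1, ⟨z, hzN⟩, fun h => hz1 (congrArg Subtype.val h).symm,
        Set.eq_univ_of_forall fun n => ?_⟩
      rcases hN n n.2 with h | h
      · exact Or.inl (Subtype.ext h)
      · exact Or.inr (Subtype.ext h)
    have hle := Nat.card_le_card_of_injective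
      (fun p : ↥B.N × Fin 16 => (⟨(p.1 : X), B.le p.1.2⟩ : ↥B.P) * lift p.2) (by
        rintro ⟨n, b⟩ ⟨n', b'⟩ h
        have h1 := congrArg B.E h
        rw [B.map_mul, B.map_mul, (B.eq_zero ⟨(n : X), B.le n.2⟩).2 n.2,
          (B.eq_zero ⟨(n' : X), B.le n'.2⟩).2 n'.2, (xr_facts.1 _).2.1, (xr_facts.1 _).2.1, hlift,
          hlift] at h1
        obtain rfl : b = b' := h1
        exact Prod.ext (Subtype.ext (congrArg Subtype.val (mul_right_cancel h) :)) rfl)
    rw [Nat.card_prod, hN2, Nat.card_fin] at hle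
    exact hle
  have hbij : Function.Bijective φ := (Nat.bijective_iff_surjective_and_card φ).2
    ⟨hsurj, le_antisymm (by rw [hcard]; exact h32) (Nat.card_le_card_of_surjective φ hsurj)⟩
  exact ⟨(MulEquiv.ofBijective φ hbij).symm⟩

/-- The three possibilities. -/
theorem cases [Finite X] (hr : SectionalPRankLE 2 4 X) (hi : B.P.index = 168)
    (hP : IsPGroup 2 ↥B.P) :
    (IsElementaryAbelian 2 B.P ∧ (Nat.card ↥B.P = 8 ∨ Nat.card ↥B.P = 16)) ∨
      Nonempty (↥B.P ≃* Abelian32) := by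
  classical
  haveI := B.normalP
  haveI := B.normalN
  have hNP : B.N ≤ B.P := B.le
  by_cases hN : B.N = ⊥
  · -- no layer
    left
    have hexp : ∀ v ∈ B.P, v * v = 1 := fun v hv => Subgroup.mem_bot.1 (hN ▸ B.sq v hv)
    have hinv : ∀ v : ↥B.P, v⁻¹ = v := fun v =>
      inv_eq_of_mul_eq_one_right (Subtype.ext (hexp v v.2))
    refine ⟨⟨⟨⟨fun u v => ?_⟩⟩, fun v hv => by rw [pow_two]; exact hexp v hv⟩, ?_⟩
    · rw [← hinv (u * v), mul_inv_rev, hinv, hinv]
    · have hEi : Function.Injective B.E := fun v w h => by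
        have h1 : ((w⁻¹ * v : ↥B.P) : X) ∈ B.N := (B.eq_zero _).1
          ((B.map_mul _ _).trans (by rw [B.E_inv]; show xr (B.E w) (B.E v) = 0; rw [h, (xr_facts.1 _).1]))
        rw [hN, Subgroup.mem_bot] at h1
        exact (inv_mul_eq_one.1 (Subtype.ext h1)).symm
      rcases B.range with h | ⟨-, h⟩
      · exact Or.inr (by rw [Nat.card_eq_of_bijective B.E ⟨hEi, h⟩, Nat.card_fin])
      · refine Or.inl ?_
        rw [← card_even]
        refine Nat.card_eq_of_bijective
          (fun v => (⟨B.E v, (h _).2 ⟨v, rfl⟩⟩ : {a : Fin 16 // a.val % 2 = 0}))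
          ⟨fun v w e => hEi (congrArg Subtype.val e), fun i => ?_⟩
        obtain ⟨v, hv⟩ := (h i.1).1 i.2
        exact ⟨v, Subtype.ext hv⟩
  set N1 := nextLayer B.P B.N with hN1
  have hN1N : N1 ≤ B.N := nextLayer_le
  by_cases hN1b : N1 = ⊥
  · -- one layer
    right
    have L : B.Central :=
      ⟨fun n hn v hv => commutatorElement_eq_one_iff_mul_comm.1
        (Subgroup.mem_bot.1 (hN1b.le (comm_mem_nextLayer hn hv))),
        fun n hn => Subgroup.mem_bot.1 (hN1b.le (sq_mem_nextLayer hn))⟩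
    obtain ⟨hs, -, z, hzN, hz1, hz, hsq, hPc⟩ := layer hr hi L hN
    exact nonempty_iso hs hzN hz1 hz hsq (L.exp z hzN) hPc
  exfalso
  set N2 := nextLayer B.P N1 with hN2
  have hN2N : N2 ≤ N1 := nextLayer_le
  set π := QuotientGroup.mk' N2 with hπ
  haveI : (N1.map π).Normal :=
    (inferInstance : N1.Normal).map π (QuotientGroup.mk'_surjective N2)
  have hback : ∀ n, π n ∈ N1.map π → n ∈ N1 := by
    rintro n ⟨m, hm, e⟩
    have h1 : m⁻¹ * n ∈ N1 :=
      hN2N (mk_eq_one.1 (by rw [_root_.map_mul, map_inv, e, inv_mul_cancel]))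
    have h2 := mul_mem hm h1
    rwa [mul_inv_cancel_left] at h2
  refine false_two (B := B.quot N2 (hN2N.trans hN1N)) (FGS74.sectional_quotient hr N2)
    ((quot_index _).trans hi) (N1.map π) (Subgroup.map_mono hN1N)
    (fun h => hN1b (eq_bot_of_le_nextLayer hP (hN1N.trans hNP) fun m hm => mk_eq_one.1
      (Subgroup.mem_bot.1 (h ▸ Subgroup.mem_map_of_mem π hm))))
    (fun h => hN (eq_bot_of_le_nextLayer hP hNP fun n hn =>
      hback n (h (Subgroup.mem_map_of_mem π hn)))) ?_ ?_ ?_ ?_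
  · rintro _ ⟨l, hl, rfl⟩ _ ⟨v, hv, rfl⟩
    exact mk_comm (comm_mem_nextLayer hl hv)
  · rintro _ ⟨l, hl, rfl⟩
    rw [← _root_.map_mul]
    exact mk_eq_one.2 (sq_mem_nextLayer hl)
  · rintro _ ⟨n, hn, rfl⟩
    exact ⟨n * n, sq_mem_nextLayer hn, _root_.map_mul _ _ _⟩
  · rintro _ ⟨n, hn, rfl⟩ _ ⟨v, hv, rfl⟩
    exact ⟨⁅n, v⁆, comm_mem_nextLayer hn hv, by
      rw [map_commutatorElement, commutatorElement_def]⟩

end Base

variable {X : Type*} [Group X] [Finite X]

/-- The radical. -/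
theorem radical_cases (hc : IsPConstrained 2 X) (hO : oddCore X = ⊥) (h4 : SectionalPRankLE 2 4 X)
    {F : Type*} [Field F] [Fintype F] (hF : Fintype.card F = 2)
    (hQ : Nonempty (X ⧸ pCore 2 X ≃* Matrix.ProjectiveSpecialLinearGroup (Fin 3) F)) :
    (IsElementaryAbelian 2 (pCore 2 X) ∧
        (Nat.card ↥(pCore 2 X) = 8 ∨ Nat.card ↥(pCore 2 X) = 16)) ∨
      Nonempty (↥(pCore 2 X) ≃* Abelian32) := by
  classical
  haveI : Fact (Nat.Prime 2) := ⟨Nat.prime_two⟩
  set P := pCore 2 X with hPdef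
  have hP : IsPGroup 2 ↥P := PLocal.isPGroup_pCore 2 X
  have h4P : SectionalPRankLE 2 4 ↥P := by
    intro H K hK A hAc hAe
    let e := H.equivMapOfInjective P.subtype P.subtype_injective
    refine Cfsg.Agent.S4400.card_le_of_hom h4 (H.map P.subtype)
      ((QuotientGroup.mk' K).comp e.symm.toMonoidHom) A ?_
      (fun a ha b hb => congrArg Subtype.val (hAc.is_comm.comm (⟨a, ha⟩ : A) ⟨b, hb⟩)) hAe
    intro a _
    obtain ⟨w, rfl⟩ := QuotientGroup.mk'_surjective K a
    exact ⟨e w, congrArg (QuotientGroup.mk' K) (e.symm_apply_apply w)⟩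
  obtain ⟨e⟩ := hQ
  obtain ⟨hcard, a, b, haa, hbb, hb1, hab, hcom⟩ := exists_gens_psl hF
  have hi : P.index = 168 := by
    rw [Subgroup.index_eq_card, Nat.card_congr e.toEquiv, hcard]
  obtain ⟨x, hx'⟩ := QuotientGroup.mk'_surjective P (e.symm a)
  obtain ⟨y, hy'⟩ := QuotientGroup.mk'_surjective P (e.symm b)
  have hker := ker_frattAct hc hO
  have hfr : ∀ u, frattAct X u = 1 ↔ QuotientGroup.mk' P u = 1 := fun u => by
    rw [← MonoidHom.mem_ker, hker, mk_eq_one]
  obtain ⟨k, E0, hE0, hE0m, hE0a, hE0r⟩ := coords168 (frattQuot_comm (X := X)) frattQuot_sq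
    (card_frattQuot_le h4P) (frattAct X x) (frattAct X y)
    (by rw [← map_mul, hfr, map_mul, hx', ← map_mul, haa, map_one])
    (by rw [← map_pow, hfr, map_pow, hy', ← map_pow, hbb, map_one])
    (fun h => hb1 (e.symm.injective (by rw [map_one, ← hy']; exact (hfr y).1 h)))
    (by rw [← map_mul, ← map_pow, hfr, map_pow, map_mul, hx', hy', ← map_mul, ← map_pow, hab,
      map_one])
    (by
      simp only [← map_mul, ← map_pow]
      rw [hfr]
      simp only [map_pow, map_mul, hx', hy']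
      simp only [← map_mul, ← map_pow, hcom, map_one])
  let E : ↥P → Fin 16 := fun v => E0 (v : ↥P ⧸ frattini ↥P)
  let N : Subgroup X := (frattini ↥P).map P.subtype
  have hN0 : E0 1 = 0 := by
    have h := hE0m 1 1
    rwa [one_mul, (xr_facts.1 _).1] at h
  have hNP : N ≤ P := Subgroup.map_subtype_le _
  haveI hNn : N.Normal := ⟨fun n hn g => by
    obtain ⟨n', hn', rfl⟩ := hn
    exact ⟨MulAut.conjNormal g n', (Subgroup.characteristic_iff_map_eq.mp inferInstance
      (MulAut.conjNormal g : MulAut ↥P) : (frattini ↥P).map _ = frattini ↥P) ▸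
        Subgroup.mem_map_of_mem _ hn', by simp⟩⟩
  let B : Base X :=
    { P := P, N := N, E := E, k := k, x := x, y := y
      normalP := inferInstance
      normalN := hNn
      le := hNP
      sq := fun v hv => ⟨⟨v, hv⟩ * ⟨v, hv⟩, by
        rw [SetLike.mem_coe, ← pow_two]; exact Solvable.pow_mem_frattini hP _, rfl⟩
      map_mul := fun v w => by simp only [E, QuotientGroup.mk_mul, hE0m]
      eq_zero := fun v => by
        show E0 (v : ↥P ⧸ frattini ↥P) = 0 ↔ _
        rw [← hN0, hE0.eq_iff, QuotientGroup.eq_one_iff]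
        exact ⟨fun h => ⟨v, h, rfl⟩, fun ⟨v', hv', e⟩ => Subtype.ext e ▸ hv'⟩
      equiv := fun v => by
        have key : ∀ g : X, E0 (frattAct X g (v : ↥P ⧸ frattini ↥P)) =
            E ⟨g * v * g⁻¹, (inferInstance : P.Normal).conj_mem _ v.2 g⟩ := fun g => rfl
        exact ⟨(key x).symm.trans (hE0a _).1, (key y).symm.trans (hE0a _).2⟩
      range := by
        rcases hE0r with h | ⟨hk, h⟩
        · refine Or.inl fun i => ?_
          obtain ⟨q, rfl⟩ := h i
          obtain ⟨v, rfl⟩ := QuotientGroup.mk_surjective q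
          exact ⟨v, rfl⟩
        · refine Or.inr ⟨hk, fun i => (h i).trans ⟨?_, fun ⟨v, hv⟩ => ⟨_, hv⟩⟩⟩
          rintro ⟨q, rfl⟩
          obtain ⟨v, rfl⟩ := QuotientGroup.mk_surjective q
          exact ⟨v, rfl⟩
      hker := fun z hz => mk_eq_one.1 ((hfr z).1 (MulEquiv.ext fun q => by
        induction q using QuotientGroup.induction_on with
        | H v =>
        rw [MulAut.one_apply]
        exact hE0 (hz v)))
      gen := frattini_le_closure_squares }
  exact Base.cases (B := B) h4 hi hP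

end CfsgLib.L32Radical
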