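import Cfsg.Agent.L32Radical.Coords

/-!
# Equivariant quadratic maps
-/

set_option autoImplicit false

namespace CfsgLib.L32Radical

open CfsgLib.GLFourTwo CfsgLib.GLFourTwo.A5Mod

/-- For every code an orbit representative and a word leading to it. -/
def word : Fin 6 → Fin 16 → Fin 4 × List Bool
  | 0 => ![(0, []), (1, []), (2, []), (3, []), (2, [false]), (3, [false]), (2, [true, true, false, true, true, false]), (3, [true, true, false, true, true, false]), (2, [true, false]), (3, [true, false]), (2, [false, true, true, false]), (3, [false, true, true, false]), (2, [true, true, false]), (3, [true, true, false]), (2, [true, false, true, true, false]), (3, [true, false, true, true, false])]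
  | 1 => ![(0, []), (1, []), (2, []), (2, [false, true, true, false, true, false]), (2, [false]), (2, [true, true, false, true, false]), (2, [true, true, false, true, false, true, false]), (2, [true, true, false, true, true, false]), (2, [true, false]), (2, [false, true, false]), (2, [false, true, false, true, false]), (2, [false, true, true, false]), (2, [true, true, false]), (2, [true, false, true, false]), (2, [true, false, true, false, true, false]), (2, [true, false, true, true, false])]
  | 2 => ![(0, []), (1, []), (2, []), (3, []), (2, [false]), (3, [false]), (2, [true, false, true, false]), (3, [true, false, true, false]), (2, [true, false]), (3, [true, false]), (2, [true, true, false, true, false]), (3, [true, true, false, true, false]), (2, [true, true, false]), (3, [true, true, false]), (2, [false, true, false]), (3, [false, true, false])]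
  | 3 => ![(0, []), (1, []), (2, []), (2, [false, true, false, true, true, false]), (2, [false]), (2, [true, false, true, true, false]), (2, [true, true, false, true, true, false, true, false]), (2, [true, false, true, false]), (2, [true, false]), (2, [true, true, false, true, true, false]), (2, [false, true, true, false, true, false]), (2, [true, true, false, true, false]), (2, [true, true, false]), (2, [false, true, true, false]), (2, [true, false, true, true, false, true, false]), (2, [false, true, false])]
  | 4 => ![(0, []), (1, []), (2, []), (1, [false, true, false]), (2, [false]), (1, [true, true, false]), (2, [true, true, false, true, true, false]), (1, [false, true, false, true, true, false]), (2, [true, false]), (1, [false]), (2, [false, true, true, false]), (1, [false, true, true, false]), (2, [true, true, false]), (1, [true, false]), (2, [true, false, true, true, false]), (1, [true, false, true, true, false])]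
  | 5 => ![(0, []), (1, []), (2, []), (1, [false, true, false]), (2, [false]), (1, [true, false, true, true, false]), (2, [true, false, true, false]), (1, [true, true, false]), (2, [true, false]), (1, [false, true, false, true, true, false]), (2, [true, true, false, true, false]), (1, [false]), (2, [true, true, false]), (1, [false, true, true, false]), (2, [false, true, false]), (1, [true, false])]

/-- The orbit representatives. -/
def rep : Fin 6 → Fin 4 → Fin 16
  | 0 => ![0, 1, 2, 3]
  | 1 => ![0, 1, 2, 0]
  | 2 => ![0, 1, 2, 3]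
  | 3 => ![0, 1, 2, 0]
  | 4 => ![0, 1, 2, 0]
  | 5 => ![0, 1, 2, 0]

theorem word_spec : ∀ (k : Fin 6) (a : Fin 16),
    (word k a).2.foldr (fun g x => act k g x) (rep k (word k a).1) = a ∧ rep k 0 = 0 := by
  decide +kernel

/-- The evaluation of a map from its values at the representatives. -/
def eval (k : Fin 6) (al : Bool → Fin 16 → Fin 16) (c1 c2 c3 : Fin 16) (a : Fin 16) : Fin 16 :=
  (word k a).2.foldr (fun g x => al g x) (![0, c1, c2, c3] (word k a).1)

theorem eq_eval {k : Fin 6} {al : Bool → Fin 16 → Fin 16} {q : Fin 16 → Fin 16} (h0 : q 0 = 0)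
    (heq : ∀ g a, q (act k g a) = al g (q a)) :
    q = eval k al (q (rep k 1)) (q (rep k 2)) (q (rep k 3)) := by
  funext a
  rw [eval]
  have hv : ![0, q (rep k 1), q (rep k 2), q (rep k 3)] (word k a).1 = q (rep k (word k a).1) := by
    generalize (word k a).1 = i
    fin_cases i
    · show (0 : Fin 16) = q (rep k 0)
      rw [(word_spec k 0).2, h0]
    · rfl
    · rfl
    · rfl
  rw [hv]
  conv_lhs => rw [← (word_spec k a).1]
  induction (word k a).2 with
  | nil => rfl
  | cons g l ih => rw [List.foldr_cons, List.foldr_cons, heq, ih]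

/-- An orbit with no representative has value zero. -/
def Slot (k : Fin 6) (i : Fin 4) (c : Fin 16) : Prop := rep k i = 0 → c = 0

instance (k : Fin 6) (i : Fin 4) (c : Fin 16) : Decidable (Slot k i c) := by
  unfold Slot; infer_instance

/-- The functional of a module. -/
def lamb (k : Fin 6) (a : Fin 16) : Prop := (k = 0 ∨ k = 2 ∨ k = 4 ∨ k = 5) ∧ a.val % 2 = 1

instance (k : Fin 6) (a : Fin 16) : Decidable (lamb k a) := by unfold lamb; infer_instance

/-- Additive. -/
def Additive' (q : Fin 16 → Fin 16) : Prop := ∀ a b, q (xr a b) = xr (q a) (q b)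

instance (q : Fin 16 → Fin 16) : Decidable (Additive' q) := by unfold Additive'; infer_instance

set_option maxRecDepth 100000 in
theorem eval_trivial : ∀ k : Fin 6, ∀ c1 ∈ ([0, 1] : List (Fin 16)), ∀ c2 ∈ ([0, 1] : List (Fin 16)),
    ∀ c3 ∈ ([0, 1] : List (Fin 16)), Slot k 3 c3 →
    (∀ g a, eval k (fun _ x => x) c1 c2 c3 (act k g a) = eval k (fun _ x => x) c1 c2 c3 a) →
    BasisQuad (eval k (fun _ x => x) c1 c2 c3) →
      ∀ a, eval k (fun _ x => x) c1 c2 c3 a =
        if lamb k a then eval k (fun _ x => x) c1 c2 c3 1 else 0 := by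
  decide +kernel

/-- A bit of a code. -/
def bitAt (j : Fin 4) (a : Fin 16) : Fin 16 := if a.val / 2 ^ j.val % 2 = 1 then 1 else 0

theorem bitAt_facts : (∀ j a b, bitAt j (xr a b) = xr (bitAt j a) (bitAt j b)) ∧
    (∀ a b, (∀ j, bitAt j a = bitAt j b) → a = b) ∧ (∀ j, bitAt j 0 = 0) ∧
    ∀ j a, bitAt j a ∈ ([0, 1] : List (Fin 16)) := by
  decide +kernel

/-- The three kinds of maps into a three-dimensional module. -/
def Kind3 (k : Fin 6) (q : Fin 16 → Fin 16) : Prop :=
  (k.val ≤ 3 ∧ Additive' q ∧ q 1 = 0 ∧ ∀ a, q a = 0 → a = 0 ∨ a = 1) ∨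
    ((k = 0 ∨ k = 2 ∨ k = 4 ∨ k = 5) ∧ (∀ a : Fin 16, a.val % 2 = 1 → q a = 0) ∧
      (∀ a b : Fin 16, a.val % 2 = 0 → b.val % 2 = 0 → q (xr a b) = xr (q a) (q b)) ∧
      ∀ a : Fin 16, a.val % 2 = 0 → q a = 0 → a = 0) ∨
    ∀ a : Fin 16, a.val % 2 = 0 → q a = 0

instance (k : Fin 6) (q : Fin 16 → Fin 16) : Decidable (Kind3 k q) := by
  unfold Kind3; infer_instance

set_option maxRecDepth 100000 in
theorem eval_three : ∀ k : Fin 6, ∀ t ∈ ([0, 2] : List (Fin 6)),
    ∀ c1 : Fin 16, c1.val % 2 = 0 → act t true c1 = c1 →
    ∀ c2 : Fin 16, c2.val % 2 = 0 → act t true c2 = c2 →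
    ∀ c3 : Fin 16, c3.val % 2 = 0 → act t true c3 = c3 → Slot k 3 c3 →
    (∀ g a, eval k (act t) c1 c2 c3 (act k g a) = act t g (eval k (act t) c1 c2 c3 a)) →
    BasisQuad (eval k (act t) c1 c2 c3) → Kind3 k (eval k (act t) c1 c2 c3) := by
  decide +kernel

/-- The two kinds of maps onto a four-dimensional module without fixed points. -/
def Kind4 (k : Fin 6) (q : Fin 16 → Fin 16) : Prop :=
  ((k = 4 ∨ k = 5) ∧ Additive' q ∧ ∀ a, q a = 0 → a = 0) ∨
    (∀ a : Fin 16, a.val % 2 = 0 → q a = 0) ∨ ∀ a, (q a).val % 2 = 0

instance (k : Fin 6) (q : Fin 16 → Fin 16) : Decidable (Kind4 k q) := by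
  unfold Kind4; infer_instance

set_option maxRecDepth 100000 in
theorem eval_four : ∀ k : Fin 6, ∀ t ∈ ([4, 5] : List (Fin 6)), ∀ c1 : Fin 16, act t true c1 = c1 →
    ∀ c2 : Fin 16, act t true c2 = c2 → ∀ c3 : Fin 16, act t true c3 = c3 → Slot k 3 c3 →
    (∀ g a, eval k (act t) c1 c2 c3 (act k g a) = act t g (eval k (act t) c1 c2 c3 a)) →
    BasisQuad (eval k (act t) c1 c2 c3) → Kind4 k (eval k (act t) c1 c2 c3) := by
  decide +kernel

theorem slot_of {k : Fin 6} {q : Fin 16 → Fin 16} (h0 : q 0 = 0) (i : Fin 4) :
    Slot k i (q (rep k i)) := fun h => by rw [h, h0]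

theorem rep_fixed : ∀ (k : Fin 6) (i : Fin 4), act k true (rep k i) = rep k i := by decide +kernel

theorem fix_of_rep {k : Fin 6} {al : Bool → Fin 16 → Fin 16} {q : Fin 16 → Fin 16}
    (heq : ∀ g a, q (act k g a) = al g (q a)) (i : Fin 4) :
    al true (q (rep k i)) = q (rep k i) := by
  rw [← heq, rep_fixed]

/-- Invariant quadratic maps. -/
theorem trivial_cases168 {k : Fin 6} {q : Fin 16 → Fin 16} (h0 : q 0 = 0)
    (heq : ∀ g a, q (act k g a) = q a) (hq : BasisQuad q) :
    ∀ a, q a = if lamb k a then q 1 else 0 := by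
  intro a
  refine bitAt_facts.2.1 _ _ fun j => ?_
  have h0' : bitAt j (q 0) = 0 := by rw [h0, bitAt_facts.2.2.1]
  have heq' : ∀ g a, bitAt j (q (act k g a)) = bitAt j (q a) := fun g a => by rw [heq]
  have hq' : BasisQuad fun a => bitAt j (q a) := fun u v w => by
    have e := congrArg (bitAt j) (hq u v w)
    simp only [polar, bitAt_facts.1] at e ⊢
    exact e
  have key : ∀ q' : Fin 16 → Fin 16, q' 0 = 0 → (∀ g a, q' (act k g a) = q' a) → BasisQuad q' →
      (∀ a, q' a ∈ ([0, 1] : List (Fin 16))) → ∀ a, q' a = if lamb k a then q' 1 else 0 := by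
    intro q' h0 heq hq hm
    have h := eq_eval (al := fun _ x => x) h0 heq
    have m1 := hm (rep k 1)
    have m2 := hm (rep k 2)
    have m3 := hm (rep k 3)
    rw [h] at heq hq ⊢
    exact eval_trivial k _ m1 _ m2 _ m3 (slot_of h0 3) heq hq
  refine (key (fun a => bitAt j (q a)) h0' heq' hq' (fun a => bitAt_facts.2.2.2 _ _) a).trans ?_
  split
  · rfl
  · exact (bitAt_facts.2.2.1 j).symm

/-- Equivariant quadratic maps into a three-dimensional module. -/
theorem three_cases {k t : Fin 6} (ht : t = 0 ∨ t = 2) {q : Fin 16 → Fin 16} (h0 : q 0 = 0)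
    (hev : ∀ a, (q a).val % 2 = 0) (heq : ∀ g a, q (act k g a) = act t g (q a))
    (hq : BasisQuad q) : Kind3 k q := by
  have h := eq_eval h0 heq
  have hf := fix_of_rep heq
  rw [h] at heq hq ⊢
  exact eval_three k t (by simpa using ht) _ (hev _) (hf 1) _ (hev _) (hf 2) _ (hev _) (hf 3)
    (slot_of h0 3) heq hq

/-- Equivariant quadratic maps into a four-dimensional module. -/
theorem four_cases {k t : Fin 6} (ht : t = 4 ∨ t = 5) {q : Fin 16 → Fin 16} (h0 : q 0 = 0)
    (heq : ∀ g a, q (act k g a) = act t g (q a)) (hq : BasisQuad q) : Kind4 k q := by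
  have h := eq_eval h0 heq
  have hf := fix_of_rep heq
  rw [h] at heq hq ⊢
  exact eval_four k t (by simpa using ht) _ (hf 1) _ (hf 2) _ (hf 3) (slot_of h0 3) heq hq

end CfsgLib.L32Radical
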