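import Cfsg.Agent.L32Radical.Layers
import Cfsg.Agent.L32Radical.Gens

/-!
# Quotients of the data by normal subgroups of the small term
-/

set_option autoImplicit false
set_option linter.style.haveILetI false

namespace CfsgLib.L32Radical

open Cfsg CfsgLib.GLFourTwo CfsgLib.GLFourTwo.A5Mod

namespace Base

variable {X : Type*} [Group X] (B : Base X)

theorem E_congr {K : Subgroup X} [K.Normal] (hK : K ≤ B.N) {v w : ↥B.P}
    (h : QuotientGroup.mk' K (v : X) = QuotientGroup.mk' K (w : X)) : B.E v = B.E w := by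
  have h1 : ((w⁻¹ * v : ↥B.P) : X) ∈ B.N := hK (mk_eq_one.1 (by
    rw [Subgroup.coe_mul, Subgroup.coe_inv, _root_.map_mul, map_inv, h, inv_mul_cancel]))
  have h2 := B.map_mul w (w⁻¹ * v)
  rw [mul_inv_cancel_left, (B.eq_zero _).2 h1, (xr_facts.1 _).2.2] at h2
  exact h2

/-- The codes on the quotient. -/
noncomputable def quotE (K : Subgroup X) [K.Normal] (p : ↥(B.P.map (QuotientGroup.mk' K))) :
    Fin 16 :=
  B.E ⟨(Subgroup.mem_map.1 p.2).choose, (Subgroup.mem_map.1 p.2).choose_spec.1⟩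

theorem quotE_mk {K : Subgroup X} [K.Normal] (hK : K ≤ B.N) (v : X) (hv : v ∈ B.P)
    (h : QuotientGroup.mk' K v ∈ B.P.map (QuotientGroup.mk' K)) :
    B.quotE K ⟨_, h⟩ = B.E ⟨v, hv⟩ :=
  B.E_congr hK (Subgroup.mem_map.1 h).choose_spec.2

/-- The data modulo a normal subgroup of the small term. -/
noncomputable def quot (K : Subgroup X) [K.Normal] (hK : K ≤ B.N) : Base (X ⧸ K) where
  P := B.P.map (QuotientGroup.mk' K)
  N := B.N.map (QuotientGroup.mk' K)
  E := B.quotE K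
  k := B.k
  x := QuotientGroup.mk' K B.x
  y := QuotientGroup.mk' K B.y
  normalP := B.normalP.map _ (QuotientGroup.mk'_surjective K)
  normalN := B.normalN.map _ (QuotientGroup.mk'_surjective K)
  le := Subgroup.map_mono B.le
  sq := by
    rintro _ ⟨v, hv, rfl⟩
    exact ⟨v * v, B.sq v hv, _root_.map_mul _ v v⟩
  map_mul := by
    rintro ⟨_, v, hv, rfl⟩ ⟨_, w, hw, rfl⟩
    have hv' : QuotientGroup.mk' K v ∈ B.P.map (QuotientGroup.mk' K) :=
      Subgroup.mem_map_of_mem _ hv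
    have hw' : QuotientGroup.mk' K w ∈ B.P.map (QuotientGroup.mk' K) :=
      Subgroup.mem_map_of_mem _ hw
    show B.quotE K (⟨_, hv'⟩ * ⟨_, hw'⟩) = xr (B.quotE K ⟨_, hv'⟩) (B.quotE K ⟨_, hw'⟩)
    rw [B.quotE_mk hK v hv hv', B.quotE_mk hK w hw hw', ← B.map_mul]
    have h : QuotientGroup.mk' K (v * w) ∈ B.P.map (QuotientGroup.mk' K) :=
      ⟨_, mul_mem hv hw, rfl⟩
    exact (congrArg (B.quotE K) (Subtype.ext (_root_.map_mul _ v w).symm : _ =
      (⟨_, h⟩ : ↥(B.P.map (QuotientGroup.mk' K))))).trans (B.quotE_mk hK (v * w) (mul_mem hv hw) h)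
  eq_zero := by
    rintro ⟨_, v, hv, rfl⟩
    refine (congrArg (· = 0) (B.quotE_mk hK v hv (Subgroup.mem_map_of_mem _ hv))).to_iff.trans
      ((B.eq_zero _).trans ?_)
    refine ⟨fun h => ⟨v, h, rfl⟩, ?_⟩
    rintro ⟨n, hn, e⟩
    have h1 : n⁻¹ * v ∈ B.N := hK (mk_eq_one.1 (by rw [_root_.map_mul, map_inv, e, inv_mul_cancel]))
    have h2 := mul_mem hn h1
    rwa [mul_inv_cancel_left] at h2
  equiv := by
    rintro ⟨_, v, hv, rfl⟩
    have key : ∀ (g : X) (h : QuotientGroup.mk' K g * QuotientGroup.mk' K v *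
        (QuotientGroup.mk' K g)⁻¹ ∈ B.P.map (QuotientGroup.mk' K)),
        B.quotE K ⟨_, h⟩ = B.E (B.cj g ⟨v, hv⟩) := by
      intro g h
      have e : QuotientGroup.mk' K g * QuotientGroup.mk' K v * (QuotientGroup.mk' K g)⁻¹ =
          QuotientGroup.mk' K (g * v * g⁻¹) := by rw [_root_.map_mul, _root_.map_mul, map_inv]
      have h' : QuotientGroup.mk' K (g * v * g⁻¹) ∈ B.P.map (QuotientGroup.mk' K) := e ▸ h
      exact (congrArg (B.quotE K) (Subtype.ext e : _ =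
        (⟨_, h'⟩ : ↥(B.P.map (QuotientGroup.mk' K))))).trans
          (B.quotE_mk hK _ (B.normalP.conj_mem _ hv g) h')
    have e := B.quotE_mk hK v hv (Subgroup.mem_map_of_mem _ hv)
    exact ⟨((key _ _).trans (B.acts_x _)).trans (congrArg _ e.symm),
      ((key _ _).trans (B.acts_y _)).trans (congrArg _ e.symm)⟩
  range := by
    rcases B.range with h | ⟨hk, h⟩
    · refine Or.inl fun b => ?_
      obtain ⟨v, rfl⟩ := h b
      exact ⟨⟨QuotientGroup.mk' K v, Subgroup.mem_map_of_mem _ v.2⟩, B.quotE_mk hK v v.2 _⟩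
    · refine Or.inr ⟨hk, fun b => (h b).trans ⟨?_, ?_⟩⟩
      · rintro ⟨v, rfl⟩
        exact ⟨⟨QuotientGroup.mk' K v, Subgroup.mem_map_of_mem _ v.2⟩, B.quotE_mk hK v v.2 _⟩
      · rintro ⟨p, rfl⟩
        exact ⟨_, rfl⟩
  hker := by
    intro z hz
    obtain ⟨g, rfl⟩ := QuotientGroup.mk'_surjective K z
    refine ⟨g, B.hker g fun v => ?_, rfl⟩
    have hm : QuotientGroup.mk' K (v : X) ∈ B.P.map (QuotientGroup.mk' K) := ⟨v, v.2, rfl⟩
    have h1 := hz ⟨_, hm⟩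
    have hm' : QuotientGroup.mk' K (g * v * g⁻¹) ∈ B.P.map (QuotientGroup.mk' K) :=
      ⟨_, B.normalP.conj_mem _ v.2 g, rfl⟩
    rw [B.quotE_mk hK v v.2 hm] at h1
    rw [← B.quotE_mk hK _ (B.normalP.conj_mem _ v.2 g) hm', ← h1]
    exact congrArg (B.quotE K) (Subtype.ext (show QuotientGroup.mk' K (g * v * g⁻¹) = _ from by
      rw [_root_.map_mul, _root_.map_mul, map_inv]))
  gen := by
    refine (Subgroup.map_mono B.gen).trans ?_
    rw [MonoidHom.map_closure]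
    refine Subgroup.closure_mono ?_
    rintro _ ⟨_, ⟨v, rfl⟩, rfl⟩
    exact ⟨⟨_, v, v.2, rfl⟩, (_root_.map_mul _ _ _).symm⟩

variable {B}

theorem quot_E {K : Subgroup X} [K.Normal] {hK : K ≤ B.N} (v : ↥B.P)
    (h : QuotientGroup.mk' K (v : X) ∈ (B.quot K hK).P) :
    (B.quot K hK).E ⟨_, h⟩ = B.E v :=
  B.quotE_mk hK v v.2 h

theorem quot_index {K : Subgroup X} [K.Normal] (hK : K ≤ B.N) :
    (B.quot K hK).P.index = B.P.index :=
  Subgroup.index_map_eq _ (QuotientGroup.mk'_surjective K)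
    (by rw [QuotientGroup.ker_mk']; exact hK.trans B.le)

theorem quot_central {K : Subgroup X} [K.Normal] (hK : K ≤ B.N)
    (hc : ∀ n ∈ B.N, ∀ v ∈ B.P, n * v * n⁻¹ * v⁻¹ ∈ K) (he : ∀ n ∈ B.N, n * n ∈ K) :
    (B.quot K hK).Central :=
  ⟨by
    rintro _ ⟨n, hn, rfl⟩ _ ⟨v, hv, rfl⟩
    exact mk_comm (hc n hn v hv),
  by
    rintro _ ⟨n, hn, rfl⟩
    rw [← _root_.map_mul]
    exact mk_eq_one.2 (he n hn)⟩

end Base

end CfsgLib.L32Radical
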