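import Cfsg.Agent.GLFourTwo.A5Core

/-!
# The involutions satisfying the relations of `L₃(2)` with an element of order three

Maps of eight points are coded in base eight, so that the kernel computes with numerals.
-/

set_option autoImplicit false

namespace CfsgLib.L32Radical

open Equiv CfsgLib.GLFourTwo CfsgLib.GLFourTwo.A5Mod

/-- A value of a coded map. -/
def nth8 (c i : ℕ) : ℕ := c / 8 ^ i % 8

/-- The code of the first values of a map. -/
def pre8 (f : ℕ → ℕ) : ℕ → ℕ
  | 0 => 0
  | k + 1 => pre8 f k + f k * 8 ^ k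

/-- The code of the element of order three. -/
def genCode : Bool → ℕ
  | false => 16434705
  | true => 16373777

theorem genCode_spec : ∀ (s : Bool) (i : Fin 8), nth8 (genCode s) i.val = (genB s i).val := by
  decide +kernel

/-- The first values are those of an involution. -/
def okCode (k c : ℕ) : Bool :=
  (List.range k).all fun i => decide (k ≤ nth8 c i) || decide (nth8 c (nth8 c i) = i)

/-- The product with the element of order three, to the seventh power, fixes a point. -/
def sevenAt (g c i : ℕ) : Bool :=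
  decide (nth8 c (nth8 g (nth8 c (nth8 g (nth8 c (nth8 g (nth8 c (nth8 g (nth8 c (nth8 g
    (nth8 c (nth8 g (nth8 c (nth8 g i))))))))))))) = i)

/-- The map of the fourth relation. -/
def quadMap (g c i : ℕ) : ℕ := nth8 c (nth8 g (nth8 c (nth8 g (nth8 g i))))

/-- The fourth power relation at a point. -/
def fourAt (g c i : ℕ) : Bool := decide (quadMap g c (quadMap g c (quadMap g c (quadMap g c i))) = i)

/-- The solutions, with a standard pair and the position of a conjugating element. -/
def sols168 : List (ℕ × Fin 6 × Fin 18) :=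
  [
    (342391, 2, 17),
    (371511, 2, 15),
    (414967, 2, 13),
    (571823, 0, 16),
    (629671, 0, 14),
    (676767, 0, 12),
    (1623727, 5, 1),
    (1656655, 4, 2),
    (1742503, 5, 0),
    (1746703, 4, 1),
    (1753759, 5, 2),
    (1754319, 4, 0),
    (2177406, 0, 5),
    (2206526, 0, 4),
    (2249982, 0, 3),
    (2636221, 2, 11),
    (2722748, 2, 10),
    (2773435, 2, 9),
    (3688125, 4, 16),
    (3753848, 5, 14),
    (3835580, 4, 14),
    (3843896, 5, 12),
    (3850427, 4, 12),
    (3851512, 5, 16),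
    (4241902, 2, 8),
    (4299750, 2, 7),
    (4346846, 2, 6),
    (4471285, 0, 2),
    (4557812, 0, 1),
    (4608499, 0, 0),
    (5785549, 5, 4),
    (5818344, 4, 5),
    (5933004, 5, 3),
    (5937120, 4, 4),
    (5947851, 5, 5),
    (5948376, 4, 3),
    (7368277, 0, 15),
    (7401002, 0, 10),
    (7434049, 0, 7),
    (7802452, 2, 16),
    (7806498, 2, 5),
    (7810817, 2, 2),
    (7884429, 3, 14),
    (7917224, 3, 4),
    (7950152, 3, 1),
    (8031884, 1, 17),
    (8036000, 1, 11),
    (8040200, 1, 8),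
    (9206869, 2, 12),
    (9239594, 2, 3),
    (9272641, 2, 0),
    (9924691, 0, 17),
    (9925146, 0, 11),
    (9925825, 0, 8),
    (9991821, 1, 13),
    (10024616, 1, 9),
    (10057544, 1, 6),
    (10154123, 3, 16),
    (10154648, 3, 5),
    (10155208, 3, 2),
    (11504724, 0, 13),
    (11508770, 0, 9),
    (11513089, 0, 6),
    (11788371, 2, 14),
    (11788826, 2, 4),
    (11789505, 2, 1),
    (12289676, 3, 12),
    (12293792, 3, 3),
    (12297992, 3, 0),
    (12304523, 1, 15),
    (12305048, 1, 10),
    (12305608, 1, 7),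
    (14730926, 1, 2),
    (14763854, 3, 11),
    (14849702, 1, 1),
    (14853902, 3, 10),
    (14860958, 1, 0),
    (14861518, 3, 9),
    (14960309, 3, 8),
    (15026032, 1, 16),
    (15107764, 3, 7),
    (15116080, 1, 14),
    (15122611, 3, 6),
    (15123696, 1, 12),
    (15222669, 1, 5),
    (15255464, 3, 17),
    (15370124, 1, 4),
    (15374240, 3, 15),
    (15384971, 1, 3),
    (15385496, 3, 13),
    (15486093, 4, 17),
    (15518888, 4, 11),
    (15551816, 4, 8),
    (15633548, 5, 8),
    (15637664, 5, 17),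
    (15641864, 5, 11),
    (15754893, 5, 6),
    (15787688, 5, 13),
    (15820616, 5, 9),
    (15917195, 4, 13),
    (15917720, 4, 9),
    (15918280, 4, 6),
    (16189068, 4, 15),
    (16193184, 4, 10),
    (16197384, 4, 7),
    (16203915, 5, 7),
    (16204440, 5, 15),
    (16205000, 5, 10)]

/-- The test on a full code. -/
def leaf168 (s : Bool) (c : ℕ) : Bool :=
  !((List.range 8).all (sevenAt (genCode s) c)) || !((List.range 8).all (fourAt (genCode s) c)) ||
    (s && sols168.any fun e => decide (e.1 = c))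

/-- Depth-first enumeration of the involutions. -/
def go168 (s : Bool) : ℕ → ℕ → ℕ → Bool
  | 0, _, c => leaf168 s c
  | n + 1, k, c => (List.range 8).all fun x =>
      !okCode (k + 1) (c + x * 8 ^ k) || go168 s n (k + 1) (c + x * 8 ^ k)

set_option maxRecDepth 100000 in
theorem go168_true : ∀ s : Bool, go168 s 8 0 0 = true := by decide +kernel

set_option maxRecDepth 100000 in
theorem sols168_spec : ∀ e ∈ sols168, ∀ h : e.2.2.val < (conjList true).length, ∀ i : Fin 8,
    nth8 e.1 (((conjList true)[e.2.2.val].map fun p => swap p.1 p.2).prod i).val =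
      (((conjList true)[e.2.2.val].map fun p => swap p.1 p.2).prod (![
        ![3, 6, 7, 0, 5, 4, 1, 2], ![6, 3, 2, 1, 4, 5, 0, 7], ![1, 0, 5, 6, 7, 2, 3, 4],
        ![0, 1, 4, 3, 2, 7, 6, 5], ![7, 1, 3, 2, 4, 5, 6, 0], ![7, 4, 2, 3, 1, 5, 6, 0]]
        e.2.1 i : Fin 8)).val := by
  decide +kernel

theorem conjList_true_length : (conjList true).length = 18 := rfl

theorem pre8_lt {f : ℕ → ℕ} (hf : ∀ i, f i < 8) : ∀ k, pre8 f k < 8 ^ k
  | 0 => Nat.one_pos
  | k + 1 => by
    have := pre8_lt hf k
    have := Nat.mul_le_mul_right (8 ^ k) (Nat.le_sub_one_of_lt (hf k))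
    rw [pre8, pow_succ']
    omega

theorem nth8_pre8 {f : ℕ → ℕ} (hf : ∀ i, f i < 8) : ∀ k i, i < k → nth8 (pre8 f k) i = f i
  | 0, _, h => absurd h (Nat.not_lt_zero _)
  | k + 1, i, h => by
    have hlt := pre8_lt hf k
    rcases Nat.lt_succ_iff_lt_or_eq.1 h with hi | rfl
    · refine Eq.trans ?_ (nth8_pre8 hf k i hi)
      obtain ⟨m, rfl⟩ := Nat.exists_eq_add_of_le (Nat.succ_le_of_lt hi)
      rw [nth8, nth8, pre8,
        show f (i + 1 + m) * 8 ^ (i + 1 + m) = 8 * (f (i + 1 + m) * 8 ^ m) * 8 ^ i by
          rw [pow_add, pow_succ]; ring,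
        Nat.add_mul_div_right _ _ (Nat.pow_pos (by norm_num)), Nat.add_mul_mod_self_left]
    · rw [nth8, pre8, Nat.add_mul_div_right _ _ (Nat.pow_pos (by norm_num)), Nat.div_eq_of_lt hlt,
        zero_add, Nat.mod_eq_of_lt (hf i)]

theorem go168_sound {s : Bool} {f : ℕ → ℕ} (hf : ∀ i, f i < 8) (hff : ∀ i < 8, f (f i) = i) :
    ∀ n k, n + k = 8 → go168 s n k (pre8 f k) = true → leaf168 s (pre8 f 8) = true
  | 0, k, hk, h => by
    obtain rfl : k = 8 := by omega
    exact h
  | n + 1, k, hk, h => by
    refine go168_sound hf hff n (k + 1) (by omega) ?_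
    rw [go168, List.all_eq_true] at h
    have h1 := h (f k) (List.mem_range.2 (hf k))
    have hok : okCode (k + 1) (pre8 f (k + 1)) = true := by
      rw [okCode, List.all_eq_true]
      intro i hi
      rw [List.mem_range] at hi
      rw [nth8_pre8 hf _ i hi, Bool.or_eq_true, decide_eq_true_eq, decide_eq_true_eq]
      refine (Nat.lt_or_ge (f i) (k + 1)).elim (fun h2 => Or.inr ?_) Or.inl
      rw [nth8_pre8 hf _ _ h2]
      exact hff i (by omega)
    rw [show pre8 f k + f k * 8 ^ k = pre8 f (k + 1) from rfl, hok] at h1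
    simpa using h1

/-- An involution with the relations is conjugate to a standard one. -/
theorem search168 {s : Bool} {π : Perm (Fin 8)} (hπ : ∀ i, π (π i) = i)
    (h7 : ∀ i, (fun j => π (genB s j))^[7] i = i)
    (h4 : ∀ i, (fun j => π (genB s (π (genB s (genB s j)))))^[4] i = i) :
    s = true ∧ ∃ k : Fin 6, ∃ l ∈ conjList true, ∀ i, π ((l.map fun p => swap p.1 p.2).prod i) =
      (l.map fun p => swap p.1 p.2).prod (![
        ![3, 6, 7, 0, 5, 4, 1, 2], ![6, 3, 2, 1, 4, 5, 0, 7], ![1, 0, 5, 6, 7, 2, 3, 4],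
        ![0, 1, 4, 3, 2, 7, 6, 5], ![7, 1, 3, 2, 4, 5, 6, 0], ![7, 4, 2, 3, 1, 5, 6, 0]] k i) := by
  set f : ℕ → ℕ := fun i => (π (Fin.ofNat 8 i)).val with hfdef
  have hf : ∀ i, f i < 8 := fun i => Fin.is_lt _
  have hfv : ∀ i : Fin 8, f i.val = (π i).val := fun i => by
    simp only [hfdef, Fin.ofNat_val_eq_self]
  set c := pre8 f 8
  have hc : ∀ i : Fin 8, nth8 c i.val = (π i).val := fun i =>
    (nth8_pre8 hf 8 _ i.2).trans (hfv i)
  have hg := genCode_spec s
  have hff : ∀ i < 8, f (f i) = i := fun i hi => by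
    have e := hfv (π ⟨i, hi⟩)
    rw [hπ, ← hfv ⟨i, hi⟩] at e
    exact e
  have h := go168_sound hf hff 8 0 rfl (go168_true s)
  have hA : (List.range 8).all (sevenAt (genCode s) c) = true := by
    rw [List.all_eq_true]
    intro i hi
    rw [List.mem_range] at hi
    lift i to Fin 8 using hi
    simp only [sevenAt, decide_eq_true_eq, hg, hc]
    exact congrArg Fin.val (h7 i)
  have hB : (List.range 8).all (fourAt (genCode s) c) = true := by
    rw [List.all_eq_true]
    intro i hi
    rw [List.mem_range] at hi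
    lift i to Fin 8 using hi
    simp only [fourAt, quadMap, decide_eq_true_eq, hg, hc]
    exact congrArg Fin.val (h4 i)
  rw [leaf168, hA, hB] at h
  simp only [Bool.not_true, Bool.false_or, Bool.and_eq_true, List.any_eq_true,
    decide_eq_true_eq] at h
  obtain ⟨hs, e, he, hec⟩ := h
  have hlen : e.2.2.val < (conjList true).length := Nat.lt_of_lt_of_eq e.2.2.2 conjList_true_length.symm
  refine ⟨hs, e.2.1, _, List.getElem_mem hlen, fun i => Fin.ext ?_⟩
  rw [← hc]
  exact (congrArg (nth8 · _) hec).symm.trans (sols168_spec e he hlen i)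

end CfsgLib.L32Radical
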