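import Cfsg.Agent.L32Radical.Search168

/-!
# The six actions of `L₃(2)` on a four-dimensional space over the field with two elements
-/

set_option autoImplicit false

namespace CfsgLib.L32Radical

open Equiv Cfsg CfsgLib.GLFourTwo CfsgLib.GLFourTwo.A5Mod Matrix

/-- The involutions on eight points, as functions. -/
def permA : Fin 6 → Fin 8 → Fin 8 :=
  ![![3, 6, 7, 0, 5, 4, 1, 2],
    ![6, 3, 2, 1, 4, 5, 0, 7],
    ![1, 0, 5, 6, 7, 2, 3, 4],
    ![0, 1, 4, 3, 2, 7, 6, 5],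
    ![7, 1, 3, 2, 4, 5, 6, 0],
    ![7, 4, 2, 3, 1, 5, 6, 0]]

/-- The matrices inducing `permA`. -/
def matA : Fin 6 → Matrix (Fin 4) (Fin 4) (ZMod 2) :=
  ![!![0,1,0,1; 0,1,0,0; 0,0,1,0; 1,1,0,0],
    !![0,1,0,1; 0,1,0,0; 0,1,1,0; 1,1,0,0],
    !![0,0,0,1; 0,1,0,0; 0,0,1,0; 1,0,0,0],
    !![0,0,0,1; 0,1,0,0; 0,1,1,0; 1,0,0,0],
    !![0,1,0,1; 1,1,1,1; 1,0,0,1; 0,1,1,1],
    !![0,0,0,1; 1,1,1,1; 0,0,1,0; 1,0,0,0]]

/-- The standard action on codes of the two generators. -/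
def act : Fin 6 → Bool → Fin 16 → Fin 16
  | 0, false => ![0, 1, 4, 5, 2, 3, 6, 7, 8, 9, 12, 13, 10, 11, 14, 15]
  | 0, true => ![0, 1, 2, 3, 8, 9, 10, 11, 12, 13, 14, 15, 4, 5, 6, 7]
  | 1, false => ![0, 1, 4, 5, 2, 3, 6, 7, 9, 8, 13, 12, 11, 10, 15, 14]
  | 1, true => ![0, 1, 2, 3, 8, 9, 10, 11, 12, 13, 14, 15, 4, 5, 6, 7]
  | 2, false => ![0, 1, 4, 5, 2, 3, 6, 7, 14, 15, 10, 11, 12, 13, 8, 9]
  | 2, true => ![0, 1, 2, 3, 8, 9, 10, 11, 12, 13, 14, 15, 4, 5, 6, 7]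
  | 3, false => ![0, 1, 4, 5, 2, 3, 6, 7, 15, 14, 11, 10, 13, 12, 9, 8]
  | 3, true => ![0, 1, 2, 3, 8, 9, 10, 11, 12, 13, 14, 15, 4, 5, 6, 7]
  | 4, false => ![0, 9, 4, 13, 2, 11, 6, 15, 8, 1, 12, 5, 10, 3, 14, 7]
  | 4, true => ![0, 1, 2, 3, 8, 9, 10, 11, 12, 13, 14, 15, 4, 5, 6, 7]
  | 5, false => ![0, 11, 4, 15, 2, 9, 6, 13, 14, 5, 10, 1, 12, 7, 8, 3]
  | 5, true => ![0, 1, 2, 3, 8, 9, 10, 11, 12, 13, 14, 15, 4, 5, 6, 7]

/-- The change to standard coordinates. -/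
def chg : Fin 16 → Fin 16 := ![0, 5, 10, 15, 1, 4, 11, 14, 3, 6, 9, 12, 2, 7, 8, 13]

set_option maxRecDepth 100000 in
theorem matA_spec : ∀ k : Fin 6, (matA k).det = 1 ∧
    ∀ p q : Fin 8, matA k * (v p + v q) * (matA k).transpose = v (permA k p) + v (permA k q) := by
  decide +kernel

theorem permA_involutive : ∀ (k : Fin 6) (i : Fin 8), permA k (permA k i) = i := by
  decide +kernel

/-- The permutations `permA`. -/
def genX (k : Fin 6) : Perm (Fin 8) := ⟨permA k, permA k, permA_involutive k, permA_involutive k⟩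

theorem genX_sign : ∀ k : Fin 6, Perm.sign (genX k) = 1 := by decide +kernel

theorem chg_facts : (∀ a b, chg (xr a b) = xr (chg a) (chg b)) ∧ (∀ a b, chg a = chg b → a = b) ∧
    (∀ a, chg a = 0 → a = 0) := by
  decide +kernel

set_option maxRecDepth 100000 in
theorem chg_mulVec : ∀ (k : Fin 6) (w : Fin 4 → ZMod 2),
    chg (enc ((matA k).mulVec w)) = act k false (chg (enc w)) ∧
      chg (enc ((matGB true).mulVec w)) = act k true (chg (enc w)) := by
  decide +kernel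

/-- Pairs of elements of orders 2 and 3 satisfying the relations of `L₃(2)` are conjugate in `A₈` to
one of six standard pairs. -/
theorem exists_std_pair168 {a b : Perm (Fin 8)} (ha : a * a = 1) (hb : b ^ 3 = 1) (hb1 : b ≠ 1)
    (hab : (a * b) ^ 7 = 1) (hcom : (a * b * a * b * b) ^ 4 = 1) :
    ∃ (k : Fin 6) (c : Perm (Fin 8)), Perm.sign c = 1 ∧
      a * c = c * genX k ∧ b * c = c * genB true := by
  obtain ⟨s, c, hc, hbc⟩ := exists_conj_genB hb hb1
  have hb' : b = c * genB s * c⁻¹ := by rw [← hbc]; group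
  set π := c⁻¹ * a * c with hπdef
  have hπ2 : π * π = 1 := by
    rw [hπdef, show c⁻¹ * a * c * (c⁻¹ * a * c) = c⁻¹ * (a * a) * c by group, ha]; group
  have h7 : (π * genB s) ^ 7 = 1 := by
    rw [show π * genB s = c⁻¹ * (a * b) * c⁻¹⁻¹ by rw [hπdef, hb', inv_inv]; group, conj_pow, hab]
    group
  have h4 : (π * genB s * π * genB s * genB s) ^ 4 = 1 := by
    rw [show π * genB s * π * genB s * genB s = c⁻¹ * (a * b * a * b * b) * c⁻¹⁻¹ by
      rw [hπdef, hb', inv_inv]; group, conj_pow, hcom]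
    group
  have hππ : ∀ i, π (π i) = i := fun i => by
    rw [← Perm.mul_apply, hπ2]; rfl
  obtain ⟨rfl, k, l, hl, hlπ⟩ := search168 hππ (fun i => by
    have e := DFunLike.congr_fun h7 i
    rw [Perm.coe_pow] at e
    exact e) (fun i => by
    have e := DFunLike.congr_fun h4 i
    rw [Perm.coe_pow] at e
    exact e)
  set d := (l.map fun p => swap p.1 p.2).prod with hd
  have hdb : genB true * d = d * genB true := Equiv.ext fun i => (conjList_comm true l hl).1 i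
  refine ⟨k, c * d, by rw [map_mul, hc, (conjList_comm true l hl).2, mul_one], ?_, ?_⟩
  · have hπd : π * d = d * genX k := Equiv.ext hlπ
    rw [mul_assoc c d, ← hπd, hπdef]; group
  · rw [← mul_assoc, hbc, mul_assoc, hdb, ← mul_assoc]

end CfsgLib.L32Radical
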