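import Cfsg.Agent.L32Radical.Check

/-!
# Certificates: M30
-/

set_option autoImplicit false

namespace CfsgLib.L32Radical

/-- The orders. -/
def dimM0 : Dim := ⟨1, 4, 4, 4, by decide, by decide, by decide, by decide⟩

/-- The standard map of order three. -/
def BM30 : Quad := (0, 1, 16, 60)

/-- The word of the conjugating element. -/
def wM30 : List Bool := [true, true, false, true, false, true, true, false, true]

/-- Certificates. -/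
def certsM30_0 : List Cert := [
  ⟨(0, 4, 1, 26), (0, 26, 63, 4), (0, 14, 11, 63), (0, 19, 22, 16), (0, 3, 12, 31), [0, 10], [0, 2, 5, 7, 8, 10, 13, 15, 32, 34, 37, 39, 40, 42, 45, 47]⟩,
  ⟨(0, 4, 1, 58), (0, 58, 61, 4), (0, 6, 9, 61), (0, 17, 62, 48), (0, 3, 12, 29), [0, 10], [0, 2, 5, 7, 8, 10, 13, 15, 32, 34, 37, 39, 40, 42, 45, 47]⟩,
  ⟨(0, 6, 9, 26), (0, 18, 21, 38), (0, 6, 9, 61), (0, 57, 28, 16), (0, 3, 12, 29), [0, 10], [0, 2, 5, 7, 8, 10, 13, 15, 32, 34, 37, 39, 40, 42, 45, 47]⟩,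
  ⟨(0, 6, 9, 58), (0, 50, 23, 38), (0, 14, 11, 63), (0, 59, 52, 48), (0, 3, 12, 31), [0, 10], [0, 2, 5, 7, 8, 10, 13, 15, 32, 34, 37, 39, 40, 42, 45, 47]⟩,
  ⟨(0, 12, 3, 26), (0, 58, 61, 4), (0, 6, 9, 61), (0, 51, 22, 16), (0, 3, 12, 29), [0, 10], [0, 2, 5, 7, 8, 10, 13, 15, 32, 34, 37, 39, 40, 42, 45, 47]⟩,
  ⟨(0, 12, 3, 58), (0, 26, 63, 4), (0, 14, 11, 63), (0, 49, 62, 48), (0, 3, 12, 31), [0, 10], [0, 2, 5, 7, 8, 10, 13, 15, 32, 34, 37, 39, 40, 42, 45, 47]⟩,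
  ⟨(0, 14, 11, 26), (0, 50, 23, 38), (0, 14, 11, 63), (0, 25, 28, 16), (0, 3, 12, 31), [0, 10], [0, 2, 5, 7, 8, 10, 13, 15, 32, 34, 37, 39, 40, 42, 45, 47]⟩,
  ⟨(0, 14, 11, 58), (0, 18, 21, 38), (0, 6, 9, 61), (0, 27, 52, 48), (0, 3, 12, 29), [0, 10], [0, 2, 5, 7, 8, 10, 13, 15, 32, 34, 37, 39, 40, 42, 45, 47]⟩,
  ⟨(0, 36, 33, 16), (0, 50, 63, 6), (0, 46, 33, 31), (0, 59, 62, 48), (0, 3, 6, 53), [0, 10], [0, 2, 5, 7, 8, 10, 13, 15, 32, 34, 37, 39, 40, 42, 45, 47]⟩,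
  ⟨(0, 36, 33, 48), (0, 18, 61, 6), (0, 38, 35, 29), (0, 57, 22, 16), (0, 3, 6, 55), [0, 10], [0, 2, 5, 7, 8, 10, 13, 15, 32, 34, 37, 39, 40, 42, 45, 47]⟩,
  ⟨(0, 38, 41, 16), (0, 58, 21, 36), (0, 38, 35, 29), (0, 17, 52, 48), (0, 3, 6, 55), [0, 10], [0, 2, 5, 7, 8, 10, 13, 15, 32, 34, 37, 39, 40, 42, 45, 47]⟩,
  ⟨(0, 38, 41, 48), (0, 26, 23, 36), (0, 46, 33, 31), (0, 19, 28, 16), (0, 3, 6, 53), [0, 10], [0, 2, 5, 7, 8, 10, 13, 15, 32, 34, 37, 39, 40, 42, 45, 47]⟩,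
  ⟨(0, 44, 35, 16), (0, 18, 61, 6), (0, 38, 35, 29), (0, 27, 62, 48), (0, 3, 6, 55), [0, 10], [0, 2, 5, 7, 8, 10, 13, 15, 32, 34, 37, 39, 40, 42, 45, 47]⟩,
  ⟨(0, 44, 35, 48), (0, 50, 63, 6), (0, 46, 33, 31), (0, 25, 22, 16), (0, 3, 6, 53), [0, 10], [0, 2, 5, 7, 8, 10, 13, 15, 32, 34, 37, 39, 40, 42, 45, 47]⟩,
  ⟨(0, 46, 43, 16), (0, 26, 23, 36), (0, 46, 33, 31), (0, 49, 52, 48), (0, 3, 6, 53), [0, 10], [0, 2, 5, 7, 8, 10, 13, 15, 32, 34, 37, 39, 40, 42, 45, 47]⟩,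
  ⟨(0, 46, 43, 48), (0, 58, 21, 36), (0, 38, 35, 29), (0, 51, 28, 16), (0, 3, 6, 55), [0, 10], [0, 2, 5, 7, 8, 10, 13, 15, 32, 34, 37, 39, 40, 42, 45, 47]⟩]

theorem goodM30_0 : ∀ c ∈ certsM30_0, GoodP dimM0 BM30 wM30 c := by
  decide +kernel

/-- All certificates. -/
def certsM30 : List Cert := certsM30_0

theorem goodM30 : ∀ c ∈ certsM30, Good dimM0 BM30 wM30 c := by
  intro c hc
  exact good_of_goodP (goodM30_0 c hc)

/-- Candidates. -/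
def candM30_0 : List ℕ := [0]

/-- Candidates. -/
def candM30_1 : List ℕ := [4, 6, 12, 14, 36, 38, 44, 46]

/-- Candidates. -/
def candM30_2 : List ℕ := [1, 3, 9, 11, 33, 35, 41, 43]

/-- Candidates. -/
def candM30_3 : List ℕ := [16, 18, 24, 26, 48, 50, 56, 58]

theorem candM30_0_spec : ∀ a ∈ List.range dimM0.size, Cand dimM0 0 1 a → a ∈ candM30_0 := by
  decide +kernel

theorem candM30_1_spec : ∀ a ∈ List.range dimM0.size, Cand dimM0 4 4 a → a ∈ candM30_1 := by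
  decide +kernel

theorem candM30_2_spec : ∀ a ∈ List.range dimM0.size, Cand dimM0 2 4 a → a ∈ candM30_2 := by
  decide +kernel

theorem candM30_3_spec : ∀ a ∈ List.range dimM0.size, Cand dimM0 8 4 a → a ∈ candM30_3 := by
  decide +kernel

set_option maxRecDepth 100000 in
theorem coverM30 : ∀ a ∈ candM30_0, ∀ b ∈ candM30_1, ∀ c ∈ candM30_2, ∀ e ∈ candM30_3,
    Adm dimM0 false (a, b, c, e) BM30 → (a, b, c, e) ∈ certsM30.map Cert.A := by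
  decide +kernel

theorem threeM30 : ∀ a ∈ List.range dimM0.size,
    dimM0.ap BM30 (dimM0.ap BM30 (dimM0.ap BM30 a)) = a := by
  decide +kernel

end CfsgLib.L32Radical
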