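import Cfsg.Agent.L32Radical.Frames

/-!
# A faithful layer gives an elementary abelian section of order 32
-/

set_option autoImplicit false
set_option linter.style.haveILetI false

namespace CfsgLib.L32Radical

open Cfsg CfsgLib.GLFourTwo CfsgLib.GLFourTwo.A5Mod

/-- A table matches a module. -/
def TableOK (T : Table) (k : Fin 6) : Prop :=
  Shape T.d T.B ∧ Base.Commutes k T.w ∧
    (act k false (Fin.ofNat 16 (T.d.code T.d.gens.1))).val = T.t.1 ∧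
    (act k false (Fin.ofNat 16 (T.d.code T.d.gens.2.1))).val = T.t.2.1 ∧
    (act k false (Fin.ofNat 16 (T.d.code T.d.gens.2.2.1))).val = T.t.2.2.1 ∧
    (act k false (Fin.ofNat 16 (T.d.code T.d.gens.2.2.2))).val = T.t.2.2.2

instance (k : Fin 6) (w : List Bool) : Decidable (Base.Commutes k w) := by
  unfold Base.Commutes; infer_instance

instance (T : Table) (k : Fin 6) : Decidable (TableOK T k) := by unfold TableOK; infer_instance

/-- Some element of a large subgroup of every certificate has order four. -/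
def HasFour (T : Table) : Prop := ∀ c ∈ T.certs, ∃ a ∈ c.S, T.d.add a a ≠ 0

instance (T : Table) : Decidable (HasFour T) := by unfold HasFour; infer_instance

theorem tables_M3 : ∀ k : Fin 6, (k = 0 ∨ k = 4 → TableOK tabM30 k ∧ HasFour tabM30) ∧
    (k = 2 ∨ k = 5 → TableOK tabM32 k ∧ HasFour tabM32) := by
  decide +kernel

theorem tables_P7 : ∀ k : Fin 6, (k = 0 → TableOK tabP70 k) ∧ (k = 1 → TableOK tabP71 k) ∧
    (k = 2 → TableOK tabP72 k) ∧ (k = 3 → TableOK tabP73 k) := by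
  decide +kernel

theorem tables_Z6 : TableOK tabZ60 0 ∧ TableOK tabZ62 2 ∧ TableOK tabZ64 4 ∧ TableOK tabZ65 5 := by
  decide +kernel

theorem tables_Q8 : TableOK tabQ84 4 ∧ TableOK tabQ85 5 := by decide +kernel

theorem fixed_outside_image : ∀ k : Fin 6, k = 0 ∨ k = 2 ∨ k = 4 ∨ k = 5 →
    ∀ j : Bool, ∃ h : Fin 16, h.val % 2 = 0 ∧
      (cond j (Base.uMap k)^[2] (act k false)) h = h ∧
      ∀ r : Fin 16, r.val % 2 = 0 → xr r ((cond j (Base.uMap k)^[2] (act k false)) r) ≠ h := by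
  decide +kernel

theorem even_facts : (∀ a b : Fin 16, a.val % 2 = 0 → b.val % 2 = 0 → (xr a b).val % 2 = 0) ∧
    (∀ a b : Fin 16, a.val % 2 = 1 → b.val % 2 = 0 → (xr a b).val % 2 = 1) ∧
    ∀ a b : Fin 16, a.val % 2 = 1 → b.val % 2 = 1 → (xr a b).val % 2 = 0 := by
  decide +kernel

namespace Base

variable {X : Type*} [Group X] (B : Base X)

variable {B} in
theorem Central.four (L : B.Central) : ∀ n ∈ B.N, n ^ 4 = 1 := fun n hn => by
  rw [show (4 : ℕ) = 2 * 2 from rfl, pow_mul, pow_two, pow_two, L.exp n hn, one_mul]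

/-- The preimage of the even codes. -/
def evens : Subgroup X where
  carrier := {z | ∃ h : z ∈ B.P, (B.E ⟨z, h⟩).val % 2 = 0}
  one_mem' := ⟨B.P.one_mem, by
    rw [show (⟨1, B.P.one_mem⟩ : ↥B.P) = 1 from rfl, B.E_one]; rfl⟩
  mul_mem' := by
    rintro a b ⟨ha, ea⟩ ⟨hb, eb⟩
    refine ⟨mul_mem ha hb, ?_⟩
    rw [show (⟨a * b, mul_mem ha hb⟩ : ↥B.P) = ⟨a, ha⟩ * ⟨b, hb⟩ from rfl, B.map_mul]
    exact even_facts.1 _ _ ea eb
  inv_mem' := by
    rintro a ⟨ha, ea⟩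
    refine ⟨inv_mem ha, ?_⟩
    rw [show (⟨a⁻¹, inv_mem ha⟩ : ↥B.P) = (⟨a, ha⟩ : ↥B.P)⁻¹ from rfl, B.E_inv]
    exact ea

theorem mem_evens {v : ↥B.P} : (v : X) ∈ B.evens ↔ (B.E v).val % 2 = 0 :=
  ⟨fun ⟨_, h⟩ => h, fun h => ⟨v.2, h⟩⟩

theorem evens_le : B.evens ≤ B.P := fun _ h => h.1

theorem N_le_evens : B.N ≤ B.evens := fun z hz => ⟨B.le hz, by
  rw [(B.eq_zero ⟨z, B.le hz⟩).2 hz]; rfl⟩

theorem evens_cases (b : Fin 16) (hb : b.val % 2 = 0) :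
    ∃ v : ↥B.P, (v : X) ∈ B.evens ∧ B.E v = b := by
  obtain ⟨v, rfl⟩ : ∃ v, B.E v = b := by
    rcases B.range with h | ⟨-, h⟩
    · exact h b
    · exact (h b).1 hb
  exact ⟨v, B.mem_evens.2 hb, rfl⟩

theorem conj_mem_evens (hk : B.k = 0 ∨ B.k = 2 ∨ B.k = 4 ∨ B.k = 5) {z : X} {g : Bool}
    (hz : B.Acts z (act B.k g)) {m : X} (hm : m ∈ B.evens) : z * m * z⁻¹ ∈ B.evens := by
  obtain ⟨h, he⟩ := hm
  refine ⟨B.normalP.conj_mem _ h z, ?_⟩
  rw [show B.E ⟨z * m * z⁻¹, B.normalP.conj_mem _ h z⟩ = B.E (B.cj z ⟨m, h⟩) from rfl, hz]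
  exact act_facts.2.2.1 _ _ _ hk he

/-- The same data with another element of order 3. -/
def changeY (y' : X) (h : B.Acts y' (act B.k true)) : Base X :=
  { B with y := y', equiv := fun v => ⟨(B.equiv v).1, h v⟩ }

variable [Finite X]

/-- A configuration from a table. -/
theorem false_of_table' (hr : SectionalPRankLE 2 4 X) (T : Table) (hT : TableOK T B.k)
    (hN4 : ∀ n ∈ B.N, n ^ 4 = 1)
    {M : Subgroup X} (hMP : M ≤ B.P) (hNM : B.N ≤ M) (hMx : ∀ m ∈ M, B.x * m * B.x⁻¹ ∈ M)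
    (hMy : ∀ m ∈ M, B.y * m * B.y⁻¹ ∈ M) (hMc : ∀ a ∈ M, ∀ b ∈ M, a * b = b * a)
    (hy3 : B.y * B.y * B.y ∈ M) (hxx : B.x * B.x ∈ M)
    (hu4 : (B.x * B.y * B.x⁻¹ * B.y⁻¹) ^ 4 ∈ M) (h7 : T.seven = true → (B.x * B.y) ^ 7 ∈ M)
    (hP0 : B.P ≤ M ∨ HasFour T ∧ ∀ z ∈ B.P, z ∉ M → ∀ m ∈ M, z * m * z⁻¹ = m⁻¹)
    (hcodes : ∀ b : Fin 16, (T.d.m0 = 1 → b.val % 2 = 0) → ∃ v : ↥B.P, (v : X) ∈ M ∧ B.E v = b)
    (heven : ∀ v : ↥B.P, (v : X) ∈ M → T.d.m0 = 1 → (B.E v).val % 2 = 0)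
    (hexp : ∀ b : Fin 16, b.val % 2 = 0 →
      ∃ v : ↥B.P, (v : X) ∈ M ∧ B.E v = b ∧ (v : X) ^ T.d.m1 = 1)
    (hexp0 : ∀ v : ↥B.P, (v : X) ∈ M → B.E v = 1 → (v : X) ^ T.d.m0 = 1)
    (hsq : ∀ n ∈ B.N, ∃ v ∈ M, v * v = n)
    (hsize : T.d.size ≤ Nat.card B.N * (if T.d.m0 = 1 then 8 else 16)) : False := by
  obtain ⟨hshape, hcomm, t0, t1, t2, t3⟩ := hT
  have hy3' : ∀ m ∈ M, B.y * (B.y * (B.y * m * B.y⁻¹) * B.y⁻¹) * B.y⁻¹ = m := by
    intro m hm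
    rw [show B.y * (B.y * (B.y * m * B.y⁻¹) * B.y⁻¹) * B.y⁻¹ =
      B.y * B.y * B.y * m * (B.y * B.y * B.y)⁻¹ by group, hMc _ hy3 _ hm, mul_inv_cancel_right]
  obtain ⟨F, hinj, hval, hsurj, hcode, hy⟩ := B.exists_frame T.d T.B hshape hN4 hMP hNM hMy hMc hy3'
    hcodes heven hexp hexp0 hsq hsize
  obtain ⟨v0, v1, v2, v3⟩ := val_gens F
  have key : ∀ (a g : ℕ) (u : X), F.val g = u → F.val a = B.x * u * B.x⁻¹ →
      T.d.code a = (act B.k false (Fin.ofNat 16 (T.d.code g))).val := by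
    rintro a g _ rfl h
    rw [← hcode a (hMP (hval a)), ← hcode g (hMP (hval g)), Fin.ofNat_val_eq_self,
      ← B.acts_x]
    exact congrArg Fin.val (congrArg B.E (Subtype.ext h))
  refine false_of_table hr T F hinj hval hsurj hMx hy
    (fun a _ => ⟨fun h => (key a _ _ v0 h).trans t0, fun h => (key a _ _ v1 h).trans t1,
      fun h => (key a _ _ v2 h).trans t2, fun h => (key a _ _ v3 h).trans t3⟩)
    hxx hu4 h7 (P0 := B.P) (fun m hm n hn => B.commutator_mem hcomm (hMP hm) (hMP hn))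
    fun c hc z hz hfix => ?_
  rcases hP0 with h | ⟨hfour, hinv⟩
  · exact h hz
  · by_contra hzM
    obtain ⟨a, ha, hne⟩ := hfour c hc
    refine hne (hinj _ (T.d.add_lt _ _) 0 T.d.size_pos ?_)
    have h1 := hinv z hz hzM _ (hval a)
    rw [hfix a ha, eq_inv_iff_mul_eq_one] at h1
    rw [F.val_add, F.val_zero, h1]

end Base

end CfsgLib.L32Radical
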